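import Mathlib.GroupTheory.Perm.Fin
import Mathlib.GroupTheory.SpecificGroups.Alternating
import Mathlib.Data.ZMod.Basic
import Mathlib.Algebra.CharP.Two
import Mathlib.Algebra.Module.Pi
import Mathlib.Algebra.BigOperators.Group.Finset.Basic

/-!
# The even module of the alternating group of odd degree

An additive bijection of the even vectors normalising the alternating group is a permutation of
the coordinates.
-/

set_option autoImplicit false
set_option linter.all false

namespace CfsgLib.LocalEven.EvenPerm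

open Equiv

variable {n : ℕ}

/-- The vectors with even weight. -/
abbrev Ev (v : Fin n → ZMod 2) : Prop := ∑ i, v i = 0

/-- The weight. -/
def wt (v : Fin n → ZMod 2) : ℕ := (Finset.univ.filter fun i => v i = 1).card

/-- The vector with ones at `a` and `b`. -/
def pr (a b : Fin n) : Fin n → ZMod 2 := Pi.single a 1 + Pi.single b 1

/-- Permuted vector. -/
def pm (σ : Perm (Fin n)) (v : Fin n → ZMod 2) : Fin n → ZMod 2 := fun i => v (σ⁻¹ i)

/-- The complement of a point. -/
def co (a : Fin n) : Fin n → ZMod 2 := fun i => if i = a then 0 else 1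

theorem two_cases (x : ZMod 2) : x = 0 ∨ x = 1 := by revert x; decide

theorem sum_eq_wt (v : Fin n → ZMod 2) : ∑ i, v i = (wt v : ZMod 2) := by
  have h : ∀ i, v i = if v i = 1 then (1 : ZMod 2) else 0 := fun i => by
    rcases two_cases (v i) with e | e <;> simp [e]
  rw [Finset.sum_congr rfl fun i _ => h i, Finset.sum_boole]
  rfl

theorem ev_iff (v : Fin n → ZMod 2) : Ev v ↔ Even (wt v) := by
  rw [Ev, sum_eq_wt, ZMod.natCast_eq_zero_iff_even]

theorem wt_add (u v : Fin n → ZMod 2) : wt (u + v) ≤ wt u + wt v := by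
  refine le_trans (Finset.card_le_card fun i hi => ?_) (Finset.card_union_le _ _)
  simp only [Finset.mem_filter, Finset.mem_univ, true_and, Pi.add_apply, Finset.mem_union] at hi ⊢
  by_contra h
  push Not at h
  rw [(two_cases (u i)).resolve_right h.1, (two_cases (v i)).resolve_right h.2] at hi
  exact absurd hi (by decide)

theorem ev_add {u v : Fin n → ZMod 2} (hu : Ev u) (hv : Ev v) : Ev (u + v) := by
  simp only [Ev, Pi.add_apply, Finset.sum_add_distrib] at *
  rw [hu, hv, add_zero]

theorem ev_pr (a b : Fin n) : Ev (pr a b) := by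
  simp only [Ev, pr, Pi.add_apply, Finset.sum_add_distrib, Finset.sum_pi_single', Finset.mem_univ, if_true]
  exact CharTwo.add_self_eq_zero _

theorem ev_pm (σ : Perm (Fin n)) {v : Fin n → ZMod 2} (hv : Ev v) : Ev (pm σ v) := by
  simp only [Ev, pm] at *
  rw [Equiv.sum_comp (σ⁻¹ : Perm (Fin n)) v]
  exact hv

theorem pm_mul (σ τ : Perm (Fin n)) (v : Fin n → ZMod 2) : pm (σ * τ) v = pm σ (pm τ v) := by
  funext i
  simp [pm, mul_inv_rev]

theorem pm_add (σ : Perm (Fin n)) (u v : Fin n → ZMod 2) : pm σ (u + v) = pm σ u + pm σ v := rfl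

theorem pm_single (σ : Perm (Fin n)) (a : Fin n) : pm σ (Pi.single a 1) = Pi.single (σ a) 1 := by
  funext i
  simp only [pm, Pi.single_apply]
  exact if_congr ⟨fun h => by rw [← h]; simp, fun h => by rw [h]; simp⟩ rfl rfl

theorem pm_pr (σ : Perm (Fin n)) (a b : Fin n) : pm σ (pr a b) = pr (σ a) (σ b) := by
  rw [pr, pm_add, pm_single, pm_single, pr]

theorem exists_third (hn : 3 ≤ n) (a b : Fin n) : ∃ c, c ≠ a ∧ c ≠ b := by
  obtain ⟨c, -, hc⟩ : ∃ c ∈ (Finset.univ : Finset (Fin n)), c ∉ ({a, b} : Finset (Fin n)) := by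
    apply Finset.exists_mem_notMem_of_card_lt_card
    rw [Finset.card_univ, Fintype.card_fin]
    exact lt_of_le_of_lt Finset.card_le_two (by omega)
  simp only [Finset.mem_insert, Finset.mem_singleton, not_or] at hc
  exact ⟨c, hc⟩

theorem eq_one_of_fix (hn : 3 ≤ n) {σ : Perm (Fin n)} (h : ∀ v, Ev v → pm σ v = v) : σ = 1 := by
  refine Equiv.ext fun a => ?_
  by_contra hne
  rw [Perm.one_apply] at hne
  obtain ⟨k, hka, hks⟩ := exists_third hn a (σ a)
  have h1 := congrFun (h _ (ev_pr a k)) (σ a)
  simp [pm, pr, Pi.single_apply, hne, hka.symm, hks.symm] at h1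

theorem cycle_mem {a b c : Fin n} (hab : a ≠ b) (hbc : b ≠ c) : swap a b * swap b c ∈ alternatingGroup (Fin n) := by
  rw [Perm.mem_alternatingGroup, map_mul, Perm.sign_swap hab, Perm.sign_swap hbc]
  rfl

theorem ev_co {m : ℕ} (hn : n = 2 * m + 1) (a : Fin n) : Ev (co a) := by
  rw [ev_iff]
  have : wt (co a) = n - 1 := by
    rw [wt, show (Finset.univ.filter fun i => co a i = 1) = Finset.univ.erase a by
      ext i; by_cases h : i = a <;> simp [co, h], Finset.card_erase_of_mem (Finset.mem_univ a), Finset.card_univ,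
      Fintype.card_fin]
  rw [this, hn]
  exact ⟨m, by omega⟩

theorem wt_co (a : Fin n) : wt (co a) = n - 1 := by
  rw [wt, show (Finset.univ.filter fun i => co a i = 1) = Finset.univ.erase a by
    ext i; by_cases h : i = a <;> simp [co, h], Finset.card_erase_of_mem (Finset.mem_univ a), Finset.card_univ,
    Fintype.card_fin]

theorem pm_co (σ : Perm (Fin n)) (a : Fin n) : pm σ (co a) = co (σ a) := by
  funext i
  simp only [pm, co]
  exact if_congr ⟨fun h => by rw [← h]; simp, fun h => by rw [h]; simp⟩ rfl rfl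

theorem co_sum {m : ℕ} (hn : n = 2 * m + 1) {v : Fin n → ZMod 2} (hv : Ev v) : ∑ i, v i • co i = v := by
  funext k
  rw [Finset.sum_apply]
  have e : ∀ i, (v i • co i) k = v i + (if i = k then v i else 0) := fun i => by
    by_cases h : i = k
    · subst h; simp [co, CharTwo.add_self_eq_zero]
    · simp [co, h, Ne.symm h]
  rw [Finset.sum_congr rfl fun i _ => e i, Finset.sum_add_distrib, Finset.sum_ite_eq', if_pos (Finset.mem_univ k)]
  simp only [Ev] at hv
  rw [hv, zero_add]

section Weight

variable {L : (Fin n → ZMod 2) →+ (Fin n → ZMod 2)}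

/-- Additive maps preserving the pairs do not increase weights. -/
theorem wt_map_le (hL : ∀ a b, a ≠ b → wt (L (pr a b)) ≤ 2) :
    ∀ k v, Ev v → wt v ≤ 2 * k → wt (L v) ≤ 2 * k := by
  intro k
  induction k with
  | zero =>
    intro v _ hv
    have : v = 0 := funext fun i => (two_cases (v i)).resolve_right fun h => by
      have : i ∈ Finset.univ.filter fun i => v i = 1 := by simp [h]
      rw [wt, Nat.mul_zero, Nat.le_zero, Finset.card_eq_zero] at hv
      rw [hv] at this
      exact absurd this (Finset.notMem_empty i)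
    subst this
    simp [wt]
  | succ k ih =>
    intro v hv hk
    by_cases hsmall : wt v ≤ 2 * k
    · exact (ih v hv hsmall).trans (by omega)
    · have h2 : 1 < (Finset.univ.filter fun i => v i = 1).card := by
        obtain ⟨j, hj⟩ := (ev_iff v).1 hv
        show 1 < wt v
        omega
      obtain ⟨a, ha, b, hb, hab⟩ := Finset.one_lt_card.1 h2
      simp only [Finset.mem_filter, Finset.mem_univ, true_and] at ha hb
      obtain ⟨v', hv'⟩ : ∃ v', v' = v + pr a b := ⟨_, rfl⟩
      have hw : wt v' + 2 ≤ wt v := by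
        have hsub : Finset.univ.filter (fun i => v' i = 1) ⊆ ((Finset.univ.filter fun i => v i = 1).erase a).erase b := by
          intro i hi
          simp only [Finset.mem_filter, Finset.mem_univ, true_and, hv', Pi.add_apply, pr, Pi.single_apply] at hi
          simp only [Finset.mem_erase, Finset.mem_filter, Finset.mem_univ, true_and]
          refine ⟨fun h => ?_, fun h => ?_, ?_⟩
          · subst h; simp [hab.symm, hb, CharTwo.add_self_eq_zero] at hi
          · subst h; simp [hab, ha, CharTwo.add_self_eq_zero] at hi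
          · by_cases h1 : i = a
            · rw [h1]; exact ha
            · by_cases h2 : i = b
              · rw [h2]; exact hb
              · simpa [h1, h2] using hi
        have h3 := Finset.card_le_card hsub
        rw [Finset.card_erase_of_mem (by simp [hab.symm, hb]), Finset.card_erase_of_mem (by simp [ha])] at h3
        show (Finset.univ.filter fun i => v' i = 1).card + 2 ≤ (Finset.univ.filter fun i => v i = 1).card
        omega
      have hv'' : v = v' + pr a b := by
        rw [hv', add_assoc, show pr a b + pr a b = 0 from funext fun i => CharTwo.add_self_eq_zero (pr a b i), add_zero]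
      have h1 := ih v' (hv' ▸ ev_add hv (ev_pr a b)) (by omega)
      have h4 := wt_add (L v') (L (pr a b))
      rw [← map_add, ← hv''] at h4
      have h5 := hL a b hab
      omega

end Weight

/-- An element of order three of the alternating group with few commutators moves three points. -/
theorem wt_commutator_le (hn : 3 ≤ n) {τ : Perm (Fin n)} (h3 : τ ^ 3 = 1)
    (hS : ∃ S : Finset (Fin n → ZMod 2), S.card ≤ 4 ∧ ∀ x, Ev x → pm τ x + x ∈ S) {u : Fin n → ZMod 2} (hu : Ev u) :
    wt (pm τ u + u) ≤ 2 := by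
  classical
  obtain ⟨S, hS4, hS⟩ := hS
  by_cases hτ : τ = 1
  · subst hτ
    have : pm 1 u + u = 0 := funext fun i => CharTwo.add_self_eq_zero _
    rw [this]
    simp [wt]
  obtain ⟨a, ha⟩ : ∃ a, τ a ≠ a := by
    by_contra h
    push Not at h
    exact hτ (Equiv.ext h)
  have h3' : ∀ x, τ (τ (τ x)) = x := fun x => by
    have := DFunLike.congr_fun h3 x
    simpa [pow_succ] using this
  have hsupp : ∀ d, τ d ≠ d → d = a ∨ d = τ a ∨ d = τ (τ a) := by
    by_contra hcon
    push Not at hcon
    obtain ⟨d, hd, hda, hd1, hd2⟩ := hcon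
    have ha2 : τ (τ a) ≠ a := fun h => ha (by have := h3' a; rw [h] at this; exact this)
    have ha12 : τ (τ a) ≠ τ a := fun h => ha (τ.injective h)
    have hd2' : τ (τ d) ≠ d := fun h => hd (by have := h3' d; rw [h] at this; exact this)
    have e1 : τ d ≠ a := fun h => hd2 (by rw [← h3' d, h])
    have e2 : τ d ≠ τ a := fun h => hda (τ.injective h)
    have e3 : τ (τ d) ≠ a := fun h => hd1 (by rw [← h3' d, h])
    have e4 : τ (τ d) ≠ τ a := fun h => e1 (τ.injective h)
    let ev3 : (Fin n → ZMod 2) → ZMod 2 × ZMod 2 × ZMod 2 := fun x => (x a, x (τ a), x d)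
    have hmem : ∀ t ∈ ([(0, 0, 0), (1, 1, 1), (1, 0, 0), (1, 1, 0), (0, 0, 1)] : List (ZMod 2 × ZMod 2 × ZMod 2)),
        t ∈ S.image ev3 := by
      intro t ht
      simp only [List.mem_cons, List.not_mem_nil, or_false] at ht
      rw [Finset.mem_image]
      rcases ht with rfl | rfl | rfl | rfl | rfl
      · exact ⟨_, hS 0 (by simp [Ev]), by simp [ev3, pm]⟩
      · refine ⟨_, hS _ (ev_pr a d), ?_⟩
        simp only [ev3, Pi.add_apply, pm_pr]
        simp [pr, Pi.single_apply, ha, Ne.symm ha, hd, Ne.symm hd, hda, Ne.symm hda, hd1, Ne.symm hd1, e1, Ne.symm e1, e2, Ne.symm e2]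
      · refine ⟨_, hS _ (ev_pr a (τ a)), ?_⟩
        simp only [ev3, Pi.add_apply, pm_pr]
        simp [pr, Pi.single_apply, ha, Ne.symm ha, ha2, Ne.symm ha2, ha12, Ne.symm ha12, hda, hd1, hd2, CharTwo.add_self_eq_zero]
      · refine ⟨_, hS _ (ev_pr (τ a) (τ (τ a))), ?_⟩
        simp only [ev3, Pi.add_apply, pm_pr, h3']
        simp [pr, Pi.single_apply, ha, Ne.symm ha, ha2, Ne.symm ha2, ha12, Ne.symm ha12, hda, hd1, hd2, CharTwo.add_self_eq_zero]
      · refine ⟨_, hS _ (ev_pr d (τ d)), ?_⟩
        simp only [ev3, Pi.add_apply, pm_pr]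
        simp [pr, Pi.single_apply, hd, Ne.symm hd, hd2', Ne.symm hd2', hda, Ne.symm hda, hd1, Ne.symm hd1,
          e1, Ne.symm e1, e2, Ne.symm e2, e3, Ne.symm e3, e4, Ne.symm e4, CharTwo.add_self_eq_zero]
    have h5 : ([(0, 0, 0), (1, 1, 1), (1, 0, 0), (1, 1, 0), (0, 0, 1)] : List (ZMod 2 × ZMod 2 × ZMod 2)).toFinset ⊆ S.image ev3 :=
      fun t ht => hmem t (List.mem_toFinset.1 ht)
    have h6 := (Finset.card_le_card h5).trans Finset.card_image_le
    rw [show ([(0, 0, 0), (1, 1, 1), (1, 0, 0), (1, 1, 0), (0, 0, 1)] : List (ZMod 2 × ZMod 2 × ZMod 2)).toFinset.card = 5 from by decide] at h6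
    omega
  have hle : wt (pm τ u + u) ≤ 3 := by
    refine (Finset.card_le_card (t := {a, τ a, τ (τ a)}) fun i hi => ?_).trans Finset.card_le_three
    simp only [Finset.mem_filter, Finset.mem_univ, true_and, Pi.add_apply] at hi
    simp only [Finset.mem_insert, Finset.mem_singleton]
    refine hsupp i fun h => ?_
    have : τ⁻¹ i = i := τ.injective (by simpa using h.symm)
    simp only [pm, this, CharTwo.add_self_eq_zero] at hi
    exact absurd hi (by decide)
  obtain ⟨j, hj⟩ := (ev_iff _).1 (ev_add (ev_pm τ hu) hu)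
  omega

/-- An additive bijection of the even vectors normalising the alternating group is a permutation. -/
theorem exists_perm {m : ℕ} (hn : n = 2 * m + 1) (hm : 1 ≤ m) (L L' : (Fin n → ZMod 2) →+ (Fin n → ZMod 2))
    (hLev : ∀ v, Ev v → Ev (L v)) (hL'ev : ∀ v, Ev v → Ev (L' v))
    (h1 : ∀ v, Ev v → L' (L v) = v) (h2 : ∀ v, Ev v → L (L' v) = v)
    (hconj : ∀ σ ∈ alternatingGroup (Fin n), ∃ τ, ∀ v, Ev v → L (pm σ v) = pm τ (L v))
    (hconj' : ∀ σ ∈ alternatingGroup (Fin n), ∃ τ, ∀ v, Ev v → L' (pm σ v) = pm τ (L' v)) :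
    ∃ π : Perm (Fin n), ∀ v, Ev v → L v = pm π v := by
  classical
  have hn3 : 3 ≤ n := by omega
  have hpair : ∀ (M M' : (Fin n → ZMod 2) →+ (Fin n → ZMod 2)), (∀ v, Ev v → Ev (M v)) → (∀ v, Ev v → Ev (M' v)) →
      (∀ v, Ev v → M (M' v) = v) → (∀ σ ∈ alternatingGroup (Fin n), ∃ τ, ∀ v, Ev v → M (pm σ v) = pm τ (M v)) →
      ∀ a b, a ≠ b → wt (M (pr a b)) ≤ 2 := by
    intro M M' hMev hM'ev hMM' hMc a b hab
    obtain ⟨c, hca, hcb⟩ := exists_third hn3 a b
    obtain ⟨σ, hσ⟩ : ∃ σ, σ = swap a b * swap b c := ⟨_, rfl⟩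
    have hσb : σ b = c := by simp [hσ, swap_apply_of_ne_of_ne hca hcb]
    have hσc : σ c = a := by simp [hσ]
    have hσa : σ a = b := by simp [hσ, swap_apply_of_ne_of_ne hab hca.symm]
    obtain ⟨τ, hτ⟩ := hMc σ (hσ ▸ cycle_mem hab hcb.symm)
    have hσ3 : σ ^ 3 = 1 := by
      refine Equiv.ext fun x => ?_
      show σ (σ (σ x)) = x
      by_cases hxa : x = a
      · subst hxa; rw [hσa, hσb, hσc]
      by_cases hxb : x = b
      · subst hxb; rw [hσb, hσc, hσa]
      by_cases hxc : x = c
      · subst hxc; rw [hσc, hσa, hσb]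
      have : σ x = x := by simp [hσ, swap_apply_of_ne_of_ne hxb hxc, swap_apply_of_ne_of_ne hxa hxb]
      rw [this, this, this]
    have hτ3 : τ ^ 3 = 1 := by
      refine eq_one_of_fix hn3 fun v hv => ?_
      have hv' := hM'ev v hv
      conv_rhs => rw [← hMM' v hv]
      conv_lhs => rw [← hMM' v hv]
      rw [pow_three, pm_mul, pm_mul, ← hτ _ hv', ← hτ _ (ev_pm σ hv'), ← hτ _ (ev_pm σ (ev_pm σ hv')), ← pm_mul, ← pm_mul, ← pow_three',
        hσ3]
      rfl
    have hkey : pr a b = pm σ (pr b c) + pr b c := by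
      rw [pm_pr, hσb, hσc]
      funext i
      simp only [pr, Pi.add_apply]
      rcases two_cases ((Pi.single a 1 : Fin n → ZMod 2) i) with e | e <;>
      rcases two_cases ((Pi.single b 1 : Fin n → ZMod 2) i) with e' | e' <;>
      rcases two_cases ((Pi.single c 1 : Fin n → ZMod 2) i) with e'' | e'' <;>
      rw [e, e', e''] <;> decide
    rw [hkey, map_add, hτ _ (ev_pr b c)]
    refine wt_commutator_le hn3 hτ3 ⟨({0, pr a b, pr b c, pr c a} : Finset (Fin n → ZMod 2)).image M, ?_, fun x hx => ?_⟩
      (hMev _ (ev_pr b c))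
    · exact Finset.card_image_le.trans Finset.card_le_four
    · have hy := hM'ev x hx
      refine Finset.mem_image.2 ⟨pm σ (M' x) + M' x, ?_, by rw [map_add, hτ _ hy, hMM' x hx]⟩
      obtain ⟨z, hz⟩ : ∃ z, z = pm σ (M' x) + M' x := ⟨_, rfl⟩
      rw [← hz]
      have hzev : Ev z := hz ▸ ev_add (ev_pm σ hy) hy
      have hzo : ∀ i, i ≠ a → i ≠ b → i ≠ c → z i = 0 := by
        intro i ha hb hc
        have : σ⁻¹ i = i := σ.injective (by simp [hσ, swap_apply_of_ne_of_ne hb hc, swap_apply_of_ne_of_ne ha hb])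
        rw [hz, Pi.add_apply, pm, this]
        exact CharTwo.add_self_eq_zero _
      have hsum : z a + z b + z c = 0 := by
        simp only [Ev] at hzev
        rw [← Finset.sum_subset (Finset.subset_univ ({a, b, c} : Finset (Fin n))) fun i _ hi => by
          simp only [Finset.mem_insert, Finset.mem_singleton, not_or] at hi
          exact hzo i hi.1 hi.2.1 hi.2.2, Finset.sum_insert (by simp [hab, hca.symm]), Finset.sum_insert (by simp [hcb.symm]),
          Finset.sum_singleton, ← add_assoc] at hzev
        exact hzev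
      simp only [Finset.mem_insert, Finset.mem_singleton]
      have hext : ∀ w : Fin n → ZMod 2, w a = z a → w b = z b → w c = z c → (∀ i, i ≠ a → i ≠ b → i ≠ c → w i = 0) → z = w := by
        intro w wa wb wc wo
        funext i
        by_cases h : i = a
        · rw [h, wa]
        by_cases h' : i = b
        · rw [h', wb]
        by_cases h'' : i = c
        · rw [h'', wc]
        rw [hzo i h h' h'', wo i h h' h'']
      rcases two_cases (z a) with ea | ea <;> rcases two_cases (z b) with eb | eb <;> rcases two_cases (z c) with ec | ec <;>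
        rw [ea, eb, ec] at hsum <;> first | exact absurd hsum (by decide) | skip
      · exact Or.inl (hext 0 (by simp [ea]) (by simp [eb]) (by simp [ec]) (fun _ _ _ _ => rfl))
      · exact Or.inr (Or.inr (Or.inl (hext _ (by simp [pr, ea, Pi.single_apply, hab, hca.symm]) (by simp [pr, eb, Pi.single_apply, hcb.symm])
          (by simp [pr, ec, Pi.single_apply, hcb]) (fun i h h' h'' => by simp [pr, Pi.single_apply, h', h'']))))
      · exact Or.inr (Or.inr (Or.inr (hext _ (by simp [pr, ea, Pi.single_apply, hca.symm]) (by simp [pr, eb, Pi.single_apply, hab.symm, hcb.symm])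
          (by simp [pr, ec, Pi.single_apply, hca]) (fun i h h' h'' => by simp [pr, Pi.single_apply, h, h'']))))
      · exact Or.inr (Or.inl (hext _ (by simp [pr, ea, Pi.single_apply, hab]) (by simp [pr, eb, Pi.single_apply, hab.symm])
          (by simp [pr, ec, Pi.single_apply, hca, hcb]) (fun i h h' h'' => by simp [pr, Pi.single_apply, h, h'])))
  have hle := wt_map_le (hpair L L' hLev hL'ev h2 hconj)
  have hle' := wt_map_le (hpair L' L hL'ev hLev h1 hconj')
  have hco : ∀ a, ∃ j, L (co a) = co j := by
    intro a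
    have e : wt (co a) = 2 * m := by rw [wt_co]; omega
    have hub := hle m (co a) (ev_co hn a) (by omega)
    have hlb : ¬ wt (L (co a)) ≤ 2 * (m - 1) := fun h => by
      have := hle' (m - 1) _ (hLev _ (ev_co hn a)) h
      rw [h1 _ (ev_co hn a)] at this
      omega
    obtain ⟨k, hk⟩ := (ev_iff _).1 (hLev _ (ev_co hn a))
    have hwt : wt (L (co a)) = 2 * m := by omega
    obtain ⟨j, hj⟩ : ∃ j, L (co a) j = 0 := by
      by_contra h
      push Not at h
      have : wt (L (co a)) = n := by
        rw [wt, Finset.filter_true_of_mem fun i _ => (two_cases _).resolve_left (h i), Finset.card_univ, Fintype.card_fin]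
      omega
    refine ⟨j, funext fun i => ?_⟩
    by_cases hi : i = j
    · rw [hi, hj]; simp [co]
    · simp only [co, hi, if_false]
      refine (two_cases _).resolve_left fun h0 => ?_
      have hsub : Finset.univ.filter (fun x => L (co a) x = 1) ⊆ (Finset.univ.erase j).erase i := by
        intro x hx
        simp only [Finset.mem_filter, Finset.mem_univ, true_and] at hx
        simp only [Finset.mem_erase, Finset.mem_univ, and_true]
        exact ⟨fun e => by rw [e, h0] at hx; exact absurd hx (by decide), fun e => by rw [e, hj] at hx; exact absurd hx (by decide)⟩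
      have := Finset.card_le_card hsub
      rw [Finset.card_erase_of_mem (by simp [hi]), Finset.card_erase_of_mem (Finset.mem_univ j), Finset.card_univ, Fintype.card_fin] at this
      change wt (L (co a)) ≤ _ at this
      omega
  choose π hπ using hco
  have hinj : Function.Injective π := by
    intro a b h
    have e : L (co a) = L (co b) := by rw [hπ, hπ, h]
    have e2 : co a = co b := by rw [← h1 _ (ev_co hn a), e, h1 _ (ev_co hn b)]
    by_contra hne
    have := congrFun e2 a
    simp [co, hne] at this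
  refine ⟨Equiv.ofBijective π (Finite.injective_iff_bijective.1 hinj), fun v hv => ?_⟩
  obtain ⟨P, hP⟩ : ∃ P, P = Equiv.ofBijective π (Finite.injective_iff_bijective.1 hinj) := ⟨_, rfl⟩
  have hPc : ∀ a, L (co a) = co (P a) := fun a => by rw [hπ, hP]; rfl
  rw [← hP]
  have e : ∀ i, L (v i • co i) = v i • co (P i) := fun i => by
    rcases two_cases (v i) with h | h <;> simp [h, hPc]
  conv_lhs => rw [← co_sum hn hv, map_sum, Finset.sum_congr rfl fun i _ => e i]
  have hsum := co_sum hn (ev_pm P hv)
  conv_rhs => rw [← hsum, ← Equiv.sum_comp P]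
  exact Finset.sum_congr rfl fun i _ => by simp [pm]

end CfsgLib.LocalEven.EvenPerm
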