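import Mathlib.LinearAlgebra.Dual.Lemmas
import Cfsg.Agent.Lib.LocalEvenB.SubnormalBlocks.Main
import Cfsg.Agent.Lib.LocalEven.BlockCent.Setting

/-!
# Elementary facts about a block and its normaliser
-/

set_option autoImplicit false
set_option linter.all false

namespace CfsgLib.LocalEven.SubBlock

open Subgroup Cfsg
open CfsgLib.LocalEvenB
open CfsgLib.LocalEvenB.SubBlocks
open scoped commutatorElement

variable {G : Type*} [Group G] [Finite G] {p : ℕ} [hp : Fact p.Prime] {T E : Subgroup G}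

/-- `W_E ≤ Ω₁Z(O_p(G))`. -/
theorem bM_le_V (hG : centralizer (pCore p G : Set G) ≤ pCore p G) (T : Sylow p G)
    (hE : IsBaumannBlock p (T : Subgroup G) E) : bM p E ≤ omegaOneCenter p (pCore p G) :=
  (block_location hG T E hE).2.1

theorem V_le_R : omegaOneCenter p (pCore p G) ≤ pCore p G :=
  (CfsgLib.PGroups.omegaOne_le _).trans inf_le_left

theorem bM_le_bW : bM p E ≤ bW p E :=
  le_normalizer_iff_commutator_le_left.1 (le_normalizer.trans (normalizer_le_bW E))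

theorem bW_comm {a b : G} (ha : a ∈ bW p E) (hb : b ∈ bW p E) : a * b = b * a := omegaOneCenter_comm ha hb

theorem comm_mem_bM {w e : G} (hw : w ∈ bW p E) (he : e ∈ E) : e * w * e⁻¹ * w⁻¹ ∈ bM p E := by
  have h := inv_mem (commutator_mem_commutator hw he : ⁅w, e⁆ ∈ bM p E)
  rwa [commutatorElement_inv, commutatorElement_def] at h

/-- `W = W_E Z`. -/
theorem W_eq_sup (hE : IsBaumannBlock p T E) : bW p E = bM p E ⊔ bZ p E := by
  refine ((block_irr_WZ hE _ le_sup_right (sup_le bM_le_bW inf_le_left) ?_).resolve_left fun h => block_core_ne hE ?_).symm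
  · exact (le_inf (le_normalizer.trans (normalizer_le_bM E)) (le_normalizer.trans (normalizer_le_bZ E))).trans
      CfsgLib.LocalEven.BlockCent.sup_normalizer
  · refine le_antisymm (pCoreOf_le E) fun e he => block_kernel_WZ hE (mem_inf.2 ⟨he, mem_secKer.2
      ⟨normalizer_le_bW E (le_normalizer he), normalizer_le_bZ E (le_normalizer he),
        fun w hw => (le_sup_left.trans h.le) (comm_mem_bM hw he)⟩⟩)

theorem bM_not_le_centralizer (hE : IsBaumannBlock p T E) : ¬ bM p E ≤ centralizer (E : Set G) := fun h =>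
  block_core_ne hE (le_antisymm (pCoreOf_le E) fun e he => block_kernel_WZ hE (mem_inf.2 ⟨he, mem_secKer.2
    ⟨normalizer_le_bW E (le_normalizer he), normalizer_le_bZ E (le_normalizer he),
      fun w hw => mem_inf.2 ⟨bM_le_bW (comm_mem_bM hw he), h (comm_mem_bM hw he)⟩⟩⟩))

/-- In the linear case `W_E = O_p(E)`. -/
theorem linear_bM (hE : IsBaumannBlock p T E) (hl : pCoreOf p E = bW p E) : bM p E = bW p E := by
  conv_lhs => rw [bM, ← hl, hE.2.2.1, hl]

/-- The elements normalising `E` and acting trivially on `W / Z`. -/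
abbrev nKer (p : ℕ) (E : Subgroup G) : Subgroup G :=
  normalizer (E : Set G) ⊓ secKer (bW p E) (bZ p E)

theorem comm_nKer (hE : IsBaumannBlock p T E) {g e : G} (hg : g ∈ nKer p E) (he : e ∈ E) :
    ⁅g, e⁆ ∈ pCoreOf p E := by
  refine block_kernel_WZ hE (mem_inf.2 ⟨?_, ?_⟩)
  · rw [commutatorElement_def]
    exact mul_mem ((mem_normalizer_iff.1 hg.1 e).1 he) (inv_mem he)
  · rw [← commutatorElement_inv]
    exact inv_mem (commutator_mem_secKer (normalizer_le_bW E (le_normalizer he))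
      (normalizer_le_bZ E (le_normalizer he)) hg.2)

/-- An element of `N(E)` trivial on `W / Z` centralises `W_E`. -/
theorem nKer_le_centralizer (hE : IsBaumannBlock p T E) : nKer p E ≤ centralizer (bM p E : Set G) := by
  intro g hg
  suffices bM p E ≤ centralizer ({g} : Set G) from
    mem_centralizer_iff.2 fun x hx => mem_centralizer_singleton_iff.1 (this hx)
  refine commutator_le.2 fun w hw e he => mem_centralizer_singleton_iff.2 ?_
  obtain ⟨z, hz, hzw⟩ : ∃ z ∈ bZ p E, g * w * g⁻¹ = z * w := ⟨_, (mem_secKer.1 hg.2).2.2 w hw, by group⟩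
  obtain ⟨q, hq, hqe⟩ : ∃ q ∈ pCoreOf p E, g * e = q * (e * g) :=
    ⟨⁅g, e⁆, comm_nKer hE hg he, by rw [commutatorElement_def]; group⟩
  have hez : e * z⁻¹ * e⁻¹ = z⁻¹ := by
    rw [mem_centralizer_iff.1 (inv_mem hz.2) e he, mul_inv_cancel_right]
  have hw' : e * w⁻¹ * e⁻¹ ∈ bW p E := (mem_normalizer_iff.1 (normalizer_le_bW E (le_normalizer he)) _).1 (inv_mem hw)
  have h1 : g * (e * w⁻¹ * e⁻¹) * g⁻¹ = z⁻¹ * (e * w⁻¹ * e⁻¹) := by
    have e1 : g * w⁻¹ * g⁻¹ = z⁻¹ * w⁻¹ := by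
      rw [show g * w⁻¹ * g⁻¹ = (g * w * g⁻¹)⁻¹ by group, hzw, bW_comm hz.1 hw, mul_inv_rev]
    have e2 : q * (z⁻¹ * (e * w⁻¹ * e⁻¹)) * q⁻¹ = z⁻¹ * (e * w⁻¹ * e⁻¹) := by
      rw [core_commutes_bW hq (mul_mem (inv_mem hz.1) hw'), mul_inv_cancel_right]
    rw [show g * (e * w⁻¹ * e⁻¹) * g⁻¹ = (g * e) * w⁻¹ * (g * e)⁻¹ by group, hqe,
      show q * (e * g) * w⁻¹ * (q * (e * g))⁻¹ = q * (e * (g * w⁻¹ * g⁻¹) * e⁻¹) * q⁻¹ by group, e1,
      show e * (z⁻¹ * w⁻¹) * e⁻¹ = (e * z⁻¹ * e⁻¹) * (e * w⁻¹ * e⁻¹) by group, hez, e2]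
  have h2 : g * ⁅w, e⁆ * g⁻¹ = ⁅w, e⁆ := by
    rw [commutatorElement_def, show w * e * w⁻¹ * e⁻¹ = w * (e * w⁻¹ * e⁻¹) by group, conj_mul.symm, hzw, h1,
      bW_comm hz.1 hw, mul_assoc w z, ← mul_assoc z, mul_inv_cancel, one_mul]
  rw [mul_inv_eq_iff_eq_mul] at h2
  exact h2.symm

theorem centralizer_le_nKer (hE : IsBaumannBlock p T E) :
    normalizer (E : Set G) ⊓ centralizer (bM p E : Set G) ≤ nKer p E := by
  intro g hg
  refine mem_inf.2 ⟨hg.1, mem_secKer.2 ⟨normalizer_le_bW E hg.1, normalizer_le_bZ E hg.1, fun w hw => ?_⟩⟩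
  obtain ⟨m, hm, z, hz, rfl⟩ :=
    (CfsgLib.Core.mem_sup_iff_mul (bM_le_bW.trans (bW_le_normalizer_bZ E))).1 ((W_eq_sup hE).le hw)
  have hgz : g * z * g⁻¹ ∈ bZ p E := (mem_normalizer_iff.1 (normalizer_le_bZ E hg.1) z).1 hz
  have hgm : g * m * g⁻¹ = m := by rw [← mem_centralizer_iff.1 hg.2 m hm, mul_inv_cancel_right]
  rw [show g * (m * z) * g⁻¹ * (m * z)⁻¹ = (g * m * g⁻¹) * ((g * z * g⁻¹) * z⁻¹) * m⁻¹ by group, hgm,
    bW_comm (bM_le_bW hm) (mul_mem hgz (inv_mem hz)).1, mul_inv_cancel_right]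
  exact mul_mem hgz (inv_mem hz)

/-- If `E / O_p(E)` has order prime to `p`, `W_E` has no nontrivial fixed point. -/
theorem disjoint_of_coprime (hE : IsBaumannBlock p T E) (hc : (Nat.card (↥E ⧸ pCore p ↥E)).Coprime p) :
    bM p E ⊓ centralizer (E : Set G) = ⊥ := by
  obtain ⟨c, hcQ⟩ := IsPGroup.iff_card.1 (CfsgLib.Core.isPGroup_pCore p ↥E)
  obtain ⟨K, hK⟩ := exists_right_complement'_of_coprime (N := pCore p ↥E) (by
    rw [hcQ, Subgroup.index_eq_card]; exact (hc.pow_right c).symm)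
  obtain ⟨A, hA⟩ : ∃ A, A = K.map E.subtype := ⟨_, rfl⟩
  have hAE : A ≤ E := hA ▸ map_subtype_le _
  have hEA : E ≤ A ⊔ pCoreOf p E := by
    rw [hA, pCoreOf, ← Subgroup.map_sup, sup_comm, hK.sup_eq_top, ← MonoidHom.range_eq_map, range_subtype]
  have hAc : (Nat.card A).Coprime p := by
    rw [hA, card_map_of_injective E.subtype_injective, ← hK.symm.index_eq_card, Subgroup.index_eq_card]
    exact hc
  haveI : IsMulCommutative (bW p E) := ⟨⟨fun a b => Subtype.ext (bW_comm a.2 b.2)⟩⟩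
  have hAW : A ≤ normalizer (bW p E : Set G) := hAE.trans (le_normalizer.trans (normalizer_le_bW E))
  obtain ⟨d, hd⟩ := IsPGroup.iff_card.1 (bW_pGroup (p := p) E)
  have hcop : (Nat.card A).Coprime (Nat.card (bW p E)) := hd ▸ hAc.pow_right d
  have hM : bM p E ≤ ⁅bW p E, A⁆ := by
    refine commutator_le.2 fun w hw e he => ?_
    have he' := hEA he
    rw [CfsgLib.Core.mem_sup_iff_mul (hAE.trans (le_normalizer.trans (CfsgLib.LocalEven.normalizer_le_normalizer_pCoreOf E)))] at he'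
    obtain ⟨a, ha, q, hq, rfl⟩ := he'
    rw [show ⁅w, a * q⁆ = ⁅w, a⁆ by
      rw [commutatorElement_def, commutatorElement_def,
        show w * (a * q) * w⁻¹ * (a * q)⁻¹ = w * a * (q * w⁻¹ * q⁻¹) * a⁻¹ by group,
        core_commutes_bW hq (inv_mem hw), mul_inv_cancel_right]]
    exact commutator_mem_commutator hw ha
  rw [eq_bot_iff, ← CfsgLib.Core.abelian_inf_eq_bot hAW hcop, inf_comm]
  exact le_inf (le_inf (inf_le_right.trans bM_le_bW) (inf_le_left.trans (centralizer_le hAE))) (inf_le_right.trans hM)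

/-- A `p'`-element that centralises the core and commutes with `E` modulo it centralises `E`. -/
theorem centralizes_of_core {g e : G} (hg : (orderOf g).Coprime p) (hgQ : g ∈ centralizer (pCoreOf p E : Set G))
    (he : g * e * g⁻¹ * e⁻¹ ∈ pCoreOf p E) : g * e = e * g := by
  obtain ⟨c, hc⟩ : ∃ c, c = g * e * g⁻¹ * e⁻¹ := ⟨_, rfl⟩
  rw [← hc] at he
  have hgc : g * c = c * g := (mem_centralizer_iff.1 hgQ c he).symm
  have hn : ∀ n : ℕ, g ^ n * e * (g ^ n)⁻¹ = c ^ n * e := by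
    intro n
    induction n with
    | zero => simp
    | succ n ih =>
      calc g ^ (n + 1) * e * (g ^ (n + 1))⁻¹ = g * (g ^ n * e * (g ^ n)⁻¹) * g⁻¹ := by rw [pow_succ']; group
        _ = (g * c ^ n * g⁻¹) * (g * e * g⁻¹) := by rw [ih]; group
        _ = c ^ (n + 1) * e := by rw [← conj_pow, hgc, mul_inv_cancel_right, pow_succ, hc]; group
  have h1 := hn (orderOf g)
  rw [pow_orderOf_eq_one, one_mul, inv_one, mul_one] at h1
  obtain ⟨k, hk⟩ := isPGroup_pCoreOf E ⟨c, he⟩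
  have h2 : orderOf c = 1 := Nat.eq_one_of_dvd_coprimes (hg.pow_right k)
    (orderOf_dvd_of_pow_eq_one (mul_eq_right.1 h1.symm)) (orderOf_dvd_of_pow_eq_one (congrArg Subtype.val hk))
  rw [orderOf_eq_one_iff, hc, mul_inv_eq_one, mul_inv_eq_iff_eq_mul] at h2
  exact h2

/-- A `p`-group fixes a nontrivial point of a `p`-group it normalises. -/
theorem exists_fixed {P X : Subgroup G} (hP : IsPGroup p P) (hX : IsPGroup p X) (hPX : P ≤ normalizer (X : Set G))
    (hne : X ≠ ⊥) : X ⊓ centralizer (P : Set G) ≠ ⊥ := by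
  obtain ⟨S, hS⟩ : ∃ S, S = X ⊔ P := ⟨_, rfl⟩
  have hSp : IsPGroup p S := hS ▸ hX.to_sup_of_normal_left' hP hPX
  have hXS : X ≤ S := hS ▸ le_sup_left
  haveI : (X.subgroupOf S).Normal :=
    (normal_subgroupOf_iff_le_normalizer hXS).2 (hS ▸ sup_le le_normalizer hPX)
  obtain ⟨c, ⟨hc, hcZ⟩, hc1⟩ := (Subgroup.bot_or_exists_ne_one _).resolve_left
    (CfsgLib.PGroups.inf_center_ne_bot hSp (N := X.subgroupOf S) fun h => hne (by
      rw [eq_bot_iff]
      intro x hx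
      have h1 : (⟨x, hXS hx⟩ : S) ∈ X.subgroupOf S := mem_subgroupOf.2 hx
      rw [h, mem_bot] at h1
      exact congrArg Subtype.val h1))
  intro h
  have h1 : (c : G) ∈ X ⊓ centralizer (P : Set G) := mem_inf.2 ⟨mem_subgroupOf.1 hc, mem_centralizer_iff.2 fun y hy =>
    congrArg Subtype.val (mem_center_iff.1 hcZ ⟨y, hS ▸ mem_sup_right hy⟩)⟩
  rw [h, mem_bot] at h1
  exact hc1 (Subtype.ext h1)

/-- Enough characters on a group of exponent two. -/
theorem exists_char {W Z : Subgroup G} (hc : ∀ a ∈ W, ∀ b ∈ W, a * b = b * a) (h2 : ∀ a ∈ W, a ^ 2 = 1)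
    (hZW : Z ≤ W) {u : G} (hu : u ∈ W) (hu0 : u ∉ Z) :
    ∃ χ : ↥W →* Multiplicative (ZMod 2), (∀ z : ↥W, (z : G) ∈ Z → χ z = 1) ∧ χ ⟨u, hu⟩ ≠ 1 := by
  letI : CommGroup ↥W := { (inferInstance : Group ↥W) with mul_comm := fun a b => Subtype.ext (hc a a.2 b b.2) }
  let V := Additive (↥W ⧸ Z.subgroupOf W)
  letI : Module (ZMod 2) V := AddCommGroup.zmodModule fun v => by
    obtain ⟨x, rfl⟩ : ∃ x : ↥W ⧸ Z.subgroupOf W, Additive.ofMul x = v := Additive.ofMul.surjective v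
    obtain ⟨w, rfl⟩ := QuotientGroup.mk_surjective x
    rw [← ofMul_pow, ← QuotientGroup.mk_pow, show w ^ 2 = 1 from Subtype.ext (h2 w w.2)]
    rfl
  have hne : (Additive.ofMul ((⟨u, hu⟩ : ↥W) : ↥W ⧸ Z.subgroupOf W) : V) ≠ 0 := fun h =>
    hu0 (mem_subgroupOf.1 ((QuotientGroup.eq_one_iff _).1 h))
  obtain ⟨f, hf⟩ : ∃ f : Module.Dual (ZMod 2) V, f (Additive.ofMul ((⟨u, hu⟩ : ↥W) : ↥W ⧸ Z.subgroupOf W)) ≠ 0 := by
    by_contra h
    push Not at h
    exact hne ((Module.forall_dual_apply_eq_zero_iff (ZMod 2) _).1 h)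
  refine ⟨(AddMonoidHom.toMultiplicativeRight f.toAddMonoidHom).comp (QuotientGroup.mk' (Z.subgroupOf W)),
    fun z hz => ?_, fun h => hf (congrArg Multiplicative.toAdd h)⟩
  show Multiplicative.ofAdd (f (Additive.ofMul (z : ↥W ⧸ Z.subgroupOf W))) = 1
  rw [(QuotientGroup.eq_one_iff z).2 (mem_subgroupOf.2 hz), ofMul_one, map_zero]
  rfl

/-- Few characters on a group of exponent two. -/
theorem card_char_le {W Z : Subgroup G} (hc : ∀ a ∈ W, ∀ b ∈ W, a * b = b * a) (h2 : ∀ a ∈ W, a ^ 2 = 1) :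
    Nat.card {χ : ↥W →* Multiplicative (ZMod 2) // ∀ z : ↥W, (z : G) ∈ Z → χ z = 1} ≤ Z.relIndex W := by
  letI : CommGroup ↥W := { (inferInstance : Group ↥W) with mul_comm := fun a b => Subtype.ext (hc a a.2 b b.2) }
  let V := Additive (↥W ⧸ Z.subgroupOf W)
  haveI : Finite V := inferInstanceAs (Finite (↥W ⧸ Z.subgroupOf W))
  letI : Module (ZMod 2) V := AddCommGroup.zmodModule fun v => by
    obtain ⟨x, rfl⟩ : ∃ x : ↥W ⧸ Z.subgroupOf W, Additive.ofMul x = v := Additive.ofMul.surjective v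
    obtain ⟨w, rfl⟩ := QuotientGroup.mk_surjective x
    rw [← ofMul_pow, ← QuotientGroup.mk_pow, show w ^ 2 = 1 from Subtype.ext (h2 w w.2)]
    rfl
  let toDual : {χ : ↥W →* Multiplicative (ZMod 2) // ∀ z : ↥W, (z : G) ∈ Z → χ z = 1} → Module.Dual (ZMod 2) V :=
    fun χ => AddMonoidHom.toZModLinearMap 2 (MonoidHom.toAdditiveLeft
      (QuotientGroup.lift (Z.subgroupOf W) χ.1 fun z hz => χ.2 z (mem_subgroupOf.1 hz)))
  have hinj : Function.Injective toDual := fun a b h => Subtype.ext (MonoidHom.ext fun w =>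
    Multiplicative.toAdd.injective (LinearMap.congr_fun h (Additive.ofMul (w : ↥W ⧸ Z.subgroupOf W))))
  haveI : Finite (Module.Dual (ZMod 2) V) := Finite.of_injective (fun f => (f : V → ZMod 2)) DFunLike.coe_injective
  refine (Nat.card_le_card_of_injective toDual hinj).trans (le_of_eq ?_)
  haveI : Module.Finite (ZMod 2) V := Module.Finite.of_finite
  rw [Module.natCard_eq_pow_finrank (K := ZMod 2), Subspace.dual_finrank_eq, ← Module.natCard_eq_pow_finrank]
  rfl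

/-- The characteristic of a field of order a power of `p`. -/
theorem charP_of_card {F : Type*} [Field F] [Fintype F] {n : ℕ} (h : Fintype.card F = p ^ n) : CharP F p := by
  obtain ⟨r, hr⟩ := CharP.exists F
  haveI : Fact r.Prime := ⟨CharP.char_is_prime F r⟩
  obtain ⟨k, hk, hk'⟩ := FiniteField.card F r
  have : r = p := (Nat.prime_dvd_prime_iff_eq hk hp.out).1
    (hk.dvd_of_dvd_pow (show r ∣ p ^ n by rw [← h, hk']; exact dvd_pow_self r k.2.ne'))
  rwa [this] at hr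

end CfsgLib.LocalEven.SubBlock
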