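import Mathlib.GroupTheory.Perm.Sign
import Cfsg.Agent.Lib.LocalEven.SubBlock.Facts
import Cfsg.Agent.Lib.LocalEven.SubBlock.EvenPerm

/-!
# Symmetric blocks: the section splits and the normaliser permutes
-/

set_option autoImplicit false
set_option linter.all false

namespace CfsgLib.LocalEven.SubBlock

open Subgroup Cfsg
open CfsgLib.LocalEvenB
open CfsgLib.LocalEvenB.SubBlocks
open CfsgLib.LocalEven.EvenPerm
open scoped commutatorElement

/-- The stabiliser of a point in the alternating group is generated by elements of order three. -/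
theorem alt_stab_le {n : ℕ} {a : Fin n} (K : Subgroup (Equiv.Perm (Fin n)))
    (h : ∀ τ, τ ∈ alternatingGroup (Fin n) → τ a = a → τ ^ 3 = 1 → τ ∈ K)
    {σ : Equiv.Perm (Fin n)} (hσ : σ ∈ alternatingGroup (Fin n)) (ha : σ a = a) : σ ∈ K := by
  classical
  obtain ⟨f, hf⟩ : ∃ f : Equiv.Perm {x // x ≠ a} →* Equiv.Perm (Fin n), f = Equiv.Perm.ofSubtype := ⟨_, rfl⟩
  have h1 : ∀ x, σ x ≠ a ↔ x ≠ a := fun x => not_congr ⟨fun e => σ.injective (e.trans ha.symm), fun e => e ▸ ha⟩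
  have h2 : ∀ x, σ x ≠ x → x ≠ a := fun x hx e => hx (by rw [e, ha])
  have hs : σ.subtypePerm h1 ∈ alternatingGroup {x // x ≠ a} := by
    rw [Equiv.Perm.mem_alternatingGroup, Equiv.Perm.sign_subtypePerm σ h1 h2]
    exact hσ
  have hle : alternatingGroup {x // x ≠ a} ≤ K.comap f := by
    rw [← Equiv.Perm.closure_three_cycles_eq_alternating, closure_le]
    intro τ hτ
    refine h _ ?_ ?_ ?_
    · rw [hf, Equiv.Perm.mem_alternatingGroup, Equiv.Perm.sign_ofSubtype]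
      exact Equiv.Perm.mem_alternatingGroup.1 hτ.mem_alternatingGroup
    · rw [hf, Equiv.Perm.ofSubtype_apply_of_not_mem]
      simp
    · rw [← map_pow, ← hτ.orderOf, pow_orderOf_eq_one, map_one]
  have := hle hs
  rwa [mem_comap, hf, Equiv.Perm.ofSubtype_subtypePerm] at this
  exact h2

variable {G : Type*} [Group G] [Finite G] {n m : ℕ} {T D : Subgroup G}
  {ρ : ↥D →* Equiv.Perm (Fin n)} {ψ : ↥(bW 2 D) →* Multiplicative (Fin n → ZMod 2)}

section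

variable (hE : IsBaumannBlock 2 T D) (hn : n = 2 * m + 1) (hm : 1 ≤ m)
  (hρ : ρ.range = alternatingGroup (Fin n))
  (hψs : ∀ v : Fin n → ZMod 2, Ev v → ∃ u, Multiplicative.toAdd (ψ u) = v)
  (hψe : ∀ u, Ev (Multiplicative.toAdd (ψ u)))
  (hk : ∀ u, ψ u = 1 ↔ (u : G) ∈ bZ 2 D)
  (hact : ∀ (e : ↥D) (u w : ↥(bW 2 D)), (w : G) = e * u * (e : G)⁻¹ →
    Multiplicative.toAdd (ψ w) = pm (ρ e) (Multiplicative.toAdd (ψ u)))
include hE hn hm hρ hψs hψe hk hact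

/-- The kernel of the permutation action centralises `W`. -/
theorem alt_kernel {e : ↥D} (he : ρ e = 1) : (e : G) ∈ pCoreOf 2 D := by
  haveI : Fact (Nat.Prime 2) := ⟨Nat.prime_two⟩
  refine block_kernel_WZ hE (mem_inf.2 ⟨e.2, mem_secKer.2
    ⟨normalizer_le_bW D (le_normalizer e.2), normalizer_le_bZ D (le_normalizer e.2), fun u hu => ?_⟩⟩)
  obtain ⟨w, hw⟩ : ∃ w : ↥(bW 2 D), (w : G) = e * u * (e : G)⁻¹ :=
    ⟨⟨_, (mem_normalizer_iff.1 (normalizer_le_bW D (le_normalizer e.2)) u).1 hu⟩, rfl⟩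
  have h1 : ψ w = ψ ⟨u, hu⟩ := Multiplicative.toAdd.injective (by rw [hact e ⟨u, hu⟩ w hw, he]; rfl)
  rw [← mul_inv_eq_one, ← map_inv, ← map_mul, hk, Subgroup.coe_mul, Subgroup.coe_inv, hw] at h1
  exact h1

/-- An equivariant section. -/
theorem alt_section : ∃ θ : (Fin n → ZMod 2) →+ Additive ↥(bW 2 D),
    (∀ v, Ev v → Multiplicative.toAdd (ψ (θ v).toMul) = v) ∧
    ∀ (e : ↥D) v, ((θ (pm (ρ e) v)).toMul : G) = e * ((θ v).toMul : G) * (e : G)⁻¹ := by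
  classical
  haveI : Fact (Nat.Prime 2) := ⟨Nat.prime_two⟩
  have hn0 : 0 < n := by omega
  obtain ⟨a, -⟩ : ∃ a : Fin n, True := ⟨⟨0, hn0⟩, trivial⟩
  letI : CommGroup ↥(bW 2 D) := { (inferInstance : Group ↥(bW 2 D)) with mul_comm := fun x y => Subtype.ext (bW_comm x.2 y.2) }
  have hDW : ∀ e : ↥D, (e : G) ∈ normalizer (bW 2 D : Set G) := fun e => normalizer_le_bW D (le_normalizer e.2)
  let cj : ↥D → ↥(bW 2 D) →* ↥(bW 2 D) := fun d => ((bW 2 D).normalizerMonoidHom ⟨d, hDW d⟩).toMonoidHom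
  have hcj : ∀ d u, (cj d u : G) = d * u * (d : G)⁻¹ := fun d u => rfl
  have hψcj : ∀ d u, Multiplicative.toAdd (ψ (cj d u)) = pm (ρ d) (Multiplicative.toAdd (ψ u)) := fun d u => hact d u _ (hcj d u)
  have hcmul : ∀ d d' u, cj (d * d') u = cj d (cj d' u) := fun d d' u => Subtype.ext (by
    rw [hcj, hcj, hcj, Subgroup.coe_mul]; group)
  obtain ⟨u, hu⟩ := hψs (co a) (ev_co hn a)
  -- elements of odd order fixing the point fix the lift
  let H1 : Subgroup ↥D :=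
    { carrier := {d | cj d u = u}
      one_mem' := Subtype.ext (by rw [hcj]; simp)
      mul_mem' := fun {x y} (hx : cj x u = u) (hy : cj y u = u) => show cj (x * y) u = u by rw [hcmul, hy, hx]
      inv_mem' := fun {x} (hx : cj x u = u) => show cj x⁻¹ u = u by
        conv_lhs => rw [← hx, ← hcmul, inv_mul_cancel]
        exact Subtype.ext (by rw [hcj]; simp) }
  have hstab : ∀ d : ↥D, ρ d a = a → cj d u = u := by
    intro d hd
    have hmem : ρ d ∈ H1.map ρ := by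
      refine alt_stab_le _ (fun τ hτ hτa hτ3 => ?_) (hρ ▸ ⟨d, rfl⟩) hd
      rw [← hρ] at hτ
      obtain ⟨d0, rfl⟩ := hτ
      obtain ⟨k, hk'⟩ := CfsgLib.Transfer.exists_pow_prime_pow_coprime (p := 2) d0
      obtain ⟨i, hi⟩ := exists_pow_eq_self_of_coprime (n := 2 ^ k) (x := ρ d0)
        (Nat.Coprime.coprime_dvd_right (orderOf_dvd_of_pow_eq_one hτ3) (Nat.Coprime.pow_left k (by norm_num)))
      obtain ⟨d1, hd1⟩ : ∃ d1, d1 = (d0 ^ 2 ^ k) ^ i := ⟨_, rfl⟩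
      have hd1ρ : ρ d1 = ρ d0 := by rw [hd1, map_pow, map_pow, hi]
      refine ⟨d1, ?_, hd1ρ⟩
      show cj d1 u = u
      obtain ⟨z, hz⟩ : ∃ z, z = cj d1 u * u⁻¹ := ⟨_, rfl⟩
      have hzZ : (z : G) ∈ bZ 2 D := (hk z).1 (Multiplicative.toAdd.injective (by
        rw [hz, map_mul, map_inv, toAdd_mul, toAdd_inv, hψcj, hu, hd1ρ, pm_co, hτa, add_neg_cancel]; rfl))
      have hzfix : cj d1 z = z := Subtype.ext (by
        rw [hcj, mem_centralizer_iff.1 hzZ.2 _ d1.2, mul_inv_cancel_right])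
      have hzu : cj d1 u = z * u := by rw [hz, inv_mul_cancel_right]
      have hpow : ∀ N : ℕ, cj (d1 ^ N) u = z ^ N * u := by
        intro N
        induction N with
        | zero => exact Subtype.ext (by rw [hcj]; simp)
        | succ N ih => rw [pow_succ', hcmul, ih, map_mul, map_pow, hzfix, hzu, pow_succ, mul_assoc]
      have h1 := hpow (orderOf d1)
      rw [pow_orderOf_eq_one, show cj 1 u = u from Subtype.ext (by rw [hcj]; simp)] at h1
      have h2 : z ^ orderOf d1 = 1 := mul_eq_right.1 h1.symm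
      have h3 : z ^ 2 = 1 := Subtype.ext (omegaOneCenter_pow hzZ.1)
      have hodd : (orderOf d1).Coprime 2 := hd1 ▸ (hk'.coprime_dvd_left (orderOf_pow_dvd i))
      have hz1 : z = 1 := orderOf_eq_one_iff.1 (Nat.eq_one_of_dvd_coprimes hodd (orderOf_dvd_of_pow_eq_one h2) (orderOf_dvd_of_pow_eq_one h3))
      rw [hzu, hz1, one_mul]
    obtain ⟨d', hd', he⟩ := hmem
    have hker : (d'⁻¹ * d : ↥D) ∈ H1 := by
      have h1 := alt_kernel hE hn hm hρ hψs hψe hk hact (e := d'⁻¹ * d) (by rw [map_mul, map_inv, he, inv_mul_cancel])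
      show cj _ u = u
      refine Subtype.ext ?_
      rw [hcj, core_commutes_bW h1 u.2, mul_inv_cancel_right]
    have := H1.mul_mem hd' hker
    rwa [mul_inv_cancel_left] at this
  -- the lifts
  have htrans : ∀ i : Fin n, ∃ d : ↥D, ρ d a = i := by
    intro i
    by_cases hi : i = a
    · exact ⟨1, by rw [map_one, hi]; rfl⟩
    obtain ⟨j, hja, hji⟩ := exists_third (by omega) a i
    obtain ⟨d, hd⟩ : Equiv.swap i a * Equiv.swap a j ∈ ρ.range := hρ ▸ cycle_mem hi hja.symm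
    exact ⟨d⁻¹, by rw [map_inv, hd]; simp [Equiv.swap_apply_of_ne_of_ne hji hja, hi, Ne.symm hi, hja, Ne.symm hja, hji, Ne.symm hji, Equiv.swap_apply_of_ne_of_ne hi hji.symm]⟩
  choose dd hdd using htrans
  let uu : Fin n → ↥(bW 2 D) := fun i => cj (dd i) u
  have huu : ∀ (e : ↥D) i, cj e (uu i) = uu (ρ e i) := by
    intro e i
    have h1 := hstab ((dd (ρ e i))⁻¹ * (e * dd i)) (by
      rw [map_mul, map_mul, map_inv, Equiv.Perm.mul_apply, Equiv.Perm.mul_apply, hdd, Equiv.Perm.inv_eq_iff_eq, hdd])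
    simp only [uu, ← hcmul]
    conv_lhs => rw [show e * dd i = dd (ρ e i) * ((dd (ρ e i))⁻¹ * (e * dd i)) by rw [mul_inv_cancel_left], hcmul, h1]
  have hsq : ∀ x : ↥(bW 2 D), x ^ 2 = 1 := fun x => Subtype.ext (omegaOneCenter_pow x.2)
  have hexp : ∀ (x : ↥(bW 2 D)) (s t : ZMod 2), x ^ (s + t).val = x ^ s.val * x ^ t.val := by
    intro x s t
    rcases two_cases s with rfl | rfl <;> rcases two_cases t with rfl | rfl <;>
      simp [CharTwo.add_self_eq_zero, ZMod.val_one, ← pow_two, hsq]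
  refine ⟨AddMonoidHom.mk' (fun v => Additive.ofMul (∏ i, uu i ^ (v i).val)) (fun v w => ?_), fun v hv => ?_, fun e v => ?_⟩
  · rw [← ofMul_mul, ← Finset.prod_mul_distrib]
    exact congrArg _ (Finset.prod_congr rfl fun i _ => hexp _ _ _)
  · show Multiplicative.toAdd (ψ (∏ i, uu i ^ (v i).val)) = v
    rw [map_prod, toAdd_prod]
    conv_rhs => rw [← co_sum hn hv]
    refine Finset.sum_congr rfl fun i _ => ?_
    rw [map_pow, toAdd_pow, hψcj, hu, pm_co, hdd]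
    rcases two_cases (v i) with h | h <;> simp [h, ZMod.val_one]
  · show ((∏ i, uu i ^ (pm (ρ e) v i).val : ↥(bW 2 D)) : G) = e * ((∏ i, uu i ^ (v i).val : ↥(bW 2 D)) : G) * (e : G)⁻¹
    rw [← hcj, map_prod, ← Equiv.prod_comp (ρ e)]
    refine congrArg Subtype.val (Finset.prod_congr rfl fun i _ => ?_)
    rw [map_pow, huu]
    simp [pm]

/-- In a symmetric block `W_E` has no nontrivial fixed point. -/
theorem alt_disjoint : bM 2 D ⊓ centralizer (D : Set G) = ⊥ := by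
  haveI : Fact (Nat.Prime 2) := ⟨Nat.prime_two⟩
  obtain ⟨θ, hθ, hθe⟩ := alt_section hE hn hm hρ hψs hψe hk hact
  let S : Subgroup G :=
    { carrier := {x | ∃ v, Ev v ∧ ((θ v).toMul : G) = x}
      one_mem' := ⟨0, by simp [Ev], by rw [map_zero]; rfl⟩
      mul_mem' := by
        rintro _ _ ⟨v, hv, rfl⟩ ⟨w, hw, rfl⟩
        exact ⟨v + w, ev_add hv hw, by rw [map_add, toMul_add]; rfl⟩
      inv_mem' := by
        rintro _ ⟨v, hv, rfl⟩
        exact ⟨-v, by simp only [Ev, Pi.neg_apply, Finset.sum_neg_distrib] at *; rw [hv, neg_zero], by rw [map_neg, toMul_neg]; rfl⟩ }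
  have hM : bM 2 D ≤ S := by
    refine commutator_le.2 fun w hw e he => ?_
    obtain ⟨v, hv⟩ : ∃ v, v = Multiplicative.toAdd (ψ ⟨w, hw⟩) := ⟨_, rfl⟩
    have hev : Ev v := hv ▸ hψe _
    obtain ⟨y, hy⟩ : ∃ y : G, y = ((θ v).toMul : G) := ⟨_, rfl⟩
    have hyS : y ∈ S := ⟨v, hev, hy.symm⟩
    have hz : y⁻¹ * w ∈ bZ 2 D := by
      have h1 : ψ ((θ v).toMul⁻¹ * ⟨w, hw⟩) = 1 := Multiplicative.toAdd.injective (by
        rw [map_mul, map_inv, toAdd_mul, toAdd_inv, hθ v hev, ← hv, neg_add_cancel]; rfl)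
      have h2 := (hk _).1 h1
      rw [hy]
      exact h2
    have he' : e * (y⁻¹ * w) * e⁻¹ = y⁻¹ * w := by rw [mem_centralizer_iff.1 hz.2 e he, mul_inv_cancel_right]
    have hyc : e * y * e⁻¹ ∈ S := ⟨pm (ρ ⟨e, he⟩) v, ev_pm _ hev, by rw [hθe, hy]⟩
    rw [commutatorElement_def, show w * e * w⁻¹ * e⁻¹ = y * (y⁻¹ * w) * (e * (y⁻¹ * w) * e⁻¹)⁻¹ * (e * y * e⁻¹)⁻¹ by group,
      he', mul_inv_cancel_right]
    exact mul_mem hyS (inv_mem hyc)
  refine eq_bot_iff.2 fun x hx => ?_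
  obtain ⟨v, hv, hvx⟩ := hM hx.1
  rw [mem_bot, ← hvx]
  have h1 : ψ (θ v).toMul = 1 := (hk _).2 (mem_inf.2 ⟨((θ v).toMul).2, hvx ▸ hx.2⟩)
  have h2 : v = 0 := by rw [← hθ v hv, h1]; rfl
  rw [h2, map_zero]
  rfl

/-- An element of the normaliser acts on the section as a permutation. -/
theorem alt_normalizer_perm {g : G} (hg : g ∈ normalizer (D : Set G)) :
    ∃ π : Equiv.Perm (Fin n), ∀ u w : ↥(bW 2 D), (w : G) = g * u * g⁻¹ →
      Multiplicative.toAdd (ψ w) = pm π (Multiplicative.toAdd (ψ u)) := by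
  haveI : Fact (Nat.Prime 2) := ⟨Nat.prime_two⟩
  obtain ⟨θ, hθ, -⟩ := alt_section hE hn hm hρ hψs hψe hk hact
  have hmap : ∀ g ∈ normalizer (D : Set G), ∃ L : (Fin n → ZMod 2) →+ (Fin n → ZMod 2),
      (∀ v, Ev v → Ev (L v)) ∧ ∀ u w : ↥(bW 2 D), (w : G) = g * u * g⁻¹ →
        Multiplicative.toAdd (ψ w) = L (Multiplicative.toAdd (ψ u)) := by
    intro g hg
    have hgW := normalizer_le_bW (p := 2) D hg
    obtain ⟨c, hc⟩ : ∃ c : ↥(bW 2 D) →* ↥(bW 2 D), ∀ u, (c u : G) = g * u * g⁻¹ :=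
      ⟨((bW 2 D).normalizerMonoidHom ⟨g, hgW⟩).toMonoidHom, fun u => rfl⟩
    refine ⟨AddMonoidHom.mk' (fun v => Multiplicative.toAdd (ψ (c (θ v).toMul))) (fun v w => by
      rw [map_add, toMul_add, map_mul, map_mul, toAdd_mul]), fun v _ => hψe _, fun u w hw => ?_⟩
    obtain ⟨v, hv⟩ : ∃ v, v = Multiplicative.toAdd (ψ u) := ⟨_, rfl⟩
    show Multiplicative.toAdd (ψ w) = Multiplicative.toAdd (ψ (c (θ (Multiplicative.toAdd (ψ u))).toMul))
    rw [← hv]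
    refine congrArg Multiplicative.toAdd ?_
    rw [← mul_inv_eq_one, ← map_inv, ← map_mul]
    refine (hk _).2 ?_
    rw [show w = c u from Subtype.ext (hw.trans (hc u).symm), ← map_inv, ← map_mul]
    rw [hc]
    refine (mem_normalizer_iff.1 (normalizer_le_bZ D hg) _).1 ((hk _).1 (Multiplicative.toAdd.injective ?_))
    rw [map_mul, map_inv, toAdd_mul, toAdd_inv, hθ v (hv ▸ hψe u), hv, add_neg_cancel]
    rfl
  obtain ⟨L, hLev, hL⟩ := hmap g hg
  obtain ⟨L', hL'ev, hL'⟩ := hmap g⁻¹ (inv_mem hg)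
  have hinv : ∀ (g : G) (L L' : (Fin n → ZMod 2) →+ (Fin n → ZMod 2)), g ∈ normalizer (D : Set G) →
      (∀ u w : ↥(bW 2 D), (w : G) = g * u * g⁻¹ → Multiplicative.toAdd (ψ w) = L (Multiplicative.toAdd (ψ u))) →
      (∀ u w : ↥(bW 2 D), (w : G) = g⁻¹ * u * g⁻¹⁻¹ → Multiplicative.toAdd (ψ w) = L' (Multiplicative.toAdd (ψ u))) →
      ∀ v, Ev v → L (L' v) = v := by
    intro g L L' hg hL hL' v hv
    obtain ⟨u, rfl⟩ := hψs v hv
    obtain ⟨w, hw⟩ : ∃ w : ↥(bW 2 D), (w : G) = g⁻¹ * u * g⁻¹⁻¹ :=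
      ⟨⟨_, (mem_normalizer_iff.1 (normalizer_le_bW D (inv_mem hg)) _).1 u.2⟩, rfl⟩
    rw [← hL' u w hw, ← hL w u (by rw [hw]; group)]
  have hconj : ∀ (g : G) (L : (Fin n → ZMod 2) →+ (Fin n → ZMod 2)), g ∈ normalizer (D : Set G) →
      (∀ u w : ↥(bW 2 D), (w : G) = g * u * g⁻¹ → Multiplicative.toAdd (ψ w) = L (Multiplicative.toAdd (ψ u))) →
      ∀ σ ∈ alternatingGroup (Fin n), ∃ τ, ∀ v, Ev v → L (pm σ v) = pm τ (L v) := by
    intro g L hg hL σ hσ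
    rw [← hρ] at hσ
    obtain ⟨e, rfl⟩ := hσ
    refine ⟨ρ ⟨g * e * g⁻¹, (mem_normalizer_iff.1 hg _).1 e.2⟩, fun v hv => ?_⟩
    obtain ⟨u, rfl⟩ := hψs v hv
    obtain ⟨u1, hu1⟩ : ∃ u1 : ↥(bW 2 D), (u1 : G) = e * u * (e : G)⁻¹ :=
      ⟨⟨_, (mem_normalizer_iff.1 (normalizer_le_bW D (le_normalizer e.2)) _).1 u.2⟩, rfl⟩
    obtain ⟨u2, hu2⟩ : ∃ u2 : ↥(bW 2 D), (u2 : G) = g * u1 * g⁻¹ :=
      ⟨⟨_, (mem_normalizer_iff.1 (normalizer_le_bW D hg) _).1 u1.2⟩, rfl⟩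
    obtain ⟨u3, hu3⟩ : ∃ u3 : ↥(bW 2 D), (u3 : G) = g * u * g⁻¹ :=
      ⟨⟨_, (mem_normalizer_iff.1 (normalizer_le_bW D hg) _).1 u.2⟩, rfl⟩
    rw [← hact e u u1 hu1, ← hL u1 u2 hu2, ← hL u u3 hu3]
    exact hact _ u3 u2 (by rw [hu2, hu1, hu3]; group)
  obtain ⟨π, hπ⟩ := exists_perm hn hm L L' hLev hL'ev
    (hinv g⁻¹ L' L (inv_mem hg) hL' (fun u w hw => hL u w (by rw [hw]; group))) (hinv g L L' hg hL hL')
    (hconj g L hg hL) (hconj g⁻¹ L' (inv_mem hg) hL')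
  exact ⟨π, fun u w hw => by rw [hL u w hw, hπ _ (hψe u)]⟩

end

end CfsgLib.LocalEven.SubBlock
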