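import Cfsg.Agent.Lib.LocalEven.SubBlock.Facts

/-!
# Modules of the conjugates of a subnormal block
-/

set_option autoImplicit false
set_option linter.all false

namespace CfsgLib.LocalEven.SubBlock

open Subgroup Cfsg
open CfsgLib.LocalEvenB
open CfsgLib.LocalEvenB.SubBlocks
open scoped commutatorElement

variable {G : Type*} [Group G] [Finite G] {p : ℕ} [hp : Fact p.Prime]

/-- What is needed of a subgroup of `W_D` normalised by `P`. -/
def HasFixed (p : ℕ) (D P : Subgroup G) : Prop :=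
  ∃ X : Subgroup G, X ≤ bM p D ∧ P ≤ normalizer (X : Set G) ∧ X ⊓ centralizer (D : Set G) = ⊥ ∧ X ≠ ⊥ ∧
    (p = 2 → 2 < Nat.card X ∧
      ∀ g ∈ P, g ∈ centralizer (X : Set G) → ∀ w ∈ bW p D, g * w * g⁻¹ * w⁻¹ ∈ X ⊔ bZ p D)

theorem conj_centralizer (D : Subgroup G) (g : G) :
    (centralizer (D : Set G)).map (MulAut.conj g).toMonoidHom =
      centralizer ((D.map (MulAut.conj g).toMonoidHom : Subgroup G) : Set G) :=
  map_centralizer_equiv (MulAut.conj g) D

section Indep

variable {ι : Type*} [DecidableEq ι] {D X : ι → Subgroup G} {V : Subgroup G}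

omit [Finite G] in
theorem le_normalizer_of_comm (hV : ∀ a ∈ V, ∀ b ∈ V, a * b = b * a) {A B : Subgroup G} (hA : A ≤ V) (hB : B ≤ V) :
    A ≤ normalizer (B : Set G) := fun a ha => centralizer_le_normalizer _
  (mem_centralizer_iff.2 fun b hb => hV b (hB hb) a (hA ha))

omit [Finite G] in
theorem sup_le_centralizer (s : Finset ι) {i : ι} (hi : i ∉ s)
    (hc : ∀ i j, i ≠ j → X i ≤ centralizer (D j : Set G)) : s.sup X ≤ centralizer (D i : Set G) :=
  Finset.sup_le fun j hj => hc j i fun h => hi (h ▸ hj)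

/-- Modules in the centraliser of each other's blocks are independent. -/
theorem indep (hV : ∀ a ∈ V, ∀ b ∈ V, a * b = b * a) (hXV : ∀ i, X i ≤ V)
    (hd : ∀ i, X i ⊓ centralizer (D i : Set G) = ⊥)
    (hc : ∀ i j, i ≠ j → X i ≤ centralizer (D j : Set G)) (s : Finset ι) :
    Nat.card ↥(s.sup X) = ∏ i ∈ s, Nat.card (X i) ∧
      ∀ y ∈ s.sup X, (∀ i ∈ s, y ∈ centralizer (D i : Set G)) → y = 1 := by
  induction s using Finset.induction_on with
  | empty => exact ⟨by simp, fun y hy _ => by simpa using hy⟩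
  | insert i s hi ih =>
    have hsV : s.sup X ≤ V := Finset.sup_le fun j _ => hXV j
    have hn := le_normalizer_of_comm hV (hXV i) hsV
    have hd' : X i ⊓ s.sup X = ⊥ := by
      rw [eq_bot_iff, ← hd i]
      exact inf_le_inf_left _ (sup_le_centralizer s hi hc)
    refine ⟨?_, fun y hy hyc => ?_⟩
    · rw [Finset.sup_insert, Finset.prod_insert hi, CfsgLib.Core.card_sup_of_disjoint _ _ hn hd', ih.1]
    · rw [Finset.sup_insert] at hy
      obtain ⟨x, hx, z, hz, rfl⟩ := (CfsgLib.Core.mem_sup_iff_mul hn).1 hy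
      have hxc : x ∈ centralizer (D i : Set G) := by
        have := mul_mem (hyc i (Finset.mem_insert_self i s)) (inv_mem (sup_le_centralizer s hi hc hz))
        simpa using this
      have hx1 : x ∈ X i ⊓ centralizer (D i : Set G) := mem_inf.2 ⟨hx, hxc⟩
      rw [hd i, mem_bot] at hx1
      subst hx1
      rw [one_mul] at hyc ⊢
      exact ih.2 z hz fun j hj => hyc j (Finset.mem_insert_of_mem hj)

end Indep

/-- The conjugates of a subnormal block under a group and their modules. -/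
theorem orbit_data (hG : centralizer (pCore p G : Set G) ≤ pCore p G) {D : Subgroup G} (hD : IsSubBlock p D)
    {X : Subgroup G} (hXM : X ≤ bM p D) (hXc : X ⊓ centralizer (D : Set G) = ⊥) (P : Subgroup G)
    (hPX : P ⊓ normalizer (D : Set G) ≤ normalizer (X : Set G)) :
    ∃ U : Subgroup G, Nat.card U = Nat.card X ^ (normalizer (D : Set G)).relIndex P ∧
      U ≤ omegaOneCenter p (pCore p G) ∧ X ≤ U ∧ U ≤ X ⊔ (U ⊓ centralizer (D : Set G)) ∧
      (∀ a ∈ P, X.map (MulAut.conj a).toMonoidHom ≤ U) ∧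
      (∀ Y : Subgroup G, (∀ a ∈ P, X.map (MulAut.conj a).toMonoidHom ≤ Y) → U ≤ Y) ∧
      (∀ y ∈ U, y ∈ centralizer (P : Set G) → y ∈ centralizer (D : Set G) → y = 1) := by
  classical
  obtain ⟨⟨T, hT⟩, -⟩ := id hD
  haveI : (pCore p G).Normal := CfsgLib.Core.normal_pCore p G
  obtain ⟨V, hV⟩ : ∃ V, V = omegaOneCenter p (pCore p G) := ⟨_, rfl⟩
  have hVc : ∀ a ∈ V, ∀ b ∈ V, a * b = b * a := fun a ha b hb => omegaOneCenter_comm (hV ▸ ha) (hV ▸ hb)
  have hVn : ∀ g : G, g ∈ normalizer (V : Set G) := fun g =>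
    hV ▸ normalizer_le_normalizer_omegaOneCenter _ (by rw [normalizer_eq_top]; exact mem_top g)
  obtain ⟨N, hN⟩ : ∃ N, N = (normalizer (D : Set G)).subgroupOf P := ⟨_, rfl⟩
  haveI : Fintype (↥P ⧸ N) := Fintype.ofFinite _
  have hmem : ∀ k : ↥P, k ∈ N ↔ (k : G) ∈ normalizer (D : Set G) := fun k => by rw [hN, mem_subgroupOf]
  let a : ↥P ⧸ N → G := fun q => (q.out : G)
  let Di : ↥P ⧸ N → Subgroup G := fun q => D.map (MulAut.conj (a q)).toMonoidHom
  let Xi : ↥P ⧸ N → Subgroup G := fun q => X.map (MulAut.conj (a q)).toMonoidHom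
  have hXV : ∀ q, Xi q ≤ V := fun q => by
    rw [← map_conj_eq_self_iff_mem_normalizer.2 (hVn (a q))]
    exact map_mono (hXM.trans (hV ▸ bM_le_V hG T hT))
  have hd : ∀ q, Xi q ⊓ centralizer (Di q : Set G) = ⊥ := fun q => by
    simp only [Xi, Di]
    rw [← conj_centralizer, ← map_inf _ _ (MulAut.conj (a q)).toMonoidHom (MulAut.conj (a q)).injective, hXc,
      Subgroup.map_bot]
  have hMD : ∀ q, Xi q ≤ Di q := fun q =>
    map_mono (hXM.trans (bM_le_bW.trans ((bW_le D).trans (pCoreOf_le D))))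
  have hc : ∀ q r, q ≠ r → Xi q ≤ centralizer (Di r : Set G) := by
    intro q r hne
    refine (hMD q).trans ((commutator_eq_bot_iff_le_centralizer.1
      ((sub_blocks_eq_or_commute hG (isSubBlock_conj hD (a q)) (isSubBlock_conj hD (a r))).resolve_left fun h => hne ?_)))
    rw [← q.out_eq, ← r.out_eq]
    refine Quotient.sound (QuotientGroup.leftRel_apply.2 ?_)
    rw [hmem, Subgroup.coe_mul, Subgroup.coe_inv]
    refine map_conj_eq_self_iff_mem_normalizer.1 ?_
    rw [← map_conj_map_conj, show (q.out : G) = a q from rfl, show (r.out : G) = a r from rfl, ← h, map_conj_map_conj,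
      inv_mul_cancel, map_one]
    exact Subgroup.map_id D
  have hind := indep hVc hXV hd hc Finset.univ
  have hout : ∀ (b : G) (hb : b ∈ P), ∃ k ∈ P ⊓ normalizer (D : Set G), a (QuotientGroup.mk ⟨b, hb⟩ : ↥P ⧸ N) = b * k := by
    intro b hb
    obtain ⟨k, hk⟩ := QuotientGroup.mk_out_eq_mul N ⟨b, hb⟩
    exact ⟨((k : ↥P) : G), mem_inf.2 ⟨(k : ↥P).2, (hmem _).1 k.2⟩, congrArg Subtype.val hk⟩
  have hXi : ∀ (b : G) (hb : b ∈ P), Xi (QuotientGroup.mk ⟨b, hb⟩ : ↥P ⧸ N) = X.map (MulAut.conj b).toMonoidHom := by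
    intro b hb
    obtain ⟨k, hk, e⟩ := hout b hb
    simp only [Xi, e]
    rw [← map_conj_map_conj, map_conj_eq_self_iff_mem_normalizer.2 (hPX hk)]
  have hDi : ∀ (b : G) (hb : b ∈ P), Di (QuotientGroup.mk ⟨b, hb⟩ : ↥P ⧸ N) = D.map (MulAut.conj b).toMonoidHom := by
    intro b hb
    obtain ⟨k, hk, e⟩ := hout b hb
    simp only [Di, e]
    rw [← map_conj_map_conj, map_conj_eq_self_iff_mem_normalizer.2 (mem_inf.1 hk).2]
  have h1 : ∀ (Y : Subgroup G), Y.map (MulAut.conj (1 : G)).toMonoidHom = Y := fun Y => by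
    rw [map_one]; exact Subgroup.map_id Y
  refine ⟨Finset.univ.sup Xi, ?_, hV ▸ Finset.sup_le fun q _ => hXV q, ?_, ?_, ?_, ?_, ?_⟩
  · rw [hind.1, Finset.prod_congr rfl fun q _ => card_map_of_injective (K := X) (MulAut.conj (a q)).injective,
      Finset.prod_const, Finset.card_univ, ← Nat.card_eq_fintype_card, relIndex, Subgroup.index_eq_card, hN]
  · exact ((h1 X).ge.trans (hXi 1 (one_mem P)).ge).trans (Finset.le_sup (Finset.mem_univ _))
  · refine Finset.sup_le fun q hq => ?_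
    by_cases h : q = QuotientGroup.mk ⟨1, one_mem P⟩
    · subst h
      rw [hXi, h1]
      exact le_sup_left
    · refine le_trans ?_ le_sup_right
      refine le_inf (Finset.le_sup hq) ?_
      have := hc q _ h
      rwa [hDi, h1] at this
  · exact fun b hb => (hXi b hb).ge.trans (Finset.le_sup (Finset.mem_univ _))
  · exact fun Y hY => Finset.sup_le fun q _ => hY _ (q.out).2
  · intro y hy hyP hyD
    refine hind.2 y hy fun q _ => ?_
    show y ∈ centralizer ((D.map (MulAut.conj (a q)).toMonoidHom : Subgroup G) : Set G)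
    rw [← conj_centralizer]
    refine ⟨y, hyD, ?_⟩
    show a q * y * (a q)⁻¹ = y
    rw [mem_centralizer_iff.1 hyP _ (q.out).2, mul_inv_cancel_right]

end CfsgLib.LocalEven.SubBlock
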