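import Cfsg.Agent.Lib.LocalEven.BlockCent.Quad
import Cfsg.Agent.Lib.LocalEven.SubBlock.Facts

/-!
# Natural sections and their normalisers
-/

set_option autoImplicit false
set_option linter.all false

namespace CfsgLib.LocalEven.SubBlock

open Subgroup Cfsg Matrix
open CfsgLib.LocalEvenB
open CfsgLib.LocalEvenB.SubBlocks
open CfsgLib.LocalEven.BlockCent
open scoped commutatorElement

variable {G : Type*} [Group G] [Finite G] {F : Type} [Field F] [Finite F] {E U U0 : Subgroup G}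
  {ψ : ↥U →* Multiplicative (Fin 2 → F)} {ρ : ↥E →* Matrix.SpecialLinearGroup (Fin 2) F}

/-- Conjugation by an element of `E` induces its matrix. -/
theorem induces_rho
    (hact : ∀ (e : ↥E) (u : ↥U), ∃ w : ↥U, (w : G) = (e : G) * (u : G) * (e : G)⁻¹ ∧
      Multiplicative.toAdd (ψ w) = (ρ e : Matrix (Fin 2) (Fin 2) F) *ᵥ Multiplicative.toAdd (ψ u))
    (e : ↥E) : Induces ψ (e : G) ((ρ e : Matrix (Fin 2) (Fin 2) F) *ᵥ ·) := fun u w hw => by
  obtain ⟨w', hw', h⟩ := hact e u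
  rw [show w = w' from Subtype.ext (hw.trans hw'.symm)]
  exact h

section

variable (hs : Function.Surjective ψ) (hk : ∀ u : ↥U, ψ u = 1 ↔ (u : G) ∈ U0)
include hs hk

/-- What the normaliser of a natural block induces on the section is semilinear. -/
theorem semilinear (hρ : Function.Surjective ρ) (hiE : ∀ e : ↥E, Induces ψ (e : G) ((ρ e : Matrix (Fin 2) (Fin 2) F) *ᵥ ·))
    (hEU : E ≤ normalizer (U : Set G)) {g : G} (hg : g ∈ normalizer (E : Set G)) (hgU : g ∈ normalizer (U : Set G))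
    (hgU0 : g ∈ normalizer (U0 : Set G)) {L : (Fin 2 → F) →+ (Fin 2 → F)} (hL : Induces ψ g L) :
    ∀ l : F, ∃ m : F, ∀ v, L (l • v) = m • L v := by
  obtain ⟨L', hL'⟩ := exists_induces hs hk (inv_mem hgU) (inv_mem hgU0)
  have hLL' : ∀ v, L (L' v) = v := induces_unique hs hk (g := g * g⁻¹) (by rw [mul_inv_cancel]; exact one_mem _)
    (induces_mul hs hk (inv_mem hgU) hL hL') (by rw [mul_inv_cancel]; exact induces_one hs hk)
  have hL'L : ∀ v, L' (L v) = v := induces_unique hs hk (g := g⁻¹ * g) (by rw [inv_mul_cancel]; exact one_mem _)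
    (induces_mul hs hk hgU hL' hL) (by rw [inv_mul_cancel]; exact induces_one hs hk)
  have hconj : ∀ (e : ↥E) (e' : ↥E), (e' : G) = g⁻¹ * e * g → ∀ v,
      (ρ e : Matrix (Fin 2) (Fin 2) F) *ᵥ L v = L ((ρ e' : Matrix (Fin 2) (Fin 2) F) *ᵥ v) := fun e e' he =>
    induces_unique hs hk (g := (e : G) * g) (mul_mem (hEU e.2) hgU) (induces_mul hs hk hgU (hiE e) hL)
      (by rw [show (e : G) * g = g * (e' : G) by rw [he]; group]; exact induces_mul hs hk (hEU e'.2) hL (hiE e'))
  intro l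
  obtain ⟨k, hk'⟩ := scalar_of_commute (AddMonoidHom.mk' (fun v => L (l • L' v))
    (fun a b => by rw [map_add, smul_add, map_add])) fun M v => by
    obtain ⟨e, rfl⟩ := hρ M
    have hm : g⁻¹ * (e : G) * g ∈ E := (mem_normalizer_iff''.1 hg _).1 e.2
    simp only [AddMonoidHom.mk'_apply]
    have h1 := hconj e ⟨_, hm⟩ rfl
    have h2 : L' ((ρ e : Matrix (Fin 2) (Fin 2) F) *ᵥ v) = (ρ ⟨_, hm⟩ : Matrix (Fin 2) (Fin 2) F) *ᵥ L' v := by
      have h3 := h1 (L' v)
      rw [hLL'] at h3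
      rw [h3, hL'L]
    rw [h2, ← mulVec_smul, h1]
  refine ⟨k, fun v => ?_⟩
  have := hk' (L v)
  simpa [hL'L] using this

theorem induces_pow {g : G} (hg : g ∈ normalizer (U : Set G)) {L : (Fin 2 → F) →+ (Fin 2 → F)}
    (hL : Induces ψ g L) : ∀ n : ℕ, Induces ψ (g ^ n) (L^[n])
  | 0 => by rw [pow_zero]; exact induces_one hs hk
  | n + 1 => by
    rw [pow_succ', Function.iterate_succ']
    exact induces_mul hs hk (L := ⇑L) (L' := (⇑L)^[n]) (pow_mem hg n) hL (induces_pow hg hL n)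

end

end CfsgLib.LocalEven.SubBlock
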