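import Cfsg.Agent.Lib.LocalEvenB.SubnormalSylow
import Cfsg.Agent.Lib.LocalEven.SubBlock.Section
import Cfsg.Agent.Lib.LocalEven.SubBlock.Orbit

/-!
# The fixed line of a Sylow subgroup of a subnormal block over a field of characteristic two
-/

set_option autoImplicit false
set_option linter.all false

namespace CfsgLib.LocalEven.SubBlock

open Subgroup Cfsg Matrix
open CfsgLib.LocalEvenB
open CfsgLib.LocalEvenB.SubBlocks
open CfsgLib.LocalEven.BlockCent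
open scoped commutatorElement

variable {G : Type*} [Group G] [Finite G] {p : ℕ} [hp : Fact p.Prime]

/-- Some point of `W` outside `Z` is fixed by the Sylow subgroups of a linear subnormal `2`-block. -/
theorem exists_sylow_fixed (hG : centralizer (pCore 2 G : Set G) ≤ pCore 2 G) {D : Subgroup G}
    (hD : IsSubBlock 2 D) (hl : pCoreOf 2 D = bW 2 D) (T : Sylow 2 G) :
    ∃ w ∈ bW 2 D, w ∉ centralizer (D : Set G) ∧ w ∈ centralizer (((T : Subgroup G) ⊓ D : Subgroup G) : Set G) := by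
  classical
  obtain ⟨⟨TD, hTD⟩, hsn⟩ := id hD
  haveI : (pCore 2 G).Normal := CfsgLib.Core.normal_pCore 2 G
  obtain ⟨z, hzΩ, hzD⟩ : ∃ z ∈ omegaOneCenter 2 (TD : Subgroup G), z ∉ centralizer (D : Set G) := by
    by_contra h
    push Not at h
    exact hTD.2.2.2.1 ((commutator_eq_bot_iff_le_centralizer).2 (le_centralizer_iff.1 h))
  have hzc : ∀ t ∈ (TD : Subgroup G), t * z = z * t := fun t ht =>
    mem_centralizer_iff.1 (CfsgLib.PGroups.omegaOne_le _ hzΩ).2 t ht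
  have hzR : z ∈ pCore 2 G := hG (mem_centralizer_iff.2 fun r hr => hzc r (CfsgLib.Core.pCore_le_sylow TD hr))
  obtain ⟨V, hV⟩ : ∃ V, V = omegaOneCenter 2 (pCore 2 G) := ⟨_, rfl⟩
  have hzV : z ∈ V := hV ▸ CfsgLib.PGroups.mem_omegaOne
    ⟨hzR, mem_centralizer_iff.2 fun r hr => hzc r (CfsgLib.Core.pCore_le_sylow TD hr)⟩ (omegaOneCenter_pow hzΩ)
  have hVn : ∀ g : G, g ∈ normalizer (V : Set G) := fun g =>
    hV ▸ normalizer_le_normalizer_omegaOneCenter _ (by rw [normalizer_eq_top]; exact mem_top g)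
  have hfW : ∀ d ∈ D, d * z * d⁻¹ * z⁻¹ ∈ bW 2 D := fun d hd => by
    have h1 := inv_mem (sub_comm_R hD (commutator_mem_commutator hzR hd))
    rwa [commutatorElement_inv, commutatorElement_def, hl] at h1
  have hfV : ∀ d : G, d * z * d⁻¹ * z⁻¹ ∈ V := fun d =>
    mul_mem ((mem_normalizer_iff.1 (hVn d) z).1 hzV) (inv_mem hzV)
  obtain ⟨I, hI⟩ : ∃ I, I = bW 2 D ⊓ V := ⟨_, rfl⟩
  letI : CommGroup ↥I := { (inferInstance : Group ↥I) with
    mul_comm := fun a b => Subtype.ext (bW_comm (hI ▸ a.2 : (a : G) ∈ bW 2 D ⊓ V).1 (hI ▸ b.2 : (b : G) ∈ bW 2 D ⊓ V).1) }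
  have hDI : D ≤ normalizer (I : Set G) := fun d hd => hI ▸
    inf_normalizer_le_normalizer_inf (mem_inf.2 ⟨normalizer_le_bW D (le_normalizer hd), hVn d⟩)
  let f : ↥D → ↥I := fun d => ⟨(d : G) * z * (d : G)⁻¹ * z⁻¹, hI ▸ mem_inf.2 ⟨hfW d d.2, hfV d⟩⟩
  let cj : ↥D → ↥I →* ↥I := fun d => (I.normalizerMonoidHom ⟨d, hDI d.2⟩).toMonoidHom
  obtain ⟨S, hS⟩ : ∃ S, S = ((TD : Subgroup G) ⊓ D).subgroupOf D := ⟨_, rfl⟩
  have hodd : ¬ 2 ∣ S.index := hS ▸ not_dvd_relIndex_inf_of_subnormal TD hsn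
  haveI : Fintype (↥D ⧸ S) := Fintype.ofFinite _
  have hcoset : ∀ d d' : ↥D, (QuotientGroup.mk d : ↥D ⧸ S) = QuotientGroup.mk d' → f d = f d' := by
    intro d d' h
    rw [QuotientGroup.eq, hS, mem_subgroupOf] at h
    apply Subtype.ext
    show (d : G) * z * (d : G)⁻¹ * z⁻¹ = (d' : G) * z * (d' : G)⁻¹ * z⁻¹
    rw [Subgroup.coe_mul, Subgroup.coe_inv] at h
    obtain ⟨s, hs⟩ : ∃ s, s = (d : G)⁻¹ * (d' : G) := ⟨_, rfl⟩
    rw [← hs] at h
    rw [show (d' : G) = d * s by rw [hs]; group, show (d : G) * s * z * ((d : G) * s)⁻¹ = (d : G) * (s * z * s⁻¹) * (d : G)⁻¹ by group,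
      hzc s (mem_inf.1 h).1, mul_inv_cancel_right]
  obtain ⟨y, hy⟩ : ∃ y : ↥I, y = ∏ q : ↥D ⧸ S, f q.out := ⟨_, rfl⟩
  have hkey : ∀ h : ↥D, f h = (cj h y)⁻¹ * y := by
    intro h
    have e1 : ∀ d : ↥D, f (h * d) = cj h (f d) * f h := fun d => Subtype.ext (by
      show (h : G) * d * z * ((h : G) * d)⁻¹ * z⁻¹ = (h : G) * ((d : G) * z * (d : G)⁻¹ * z⁻¹) * (h : G)⁻¹ * ((h : G) * z * (h : G)⁻¹ * z⁻¹)
      group)
    have e2 : y = cj h y * f h ^ S.index := by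
      conv_lhs => rw [hy, ← Equiv.prod_comp (MulAction.toPerm h : Equiv.Perm (↥D ⧸ S))]
      rw [Finset.prod_congr rfl fun q _ => show f (MulAction.toPerm h q).out = cj h (f q.out) * f h by
        rw [← e1]
        refine hcoset _ _ ?_
        rw [QuotientGroup.out_eq']
        conv_lhs => rw [← QuotientGroup.out_eq' q]
        rfl, Finset.prod_mul_distrib, ← map_prod, ← hy, Finset.prod_const, Finset.card_univ, ← Nat.card_eq_fintype_card,
        ← Subgroup.index_eq_card]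
    have e3 : f h ^ S.index = f h := by
      obtain ⟨j, hj⟩ := Nat.odd_iff.2 (Nat.two_dvd_ne_zero.1 hodd)
      have h2 : (f h) ^ 2 = 1 := Subtype.ext (omegaOneCenter_pow (hI ▸ (f h).2 : (f h : G) ∈ bW 2 D ⊓ V).1)
      rw [hj, pow_succ, pow_mul, h2, one_pow, one_mul]
    rw [e3] at e2
    exact eq_inv_mul_iff_mul_eq.2 e2.symm
  have hyW : (y : G) ∈ bW 2 D := (hI ▸ y.2 : (y : G) ∈ bW 2 D ⊓ V).1
  have hynD : (y : G) ∉ centralizer (D : Set G) := by
    intro h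
    refine hzD (mem_centralizer_iff.2 fun d hd => ?_)
    have h1 : cj ⟨d, hd⟩ y = y := Subtype.ext (by
      show d * (y : G) * d⁻¹ = y
      rw [mem_centralizer_iff.1 h d hd, mul_inv_cancel_right])
    have h2 := congrArg Subtype.val (hkey ⟨d, hd⟩)
    rw [h1, inv_mul_cancel] at h2
    have h3 : d * z * d⁻¹ * z⁻¹ = 1 := h2
    rwa [mul_inv_eq_one, mul_inv_eq_iff_eq_mul] at h3
  -- transport to the given Sylow subgroup
  obtain ⟨n, hn, hconj⟩ := CfsgLib.Transfer.exists_conj_le (p := 2) (N := D) (S := (T : Subgroup G) ⊓ D)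
    (T := (TD : Subgroup G) ⊓ D) (TD.2.to_le inf_le_left)
    (not_dvd_relIndex_inf_of_subnormal TD hsn) inf_le_right (T.2.to_le inf_le_left)
  refine ⟨n * y * n⁻¹, (mem_normalizer_iff.1 (normalizer_le_bW D (le_normalizer hn)) _).1 hyW, fun h => hynD ?_, ?_⟩
  · have := (mem_normalizer_iff''.1 (CfsgLib.Signalizer.normalizer_le_normalizer_centralizer_set D (le_normalizer hn)) _).1 h
    simpa [mul_assoc] using this
  · refine mem_centralizer_iff.2 fun s hs => ?_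
    obtain ⟨hsT, hsD⟩ := mem_inf.1 (hconj s hs)
    have h1 : f ⟨n⁻¹ * s * n, hsD⟩ = 1 := Subtype.ext (by
      show n⁻¹ * s * n * z * (n⁻¹ * s * n)⁻¹ * z⁻¹ = 1
      rw [hzc _ hsT, mul_inv_cancel_right, mul_inv_cancel])
    rw [hkey, inv_mul_eq_one] at h1
    have h2 : n⁻¹ * s * n * (y : G) * (n⁻¹ * s * n)⁻¹ = y := congrArg Subtype.val h1
    rw [mul_inv_eq_iff_eq_mul] at h2
    rw [show s * (n * (y : G) * n⁻¹) = n * ((n⁻¹ * s * n) * y) * n⁻¹ by group, h2]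
    group

set_option maxHeartbeats 800000 in
/-- The fixed line. -/
theorem hasFixed_line (hG : centralizer (pCore 2 G : Set G) ≤ pCore 2 G) {D : Subgroup G}
    (hD : IsSubBlock 2 D) (hl : pCoreOf 2 D = bW 2 D) (T : Sylow 2 G) {F : Type} [Field F] [Fintype F] [CharP F 2]
    (h4 : 4 ≤ Fintype.card F) (ρ : ↥D →* Matrix.SpecialLinearGroup (Fin 2) F) (hρ : Function.Surjective ρ)
    (ψ : ↥(bW 2 D) →* Multiplicative (Fin 2 → F)) (hs : Function.Surjective ψ)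
    (hk : ∀ u, ψ u = 1 ↔ (u : G) ∈ bZ 2 D)
    (hi : ∀ e : ↥D, Induces ψ (e : G) ((ρ e : Matrix (Fin 2) (Fin 2) F) *ᵥ ·)) :
    HasFixed 2 D ((T : Subgroup G) ⊓ normalizer (D : Set G)) := by
  classical
  obtain ⟨⟨TD, hTD⟩, hsn⟩ := id hD
  obtain ⟨S, hS⟩ : ∃ S, S = (T : Subgroup G) ⊓ D := ⟨_, rfl⟩
  obtain ⟨w, hwW, hwD, hwS⟩ := exists_sylow_fixed hG hD hl T
  rw [← hS] at hwS
  have hSD : S ≤ D := hS ▸ inf_le_right
  have hSp : IsPGroup 2 S := hS ▸ T.2.to_le inf_le_left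
  have hSodd : ¬ 2 ∣ S.relIndex D := hS ▸ not_dvd_relIndex_inf_of_subnormal T hsn
  have hDW : D ≤ normalizer (bW 2 D : Set G) := le_normalizer.trans (normalizer_le_bW D)
  have hDZ : D ≤ normalizer (bZ 2 D : Set G) := le_normalizer.trans (normalizer_le_bZ D)
  have hker : ∀ d : ↥D, ρ d = 1 → (d : G) ∈ pCoreOf 2 D := fun d hd => block_kernel_WZ hTD (mem_inf.2 ⟨d.2,
    (induces_id_iff hs hk (hDW d.2) (hDZ d.2)).1 fun u x hx => by
      rw [hi d u x hx, hd, Matrix.SpecialLinearGroup.coe_one]; exact one_mulVec _⟩)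
  obtain ⟨v, hv⟩ : ∃ v, v = Multiplicative.toAdd (ψ ⟨w, hwW⟩) := ⟨_, rfl⟩
  have hv0 : v ≠ 0 := fun h => hwD (((hk ⟨w, hwW⟩).1 (Multiplicative.toAdd.injective (hv ▸ h))).2)
  let φ : (Fin 2 → F) → F := fun u => v 0 * u 1 - v 1 * u 0
  have hφker : ∀ u, φ u = 0 → ∃ k : F, u = k • v := by
    intro u hu
    have hu' : v 0 * u 1 = v 1 * u 0 := sub_eq_zero.1 hu
    by_cases h0 : v 0 = 0
    · have h1 : v 1 ≠ 0 := fun h1 => hv0 (by ext i; fin_cases i <;> assumption)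
      rw [h0, zero_mul] at hu'
      refine ⟨u 1 / v 1, ?_⟩
      ext i
      fin_cases i
      · simp [h0, (mul_eq_zero.1 hu'.symm).resolve_left h1]
      · simp [h1]
    · refine ⟨u 0 / v 0, ?_⟩
      ext i
      fin_cases i
      · simp [h0]
      · simp only [Fin.mk_one, Pi.smul_apply, smul_eq_mul]
        field_simp
        linear_combination hu'
  have h2F : (2 : F) = 0 := CharTwo.two_eq_zero
  -- the stabiliser of `v` is the Sylow subgroup
  let H : Subgroup G :=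
    { carrier := {d | ∃ h : d ∈ D, (ρ ⟨d, h⟩ : Matrix (Fin 2) (Fin 2) F) *ᵥ v = v}
      one_mem' := ⟨one_mem _, by rw [show (⟨1, one_mem D⟩ : ↥D) = 1 from rfl, map_one, Matrix.SpecialLinearGroup.coe_one, one_mulVec]⟩
      mul_mem' := by
        rintro a b ⟨ha, ea⟩ ⟨hb, eb⟩
        exact ⟨mul_mem ha hb, by
          rw [show (⟨a * b, mul_mem ha hb⟩ : ↥D) = ⟨a, ha⟩ * ⟨b, hb⟩ from rfl, map_mul, Matrix.SpecialLinearGroup.coe_mul,
            ← mulVec_mulVec, eb, ea]⟩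
      inv_mem' := by
        rintro a ⟨ha, ea⟩
        refine ⟨inv_mem ha, ?_⟩
        conv_lhs => rw [show (⟨a⁻¹, inv_mem ha⟩ : ↥D) = (⟨a, ha⟩ : ↥D)⁻¹ from rfl, ← ea]
        rw [mulVec_mulVec, ← Matrix.SpecialLinearGroup.coe_mul, ← map_mul, inv_mul_cancel, map_one,
          Matrix.SpecialLinearGroup.coe_one, one_mulVec] }
  have hSH : S ≤ H := fun s hs' => ⟨hSD hs', by
    have e : s * w * s⁻¹ = w := by rw [mem_centralizer_iff.1 hwS s hs', mul_inv_cancel_right]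
    have := hi ⟨s, hSD hs'⟩ ⟨w, hwW⟩ ⟨w, hwW⟩ e.symm
    rw [← hv] at this
    exact this.symm⟩
  have hHD : H ≤ D := fun d hd => hd.1
  have hHp : IsPGroup 2 H := by
    rintro ⟨d, hd, hdv⟩
    have hsq : ∀ u : Fin 2 → F, (ρ ⟨d, hd⟩ : Matrix (Fin 2) (Fin 2) F) *ᵥ ((ρ ⟨d, hd⟩ : Matrix (Fin 2) (Fin 2) F) *ᵥ u) = u := by
      intro u
      obtain ⟨M, hM⟩ : ∃ M, M = (ρ ⟨d, hd⟩ : Matrix (Fin 2) (Fin 2) F) := ⟨_, rfl⟩
      have hdet : M 0 0 * M 1 1 - M 0 1 * M 1 0 = 1 := by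
        rw [← det_fin_two, hM]; exact (ρ ⟨d, hd⟩).2
      rw [← hM] at hdv ⊢
      have e0 := congrFun hdv 0
      have e1 := congrFun hdv 1
      simp [mulVec, dotProduct, Fin.sum_univ_two] at e0 e1
      -- the trace vanishes
      have htr : M 0 0 + M 1 1 = 0 := by
        by_contra hne
        rcases (show v 0 ≠ 0 ∨ v 1 ≠ 0 from not_and_or.1 fun h => hv0 (by ext i; fin_cases i <;> simp [h.1, h.2])) with h | h
        · refine hne (mul_left_cancel₀ h ?_)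
          linear_combination (M 1 1 - 1) * e0 - M 0 1 * e1 - v 0 * hdet + (v 0 * (M 0 0 + M 1 1 - 1)) * h2F
        · refine hne (mul_left_cancel₀ h ?_)
          linear_combination (M 0 0 - 1) * e1 - M 1 0 * e0 - v 1 * hdet + (v 1 * (M 0 0 + M 1 1 - 1)) * h2F
      have hMM : M * M = 1 := by
        ext i j
        fin_cases i <;> fin_cases j <;> simp [Matrix.mul_apply, Fin.sum_univ_two]
        · linear_combination -1 * hdet + M 0 0 * htr - h2F
        · linear_combination M 0 1 * htr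
        · linear_combination M 1 0 * htr
        · linear_combination -1 * hdet + M 1 1 * htr - h2F
      rw [mulVec_mulVec, hMM, one_mulVec]
    have h1 : ρ (⟨d, hd⟩ * ⟨d, hd⟩) = 1 := by
      rw [map_mul]
      refine Subtype.ext (Matrix.ext_iff_mulVec.2 fun u => ?_)
      rw [Matrix.SpecialLinearGroup.coe_mul, ← mulVec_mulVec, hsq, Matrix.SpecialLinearGroup.coe_one, one_mulVec]
    obtain ⟨k, hk'⟩ := isPGroup_pCoreOf D ⟨_, hker _ h1⟩
    refine ⟨k + 1, Subtype.ext ?_⟩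
    show d ^ 2 ^ (k + 1) = 1
    rw [pow_succ', pow_mul, pow_two]
    exact congrArg Subtype.val hk'
  have hHS : H = S := by
    refine le_antisymm (relIndex_eq_one.1 ?_) hSH
    obtain ⟨k, hk'⟩ := IsPGroup.iff_card.1 hHp
    have h1 : S.relIndex H ∣ Nat.card H := relIndex_dvd_card S H
    rw [hk'] at h1
    obtain ⟨j, -, hj⟩ := (Nat.dvd_prime_pow Nat.prime_two).1 h1
    rcases Nat.eq_zero_or_pos j with rfl | hj0
    · rw [hj, pow_zero]
    · refine absurd ((hj ▸ dvd_pow_self 2 hj0.ne' : 2 ∣ S.relIndex H).trans ⟨H.relIndex D, ?_⟩) hSodd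
      rw [relIndex_mul_relIndex S H D hSH hHD]
  obtain ⟨C', hC'⟩ : ∃ C', C' = bW 2 D ⊓ centralizer (S : Set G) := ⟨_, rfl⟩
  obtain ⟨N, hN⟩ : ∃ N, N = D ⊓ normalizer (S : Set G) := ⟨_, rfl⟩
  have hC'W : C' ≤ bW 2 D := hC' ▸ inf_le_left
  have hND : N ≤ D := hN ▸ inf_le_left
  have hSN : S ≤ N := hN ▸ le_inf hSD le_normalizer
  have hwC : w ∈ C' := hC' ▸ mem_inf.2 ⟨hwW, hwS⟩
  have hC'line : ∀ x (hx : x ∈ C'), ∃ k : F, Multiplicative.toAdd (ψ ⟨x, hC'W hx⟩) = k • v := by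
    intro x hx
    obtain ⟨u, hu⟩ : ∃ u, u = Multiplicative.toAdd (ψ ⟨x, hC'W hx⟩) := ⟨_, rfl⟩
    obtain ⟨d1, hd1⟩ := hρ ⟨!![1 - v 0 * v 1, v 0 * v 0; -(v 1 * v 1), 1 + v 1 * v 0], by rw [det_fin_two_of]; ring⟩
    have hd1H : (d1 : G) ∈ H := ⟨d1.2, by
      rw [show (⟨(d1 : G), d1.2⟩ : ↥D) = d1 from rfl, hd1]
      ext i; fin_cases i <;> simp [mulVec, dotProduct, Fin.sum_univ_two] <;> ring⟩
    rw [hHS] at hd1H
    have e : (d1 : G) * x * (d1 : G)⁻¹ = x := by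
      rw [mem_centralizer_iff.1 (hC' ▸ hx : x ∈ bW 2 D ⊓ centralizer (S : Set G)).2 _ hd1H, mul_inv_cancel_right]
    have h1 := hi d1 ⟨x, hC'W hx⟩ ⟨x, hC'W hx⟩ e.symm
    simp only [hd1, ← hu] at h1
    rw [← hu]
    refine hφker u ?_
    have h0 := congrFun h1 0
    have h1' := congrFun h1 1
    simp [mulVec, dotProduct, Fin.sum_univ_two] at h0 h1'
    rcases (show v 0 ≠ 0 ∨ v 1 ≠ 0 from not_and_or.1 fun h => hv0 (by ext i; fin_cases i <;> simp [h.1, h.2])) with h | h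
    · exact (mul_eq_zero.1 (show v 0 * φ u = 0 by simp only [φ]; linear_combination -1 * h0)).resolve_left h
    · exact (mul_eq_zero.1 (show v 1 * φ u = 0 by simp only [φ]; linear_combination -1 * h1')).resolve_left h
  have hNC : N ≤ normalizer (C' : Set G) := fun d hd => by
    rw [hN] at hd
    rw [hC']
    exact inf_normalizer_le_normalizer_inf (mem_inf.2 ⟨hDW hd.1, CfsgLib.Signalizer.normalizer_le_normalizer_centralizer_set S hd.2⟩)
  have hC'N : ⁅C', N⁆ ≤ C' := le_normalizer_iff_commutator_le_left.1 hNC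
  obtain ⟨X, hX⟩ : ∃ X, X = ⁅C', N⁆ := ⟨_, rfl⟩
  have hXW : X ≤ bW 2 D := hX ▸ hC'N.trans hC'W
  have hXM : X ≤ bM 2 D := hX ▸ commutator_mono hC'W hND
  have hXc : X ⊓ centralizer (D : Set G) = ⊥ := by
    obtain ⟨c, hc⟩ := IsPGroup.iff_card.1 hSp
    haveI : (S.subgroupOf N).Normal := (normal_subgroupOf_iff_le_normalizer hSN).2 (hN ▸ inf_le_right)
    have hodd : ¬ 2 ∣ (S.subgroupOf N).index := fun h => hSodd (h.trans ⟨N.relIndex D, (relIndex_mul_relIndex S N D hSN hND).symm⟩)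
    obtain ⟨K, hK⟩ := exists_right_complement'_of_coprime (N := S.subgroupOf N) (by
      rw [Nat.card_congr (subgroupOfEquivOfLe hSN).toEquiv, hc]
      exact (Nat.Coprime.pow_left c ((Nat.prime_two.coprime_iff_not_dvd).2 hodd)))
    obtain ⟨A, hA⟩ : ∃ A, A = K.map N.subtype := ⟨_, rfl⟩
    have hAN : A ≤ N := hA ▸ map_subtype_le _
    have hNA : N ≤ A ⊔ S := by
      have h1 : (S.subgroupOf N).map N.subtype = S := by rw [subgroupOf_map_subtype, inf_eq_left.2 hSN]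
      conv_rhs => rw [hA, ← h1, ← Subgroup.map_sup, sup_comm, hK.sup_eq_top, ← MonoidHom.range_eq_map, range_subtype]
    have hAc : (Nat.card A).Coprime 2 := by
      rw [hA, card_map_of_injective N.subtype_injective, ← hK.symm.index_eq_card]
      exact ((Nat.prime_two.coprime_iff_not_dvd).2 hodd).symm
    haveI : IsMulCommutative C' := ⟨⟨fun a b => Subtype.ext (bW_comm (hC'W a.2) (hC'W b.2))⟩⟩
    obtain ⟨e, he⟩ := IsPGroup.iff_card.1 ((bW_pGroup (p := 2) D).to_le hC'W)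
    have hcop : (Nat.card A).Coprime (Nat.card C') := he ▸ hAc.pow_right e
    have hXA : X ≤ ⁅C', A⁆ := by
      rw [hX]
      refine commutator_le.2 fun x hx n hn => ?_
      obtain ⟨a, ha, s, hs', rfl⟩ := (CfsgLib.Core.mem_sup_iff_mul (hAN.trans (hN ▸ inf_le_right))).1 (hNA hn)
      have hsx : s * x⁻¹ * s⁻¹ = x⁻¹ := by
        rw [mem_centralizer_iff.1 (inv_mem (hC' ▸ hx : x ∈ bW 2 D ⊓ centralizer (S : Set G)).2) s hs', mul_inv_cancel_right]
      rw [show ⁅x, a * s⁆ = ⁅x, a⁆ by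
        rw [commutatorElement_def, commutatorElement_def,
          show x * (a * s) * x⁻¹ * (a * s)⁻¹ = x * a * (s * x⁻¹ * s⁻¹) * a⁻¹ by group, hsx]]
      exact commutator_mem_commutator hx ha
    rw [eq_bot_iff, ← CfsgLib.Core.abelian_inf_eq_bot (hAN.trans hNC) hcop, inf_comm]
    exact le_inf (le_inf ((inf_le_right.trans hXA).trans (le_normalizer_iff_commutator_le_left.1 (hAN.trans hNC)))
      (inf_le_left.trans (centralizer_le (hAN.trans hND)))) (inf_le_right.trans hXA)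
  -- the image of `X` is the line
  have hmul : ∀ x y (hx : x ∈ bW 2 D) (hy : y ∈ bW 2 D), Multiplicative.toAdd (ψ ⟨x * y, mul_mem hx hy⟩) =
      Multiplicative.toAdd (ψ ⟨x, hx⟩) + Multiplicative.toAdd (ψ ⟨y, hy⟩) := fun x y hx hy => by
    rw [show (⟨x * y, mul_mem hx hy⟩ : ↥(bW 2 D)) = ⟨x, hx⟩ * ⟨y, hy⟩ from rfl, map_mul, toAdd_mul]
  have hlow : ∀ l : F, l ≠ 0 → ∃ x, ∃ hx : x ∈ X, Multiplicative.toAdd (ψ ⟨x, hXW hx⟩) = (1 - l) • v := by
    intro l hl0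
    obtain ⟨u, hu⟩ : ∃ u : Fin 2 → F, v 0 * u 1 - v 1 * u 0 = 1 := by
      by_cases h0 : v 0 = 0
      · have h1 : v 1 ≠ 0 := fun h1 => hv0 (by ext i; fin_cases i <;> assumption)
        exact ⟨![-(v 1)⁻¹, 0], by simp [h0, h1]⟩
      · exact ⟨![0, (v 0)⁻¹], by simp [h0]⟩
    obtain ⟨B, hB⟩ : ∃ B : Matrix.SpecialLinearGroup (Fin 2) F, B = ⟨!![v 0, u 0; v 1, u 1], by
      rw [det_fin_two_of]; linear_combination hu⟩ := ⟨_, rfl⟩
    have hBe : (B : Matrix (Fin 2) (Fin 2) F) *ᵥ ![1, 0] = v := by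
      rw [hB]; ext i; fin_cases i <;> simp [mulVec, dotProduct, Fin.sum_univ_two]
    obtain ⟨d, hd⟩ := hρ (B * torus l hl0 * B⁻¹)
    have hdv : (ρ d : Matrix (Fin 2) (Fin 2) F) *ᵥ v = l • v := by
      conv_lhs => rw [← hBe, mulVec_mulVec, hd, ← Matrix.SpecialLinearGroup.coe_mul, inv_mul_cancel_right,
        Matrix.SpecialLinearGroup.coe_mul, ← mulVec_mulVec]
      rw [show ((torus l hl0 : Matrix.SpecialLinearGroup (Fin 2) F) : Matrix (Fin 2) (Fin 2) F) *ᵥ ![1, 0] = l • ![1, 0] by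
        ext i; fin_cases i <;> simp [torus, mulVec, dotProduct, Fin.sum_univ_two], mulVec_smul, hBe]
    have hdN : (d : G) ∈ N := by
      rw [hN]
      refine mem_inf.2 ⟨d.2, ?_⟩
      refine CfsgLib.LocalEvenB.mem_normalizer_of_forall fun s hs' => ?_
      rw [← hHS] at hs' ⊢
      obtain ⟨hsD, hsv⟩ := hs'
      refine ⟨mul_mem (mul_mem d.2 hsD) (inv_mem d.2), ?_⟩
      have hdinv : (ρ d⁻¹ : Matrix (Fin 2) (Fin 2) F) *ᵥ v = l⁻¹ • v := by
        conv_lhs => rw [show v = l⁻¹ • l • v from (inv_smul_smul₀ hl0 v).symm, ← hdv]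
        rw [mulVec_smul, mulVec_mulVec, ← Matrix.SpecialLinearGroup.coe_mul, ← map_mul, inv_mul_cancel, map_one,
          Matrix.SpecialLinearGroup.coe_one, one_mulVec]
      rw [show (⟨(d : G) * s * (d : G)⁻¹, mul_mem (mul_mem d.2 hsD) (inv_mem d.2)⟩ : ↥D) = d * ⟨s, hsD⟩ * d⁻¹ from rfl,
        map_mul, map_mul, Matrix.SpecialLinearGroup.coe_mul, Matrix.SpecialLinearGroup.coe_mul, ← mulVec_mulVec, hdinv,
        ← mulVec_mulVec, mulVec_smul, hsv, mulVec_smul, hdv, inv_smul_smul₀ hl0]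
    have hx : ⁅w, (d : G)⁆ ∈ X := hX ▸ commutator_mem_commutator hwC hdN
    refine ⟨_, hx, ?_⟩
    have hy : (d : G) * w⁻¹ * (d : G)⁻¹ ∈ bW 2 D := (mem_normalizer_iff.1 (hDW d.2) _).1 (inv_mem hwW)
    have h1 := hi d ⟨w⁻¹, inv_mem hwW⟩ ⟨_, hy⟩ rfl
    simp only [show (⟨w⁻¹, inv_mem hwW⟩ : ↥(bW 2 D)) = (⟨w, hwW⟩ : ↥(bW 2 D))⁻¹ from rfl, map_inv, toAdd_inv,
      ← hv, mulVec_neg, hdv] at h1
    have h2 := hmul w _ hwW hy
    rw [h1, ← hv] at h2
    rw [show (⟨⁅w, (d : G)⁆, hXW hx⟩ : ↥(bW 2 D)) = ⟨w * ((d : G) * w⁻¹ * (d : G)⁻¹), mul_mem hwW hy⟩ from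
      Subtype.ext (by show ⁅w, (d : G)⁆ = w * ((d : G) * w⁻¹ * (d : G)⁻¹); rw [commutatorElement_def]; group), h2, sub_smul, one_smul]
    abel
  have hline : ∀ k : F, ∃ x, ∃ hx : x ∈ X, Multiplicative.toAdd (ψ ⟨x, hXW hx⟩) = k • v := by
    intro k
    by_cases hk1 : k = 1
    · obtain ⟨a, -, ha⟩ : ∃ a ∈ (Finset.univ : Finset F), a ∉ ({0, 1} : Finset F) := by
        apply Finset.exists_mem_notMem_of_card_lt_card
        rw [Finset.card_univ]
        exact lt_of_le_of_lt Finset.card_le_two (by omega)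
      simp only [Finset.mem_insert, Finset.mem_singleton, not_or] at ha
      obtain ⟨x, hx, ex⟩ := hlow a ha.1
      obtain ⟨y, hy, ey⟩ := hlow (1 - a) (sub_ne_zero.2 (Ne.symm ha.2))
      refine ⟨x * y, mul_mem hx hy, ?_⟩
      rw [hmul x y (hXW hx) (hXW hy), ex, ey, hk1, ← add_smul]
      congr 1
      ring
    · obtain ⟨x, hx, ex⟩ := hlow (1 - k) (sub_ne_zero.2 (Ne.symm hk1))
      exact ⟨x, hx, by rw [ex, sub_sub_cancel]⟩
  choose xl hxl hxlψ using hline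
  have hXcard : Fintype.card F ≤ Nat.card X := by
    rw [← Nat.card_eq_fintype_card]
    refine Nat.card_le_card_of_injective (fun k => (⟨xl k, hxl k⟩ : ↥X)) fun a b h => ?_
    have h1 : (⟨xl a, hXW (hxl a)⟩ : ↥(bW 2 D)) = ⟨xl b, hXW (hxl b)⟩ := Subtype.ext (congrArg Subtype.val h :)
    have h2 := congrArg (fun u => Multiplicative.toAdd (ψ u)) h1
    simp only [hxlψ] at h2
    exact smul_left_injective F hv0 h2
  refine ⟨X, hXM, fun g hg => ?_, hXc, fun h => ?_, fun _ => ⟨by omega, fun g hg hgX u hu => ?_⟩⟩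
  · obtain ⟨hgT, hgD⟩ := mem_inf.1 hg
    have hgS : g ∈ normalizer (S : Set G) := hS ▸ inf_normalizer_le_normalizer_inf (mem_inf.2 ⟨le_normalizer hgT, hgD⟩)
    have hgC : g ∈ normalizer (C' : Set G) := hC' ▸ inf_normalizer_le_normalizer_inf (mem_inf.2
      ⟨normalizer_le_bW D hgD, CfsgLib.Signalizer.normalizer_le_normalizer_centralizer_set S hgS⟩)
    have hgN : g ∈ normalizer (N : Set G) := by
      rw [hN]
      refine inf_normalizer_le_normalizer_inf (mem_inf.2 ⟨hgD, ?_⟩)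
      exact le_normalizer hgS
    refine CfsgLib.LocalEvenB.mem_normalizer_of_forall fun x hx => ?_
    rw [hX] at hx ⊢
    have h1 := mem_map_of_mem (MulAut.conj g).toMonoidHom hx
    rwa [map_commutator, map_conj_eq_self_iff_mem_normalizer.2 hgC, map_conj_eq_self_iff_mem_normalizer.2 hgN] at h1
  · rw [h, Subgroup.card_bot] at hXcard
    omega
  · obtain ⟨hgT, hgD⟩ := mem_inf.1 hg
    have hgW := normalizer_le_bW (p := 2) D hgD
    obtain ⟨L, hL⟩ := exists_induces hs hk hgW (normalizer_le_bZ D hgD)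
    have hfix : ∀ k : F, L (k • v) = k • v := fun k => by
      have e : g * xl k * g⁻¹ = xl k := by rw [← mem_centralizer_iff.1 hgX _ (hxl k), mul_inv_cancel_right]
      have := hL ⟨xl k, hXW (hxl k)⟩ ⟨xl k, hXW (hxl k)⟩ e.symm
      rw [hxlψ] at this
      exact this.symm
    have hlin : ∀ (l : F) x, L (l • x) = l • L x := by
      intro l
      obtain ⟨m, hm⟩ := semilinear hs hk hρ hi hDW hgD hgW (normalizer_le_bZ D hgD) hL l
      have h1 := hm ((1 : F) • v)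
      rw [hfix, smul_smul, mul_one, hfix, one_smul] at h1
      rw [← smul_left_injective F hv0 h1] at hm
      exact hm
    obtain ⟨b, hb⟩ : ∃ b : Fin 2 → F, φ b = 1 := by
      by_cases h0 : v 0 = 0
      · have h1 : v 1 ≠ 0 := fun h1 => hv0 (by ext i; fin_cases i <;> assumption)
        exact ⟨![-(v 1)⁻¹, 0], by simp [φ, h0, h1]⟩
      · exact ⟨![0, (v 0)⁻¹], by simp [φ, h0]⟩
    have hφL : ∀ x, φ (L x) = φ x * φ (L b) := by
      intro x
      obtain ⟨k, hk'⟩ := hφker (x - φ x • b) (by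
        simp only [φ, Pi.sub_apply, Pi.smul_apply, smul_eq_mul] at hb ⊢
        linear_combination -(v 0 * x 1 - v 1 * x 0) * hb)
      rw [sub_eq_iff_eq_add] at hk'
      conv_lhs => rw [hk', map_add, hfix, hlin]
      simp only [φ, Pi.add_apply, Pi.smul_apply, smul_eq_mul]
      ring
    have hpow : ∀ n : ℕ, φ ((⇑L)^[n] b) = φ (L b) ^ n := by
      intro n
      induction n with
      | zero => simpa using hb
      | succ n ih => rw [Function.iterate_succ_apply', hφL, ih, pow_succ]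
    obtain ⟨e, he⟩ := T.2 ⟨g, hgT⟩
    have he' : g ^ 2 ^ e = 1 := congrArg Subtype.val he
    have hpw := induces_pow hs hk hgW hL (2 ^ e)
    rw [he'] at hpw
    have h1 := hpow (2 ^ e)
    rw [induces_unique hs hk (one_mem _) hpw (induces_one hs hk) b] at h1
    simp only [id, hb] at h1
    have ha : φ (L b) = 1 := by
      haveI : Fact (Nat.Prime 2) := ⟨Nat.prime_two⟩
      have h2 : (φ (L b) - 1) ^ 2 ^ e = 0 := by rw [sub_pow_char_pow, ← h1, one_pow, sub_self]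
      exact sub_eq_zero.1 ((pow_eq_zero_iff (by positivity)).1 h2)
    obtain ⟨u', hu'⟩ : ∃ u', u' = Multiplicative.toAdd (ψ ⟨u, hu⟩) := ⟨_, rfl⟩
    obtain ⟨k, hk'⟩ := hφker (L u' - u') (by
      have h2 := hφL u'
      rw [ha, mul_one] at h2
      simp only [φ, Pi.sub_apply] at h2 ⊢
      linear_combination h2)
    have hgu : g * u * g⁻¹ ∈ bW 2 D := (mem_normalizer_iff.1 hgW u).1 hu
    have hc : g * u * g⁻¹ * u⁻¹ ∈ bW 2 D := mul_mem hgu (inv_mem hu)
    have e1 : Multiplicative.toAdd (ψ (⟨_, hgu⟩ * (⟨u, hu⟩ : ↥(bW 2 D))⁻¹)) = k • v := by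
      rw [map_mul, map_inv, toAdd_mul, toAdd_inv, hL ⟨u, hu⟩ ⟨_, hgu⟩ rfl, ← hu', ← sub_eq_add_neg, hk']
    have h3 : ψ ((⟨xl k, hXW (hxl k)⟩ : ↥(bW 2 D))⁻¹ * (⟨_, hgu⟩ * (⟨u, hu⟩ : ↥(bW 2 D))⁻¹)) = 1 := by
      rw [map_mul, map_inv, inv_mul_eq_one]
      exact Multiplicative.toAdd.injective ((hxlψ k).trans e1.symm)
    have h4 := (hk _).1 h3
    rw [show g * u * g⁻¹ * u⁻¹ = xl k * ((xl k)⁻¹ * (g * u * g⁻¹ * u⁻¹)) by group]
    exact mul_mem (mem_sup_left (hxl k)) (mem_sup_right h4)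

end CfsgLib.LocalEven.SubBlock
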