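import Mathlib.FieldTheory.Finite.Basic
import Cfsg.Agent.Lib.LocalEven.SubBlock.AltSection
import Cfsg.Agent.Lib.LocalEven.SubBlock.FixedLine

/-!
# Every subnormal block has a module with few fixed points
-/

set_option autoImplicit false
set_option linter.all false

namespace CfsgLib.LocalEven.SubBlock

open Subgroup Cfsg Matrix
open CfsgLib.LocalEvenB
open CfsgLib.LocalEvenB.SubBlocks
open CfsgLib.LocalEven.BlockCent
open scoped commutatorElement

variable {G : Type*} [Group G] [Finite G] {p : ℕ} [hp : Fact p.Prime]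

theorem hasFixed_of_disjoint {T D : Subgroup G} (hD : IsBaumannBlock p T D)
    (h : bM p D ⊓ centralizer (D : Set G) = ⊥) {P : Subgroup G} (hP : P ≤ normalizer (D : Set G)) :
    HasFixed p D P := by
  have hne : bM p D ≠ ⊥ := fun h0 => bM_not_le_centralizer hD (h0 ▸ bot_le)
  refine ⟨bM p D, le_rfl, hP.trans (normalizer_le_bM D), h, hne, fun hp2 => ⟨?_, fun g hg _ w hw => ?_⟩⟩
  · by_contra hle
    push Not at hle
    have h2 : Nat.card (bM p D) = 2 := le_antisymm hle ((Subgroup.one_lt_card_iff_ne_bot _).2 hne)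
    refine bM_not_le_centralizer hD fun x hx => mem_centralizer_iff.2 fun d hd => ?_
    rcases eq_or_ne x 1 with rfl | hx1
    · simp
    have hc : d * x * d⁻¹ ∈ bM p D := (mem_normalizer_iff.1 (normalizer_le_bM D (le_normalizer hd)) x).1 hx
    obtain ⟨y, z, -, hyz⟩ := Nat.card_eq_two_iff.1 h2
    have hall : ∀ a : ↥(bM p D), a = y ∨ a = z := fun a => by
      have : a ∈ ({y, z} : Set ↥(bM p D)) := hyz ▸ Set.mem_univ a
      simpa using this
    have hne1 : d * x * d⁻¹ ≠ 1 := fun e => hx1 (conj_eq_one_iff.1 e)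
    refine mul_inv_eq_iff_eq_mul.1 (?_ : d * x * d⁻¹ = x)
    rcases hall ⟨_, hc⟩ with a | a <;> rcases hall ⟨x, hx⟩ with b | b <;> rcases hall 1 with c | c <;>
      first
        | exact congrArg Subtype.val (a.trans b.symm)
        | exact absurd (congrArg Subtype.val (a.trans c.symm)) hne1
        | exact absurd (congrArg Subtype.val (b.trans c.symm)) hx1
  · have hgW := normalizer_le_bW (p := p) D (hP hg)
    rw [← W_eq_sup hD]
    exact mul_mem ((mem_normalizer_iff.1 hgW w).1 hw) (inv_mem hw)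

/-- Minus one is a commutator in odd characteristic. -/
theorem neg_one_mem_commutator {F : Type} [Field F] [CharP F p] :
    ∃ N ∈ commutator (Matrix.SpecialLinearGroup (Fin 2) F), (N : Matrix (Fin 2) (Fin 2) F) = -1 := by
  haveI : NeZero p := ⟨hp.out.ne_zero⟩
  obtain ⟨x, y, hxy⟩ := CharP.sq_add_sq F p (-1)
  push_cast at hxy
  let a : Matrix.SpecialLinearGroup (Fin 2) F := ⟨!![0, 1; -1, 0], by simp [det_fin_two]⟩
  let b : Matrix.SpecialLinearGroup (Fin 2) F := ⟨!![(x : F), (y : F); (y : F), -(x : F)], by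
    rw [det_fin_two_of]; linear_combination -hxy⟩
  refine ⟨⁅a, b⁆, commutator_mem_commutator (mem_top a) (mem_top b), ?_⟩
  rw [commutatorElement_def, Matrix.SpecialLinearGroup.coe_mul, Matrix.SpecialLinearGroup.coe_mul,
    Matrix.SpecialLinearGroup.coe_mul, Matrix.SpecialLinearGroup.coe_inv, Matrix.SpecialLinearGroup.coe_inv,
    Matrix.adjugate_fin_two, Matrix.adjugate_fin_two]
  ext i j
  fin_cases i <;> fin_cases j <;> simp [a, b, Matrix.mul_apply, Fin.sum_univ_two]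
  all_goals first | linear_combination hxy | ring

/-- In odd characteristic `W_E` has no nontrivial fixed point. -/
theorem disjoint_odd {T D : Subgroup G} (hp2 : p ≠ 2) (hD : IsBaumannBlock p T D) {F : Type} [Field F] [Fintype F]
    [CharP F p] (h : ActsAsSL2OnSection F (commutator (Matrix.SpecialLinearGroup (Fin 2) F)) D (bW p D) (bZ p D)) :
    bM p D ⊓ centralizer (D : Set G) = ⊥ := by
  obtain ⟨hn, hle, ρ, ψ, hρ, hs, hk, hact⟩ := h
  obtain ⟨N, hNc, hN⟩ := neg_one_mem_commutator (p := p) (F := F)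
  obtain ⟨t, ht⟩ : ∃ t, ρ t = N := by rw [← hρ] at hNc; exact hNc
  have hi := fun e => induces_rho hact e
  have hDW : ∀ e : ↥D, (e : G) ∈ normalizer (bW p D : Set G) := fun e => hn e.2
  have hDZ : ∀ e : ↥D, (e : G) ∈ normalizer (bZ p D : Set G) := fun e => normalizer_le_bZ D (le_normalizer e.2)
  have hker : ∀ e : ↥D, (∀ v, (ρ e : Matrix (Fin 2) (Fin 2) F) *ᵥ v = v) → (e : G) ∈ pCoreOf p D := fun e he =>
    block_kernel_WZ hD (mem_inf.2 ⟨e.2, (induces_id_iff hs hk (hDW e) (hDZ e)).1 fun u x hx => by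
      rw [hi e u x hx]; exact he _⟩)
  have hNN : ∀ v : Fin 2 → F, (N : Matrix (Fin 2) (Fin 2) F) *ᵥ v = -v := fun v => by rw [hN, neg_mulVec, one_mulVec]
  have ht2 : (t : G) * t ∈ pCoreOf p D := hker (t * t) fun v => by
    rw [map_mul, Matrix.SpecialLinearGroup.coe_mul, ← mulVec_mulVec, ht, hNN, hNN, neg_neg]
  have hp_odd : Odd p := hp.out.odd_of_ne_two hp2
  let I : Subgroup G :=
    { carrier := {x | x ∈ bW p D ∧ (t : G) * x * (t : G)⁻¹ = x⁻¹}
      one_mem' := ⟨one_mem _, by simp⟩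
      mul_mem' := fun {a b} ha hb => ⟨mul_mem ha.1 hb.1, by
        rw [show (t : G) * (a * b) * (t : G)⁻¹ = (t * a * (t : G)⁻¹) * (t * b * (t : G)⁻¹) by group, ha.2, hb.2,
          _root_.mul_inv_rev, bW_comm (inv_mem ha.1) (inv_mem hb.1)]⟩
      inv_mem' := fun {a} ha => ⟨inv_mem ha.1, by
        rw [show (t : G) * a⁻¹ * (t : G)⁻¹ = ((t : G) * a * (t : G)⁻¹)⁻¹ by group, ha.2]⟩ }
  have hDI : D ≤ normalizer (I : Set G) := fun e he => CfsgLib.LocalEvenB.mem_normalizer_of_forall fun x hx => by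
    refine ⟨(mem_normalizer_iff.1 (hn he) x).1 hx.1, ?_⟩
    obtain ⟨c, hc⟩ : ∃ c : ↥D, c = ⁅t, (⟨e, he⟩ : ↥D)⁆ := ⟨_, rfl⟩
    have hcm : ρ t * ρ ⟨e, he⟩ = ρ ⟨e, he⟩ * ρ t := Subtype.ext (Matrix.ext_iff_mulVec.2 fun u => by
      rw [Matrix.SpecialLinearGroup.coe_mul, Matrix.SpecialLinearGroup.coe_mul, ← mulVec_mulVec, ← mulVec_mulVec, ht,
        hNN, hNN, mulVec_neg])
    have hc1 : ρ c = 1 := by rw [hc, map_commutatorElement, commutatorElement_eq_one_iff_mul_comm.2 hcm]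
    have hq : (c : G) ∈ pCoreOf p D := hker c fun v => by
      rw [hc1, Matrix.SpecialLinearGroup.coe_one, one_mulVec]
    have hte : (t : G) * e = (c : G) * (e * t) := by
      rw [hc, show ((⁅t, (⟨e, he⟩ : ↥D)⁆ : ↥D) : G) = ⁅(t : G), e⁆ from rfl, commutatorElement_def]; group
    have h1 : e * x⁻¹ * e⁻¹ ∈ bW p D := (mem_normalizer_iff.1 (hn he) _).1 (inv_mem hx.1)
    rw [show (t : G) * (e * x * e⁻¹) * (t : G)⁻¹ = ((t : G) * e) * x * ((t : G) * e)⁻¹ by group, hte,
      show (c : G) * (e * t) * x * ((c : G) * (e * t))⁻¹ = (c : G) * (e * ((t : G) * x * (t : G)⁻¹) * e⁻¹) * (c : G)⁻¹ by group,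
      hx.2, core_commutes_bW hq h1, mul_inv_cancel_right]
    group
  have hM : bM p D ≤ I := by
    refine commutator_le.2 fun w hw e he => ?_
    have hw' : (t : G) * w * (t : G)⁻¹ ∈ bW p D := (mem_normalizer_iff.1 (hDW t) w).1 hw
    obtain ⟨y, hy⟩ : ∃ y, y = w * ((t : G) * w * (t : G)⁻¹)⁻¹ := ⟨_, rfl⟩
    obtain ⟨f, hf⟩ : ∃ f, f = w * ((t : G) * w * (t : G)⁻¹) := ⟨_, rfl⟩
    have htt : (t : G) * ((t : G) * w * (t : G)⁻¹) * (t : G)⁻¹ = w := by
      rw [show (t : G) * ((t : G) * w * (t : G)⁻¹) * (t : G)⁻¹ = ((t : G) * t) * w * ((t : G) * t)⁻¹ by group,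
        core_commutes_bW ht2 hw, mul_inv_cancel_right]
    have hyI : y ∈ I := by
      refine ⟨hy ▸ mul_mem hw (inv_mem hw'), ?_⟩
      rw [hy, show (t : G) * (w * ((t : G) * w * (t : G)⁻¹)⁻¹) * (t : G)⁻¹ =
        ((t : G) * w * (t : G)⁻¹) * ((t : G) * ((t : G) * w * (t : G)⁻¹) * (t : G)⁻¹)⁻¹ by group, htt, _root_.mul_inv_rev, inv_inv]
    have hfW : f ∈ bW p D := hf ▸ mul_mem hw hw'
    have hffix : (t : G) * f * (t : G)⁻¹ = f := by
      rw [hf, show (t : G) * (w * ((t : G) * w * (t : G)⁻¹)) * (t : G)⁻¹ =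
        ((t : G) * w * (t : G)⁻¹) * ((t : G) * ((t : G) * w * (t : G)⁻¹) * (t : G)⁻¹) by group, htt, bW_comm hw' hw]
    have hfZ : f ∈ bZ p D := by
      have h1 := hi t ⟨f, hfW⟩ ⟨f, hfW⟩ hffix.symm
      simp only [ht, hNN] at h1
      refine (hk ⟨f, hfW⟩).1 (Multiplicative.toAdd.injective ?_)
      rw [toAdd_one]
      have h2 : (2 : F) ≠ 0 := Ring.two_ne_zero (by rw [ringChar.eq F p]; exact hp2)
      funext i
      have h3 := congrFun h1 i
      simp only [Pi.neg_apply] at h3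
      exact (mul_eq_zero.1 (show (2 : F) * Multiplicative.toAdd (ψ ⟨f, hfW⟩) i = 0 by linear_combination h3)).resolve_left h2
    obtain ⟨j, hj⟩ := hp_odd
    have hwexp : w = (y * f) ^ (j + 1) := by
      have e1 : y * f = w ^ 2 := by
        rw [hy, hf, bW_comm hw hw', mul_assoc w, inv_mul_cancel_left, pow_two]
      rw [e1, ← pow_mul, show 2 * (j + 1) = p + 1 by omega, pow_succ, omegaOneCenter_pow hw, one_mul]
    have hcomm : Commute y f := bW_comm (hy ▸ mul_mem hw (inv_mem hw')) hfW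
    rw [hwexp, hcomm.mul_pow, commutatorElement_def]
    have e2 : e * f ^ (j + 1) * e⁻¹ = f ^ (j + 1) := by
      rw [← conj_pow, mem_centralizer_iff.1 hfZ.2 e he, mul_inv_cancel_right]
    rw [show y ^ (j + 1) * f ^ (j + 1) * e * (y ^ (j + 1) * f ^ (j + 1))⁻¹ * e⁻¹ =
      y ^ (j + 1) * f ^ (j + 1) * (e * f ^ (j + 1) * e⁻¹)⁻¹ * (e * y ^ (j + 1) * e⁻¹)⁻¹ by group, e2, mul_inv_cancel_right]
    exact mul_mem (pow_mem hyI _) (inv_mem ((mem_normalizer_iff.1 (hDI he) _).1 (pow_mem hyI _)))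
  refine eq_bot_iff.2 fun x hx => ?_
  obtain ⟨hxW, hxt⟩ := hM hx.1
  rw [mem_centralizer_iff.1 hx.2 _ t.2, mul_inv_cancel_right] at hxt
  have h2 : x ^ 2 = 1 := by rw [pow_two]; nth_rw 2 [hxt]; exact mul_inv_cancel x
  exact mem_bot.2 (orderOf_eq_one_iff.1 (Nat.eq_one_of_dvd_coprimes
    (Nat.coprime_two_right.2 hp_odd : p.Coprime 2) (orderOf_dvd_of_pow_eq_one (omegaOneCenter_pow hxW)) (orderOf_dvd_of_pow_eq_one h2)))

/-- The module needed for the Thompson subgroup argument. -/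
theorem hasFixed_of_subBlock (hG : centralizer (pCore p G : Set G) ≤ pCore p G) {D : Subgroup G}
    (hD : IsSubBlock p D) (T : Sylow p G) : HasFixed p D ((T : Subgroup G) ⊓ normalizer (D : Set G)) := by
  obtain ⟨⟨TD, hTD⟩, -⟩ := id hD
  rcases hTD.2.2.2.2 with ⟨F, hF, hFt, n, hcard, hiso, hW, hlin⟩ | ⟨hp2, m, hiso, ⟨hn, hle, ρ, ψ, hρ, hψe, hψs, hk, hact⟩, hlin⟩
  · haveI := charP_of_card hcard
    by_cases hp2 : p = 2
    · subst hp2
      have hl : pCoreOf 2 D = bW 2 D := hlin.resolve_right fun h => absurd h.1 (by norm_num)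
      rcases Nat.lt_or_ge (Fintype.card F) 4 with h4 | h4
      · have hq : Fintype.card F = 2 := by
          obtain ⟨k, hk⟩ : ∃ k, n = k + 1 := ⟨n - 1, by
            have : n ≠ 0 := fun h => by rw [h, pow_zero] at hcard; exact absurd hcard (Fintype.one_lt_card (α := F)).ne'
            omega⟩
          rcases k with _ | k
          · rw [hcard, hk]; rfl
          · rw [hcard, hk, pow_succ, pow_succ] at h4
            have := Nat.one_le_pow k 2 two_pos
            omega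
        refine hasFixed_of_disjoint hTD (disjoint_of_coprime hTD ?_) inf_le_right
        obtain ⟨f⟩ := hiso
        obtain ⟨g⟩ := nonempty_mulEquiv_commutator_sl2 (ZMod.ringEquivOfPrime F Nat.prime_two hq).symm
        rw [Nat.card_congr (f.trans g).toEquiv, card_commutator_sl22]
        norm_num
      · obtain ⟨hn, hle, ρ, ψ, hρ, hs, hk, hact⟩ := hW
        exact hasFixed_line hG hD hl T h4 ρ (MonoidHom.range_eq_top.1 (hρ.trans (sl2_quasisimple h4).2)) ψ hs hk
          (induces_rho hact)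
    · exact hasFixed_of_disjoint hTD (disjoint_odd hp2 hTD hW) inf_le_right
  · subst hp2
    rcases Nat.eq_zero_or_pos m with rfl | hm
    · exfalso
      refine block_core_ne hTD (le_antisymm (pCoreOf_le D) fun x hx => ?_)
      obtain ⟨f⟩ := hiso
      have h1 : ((⟨x, hx⟩ : ↥D) : ↥D ⧸ pCore 2 ↥D) = 1 := f.injective (Subtype.ext (Equiv.ext fun i => Fin.ext (by omega)))
      exact ⟨_, (QuotientGroup.eq_one_iff _).1 h1, rfl⟩
    · refine hasFixed_of_disjoint hTD (alt_disjoint hTD rfl hm hρ hψs hψe hk ?_) inf_le_right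
      intro e u w hw
      obtain ⟨w', hw', h⟩ := hact e u
      rw [show w = w' from Subtype.ext (hw.trans hw'.symm)]
      exact funext h

end CfsgLib.LocalEven.SubBlock
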