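import Cfsg.Agent.Lib.LocalEven.SubBlock.JStable
import Cfsg.Agent.Lib.LocalEven.SubBlock.Fixed

/-!
# A subnormal block and the Baumann subgroup of the group
-/

set_option autoImplicit false
set_option linter.all false

namespace CfsgLib.LocalEven.SubBlock

open Subgroup Cfsg
open CfsgLib.LocalEvenB
open CfsgLib.LocalEvenB.SubBlocks
open scoped commutatorElement

variable {G : Type*} [Group G] [Finite G] {p : ℕ} [hp : Fact p.Prime]

theorem baumann_le_baumannSubgroup (T : Sylow p G) :
    baumannSubgroupOf p (T : Subgroup G) ≤ baumannSubgroup p G :=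
  le_iSup (fun T : Sylow p G => baumannSubgroupOf p (T : Subgroup G)) T

instance baumannSubgroup_normal : (baumannSubgroup p G).Normal := by
  refine ⟨fun x hx g => ?_⟩
  have hle : baumannSubgroup p G ≤ (baumannSubgroup p G).comap (MulAut.conj g).toMonoidHom :=
    iSup_le fun T => map_le_iff_le_comap.1 (by
      rw [← baumann_map_conj]
      exact baumann_le_baumannSubgroup (g • T))
  exact hle hx

theorem block_le_baumannSubgroup {T : Sylow p G} {E : Subgroup G} (hE : IsBaumannBlock p (T : Subgroup G) E) :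
    E ≤ baumannSubgroup p G := by
  conv_lhs => rw [← hE.2.1]
  exact (commutator_mono le_rfl (baumann_le_baumannSubgroup T)).trans (commutator_le_right _ _)

theorem baumannSubgroup_le_normalizer (hG : centralizer (pCore p G : Set G) ≤ pCore p G) {E : Subgroup G}
    (hE : IsSubBlock p E) : baumannSubgroup p G ≤ normalizer (E : Set G) :=
  iSup_le fun T => baumann_le_normalizer hG hE T (hasFixed_of_subBlock hG hE T)

/-- A subnormal block is a block for every Sylow subgroup. -/
theorem block_all (hG : centralizer (pCore p G : Set G) ≤ pCore p G) {E : Subgroup G}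
    (hE : IsSubBlock p E) (T' : Sylow p G) : IsBaumannBlock p (T' : Subgroup G) E := by
  obtain ⟨⟨T, hT⟩, -⟩ := id hE
  have hN := baumannSubgroup_le_normalizer hG hE
  have hp1 : ∀ S : Sylow p G, IsPGroup p (baumannSubgroupOf p (S : Subgroup G)) := fun S => S.2.to_le inf_le_left
  obtain ⟨P1, hP1, hP1N, hP1p, hP1i⟩ :=
    CfsgLib.Transfer.exists_sylow_of_le (baumann_le_baumannSubgroup T') (hp1 T')
  obtain ⟨n, hn, hconj⟩ := CfsgLib.Transfer.exists_conj_le hP1p hP1i (baumann_le_baumannSubgroup T) (hp1 T)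
  obtain ⟨T3, hT3⟩ := hP1p.exists_le_sylow
  have h3 : baumannSubgroupOf p (T3 : Subgroup G) = baumannSubgroupOf p (T' : Subgroup G) :=
    baumann_eq_of_le ((centralizes_thompson_omega _).trans (hP1.trans hT3)) (hP1.trans hT3)
  have hT0 : ((n⁻¹ • T : Sylow p G) : Subgroup G) = (T : Subgroup G).map (MulAut.conj n⁻¹).toMonoidHom := rfl
  have h4 : baumannSubgroupOf p (T3 : Subgroup G) = baumannSubgroupOf p ((n⁻¹ • T : Sylow p G) : Subgroup G) := by
    have hle : baumannSubgroupOf p ((n⁻¹ • T : Sylow p G) : Subgroup G) ≤ (T3 : Subgroup G) := by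
      rw [hT0, baumann_map_conj]
      rintro _ ⟨s, hs, rfl⟩
      refine hT3 ?_
      show n⁻¹ * s * n⁻¹⁻¹ ∈ P1
      rw [inv_inv]
      exact hconj s hs
    exact baumann_eq_of_le ((centralizes_thompson_omega _).trans hle) hle
  obtain ⟨T2, hT2⟩ : ∃ T2 : Sylow p G, T2 = n • T' := ⟨_, rfl⟩
  have hT2c : (T2 : Subgroup G) = (T' : Subgroup G).map (MulAut.conj n).toMonoidHom := hT2 ▸ rfl
  have hB : baumannSubgroupOf p (T2 : Subgroup G) = baumannSubgroupOf p (T : Subgroup G) := by
    rw [hT2c, baumann_map_conj, ← h3, h4, hT0, baumann_map_conj, map_conj_map_conj, mul_inv_cancel, map_one]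
    exact Subgroup.map_id _
  have h2 : IsBaumannBlock p (T2 : Subgroup G) E := by
    obtain ⟨e1, e2, e3, -, e5⟩ := hT
    refine ⟨e1, hB ▸ e2, e3, ?_, hB ▸ e5⟩
    -- a fixed point not centralised by the block
    obtain ⟨X, hXM, hPX, hXc, hXne, -⟩ := hasFixed_of_subBlock hG hE T2
    obtain ⟨U, -, hUV, hXU, -, hUconj, hUmin, hUind⟩ := orbit_data hG hE hXM hXc (T2 : Subgroup G) hPX
    have hUn : (T2 : Subgroup G) ≤ normalizer (U : Set G) := fun b hb => CfsgLib.LocalEvenB.mem_normalizer_of_forall fun x hx =>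
      (hUmin (U.comap (MulAut.conj b).toMonoidHom) fun a ha => map_le_iff_le_comap.1 (by
        rw [map_conj_map_conj]
        exact hUconj _ (mul_mem hb ha))) hx
    obtain ⟨y, hy, hy1⟩ := (Subgroup.bot_or_exists_ne_one _).resolve_left
      (exists_fixed T2.2 ((CfsgLib.Core.isPGroup_pCore p G).to_le (hUV.trans V_le_R)) hUn
        (fun h => hXne (le_bot_iff.1 (h ▸ hXU))))
    intro hbot
    refine hy1 (hUind y hy.1 hy.2 ?_)
    refine le_centralizer_iff.1 (commutator_eq_bot_iff_le_centralizer.1 hbot) ?_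
    exact CfsgLib.PGroups.mem_omegaOne ⟨CfsgLib.Core.pCore_le_sylow T2 (V_le_R (hUV hy.1)), hy.2⟩
      (omegaOneCenter_pow (hUV hy.1))
  have h5 := isBaumannBlock_conj h2 n⁻¹
  rw [hT2c, map_conj_map_conj, inv_mul_cancel, map_one, map_conj_eq_self_iff_mem_normalizer.2 (inv_mem (hN hn))] at h5
  rw [show ((T' : Subgroup G).map (MulEquiv.toMonoidHom (1 : MulAut G))) = (T' : Subgroup G) from Subgroup.map_id _] at h5
  exact h5

end CfsgLib.LocalEven.SubBlock
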