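import Mathlib.RingTheory.IntegralDomain
import Cfsg.Agent.Lib.LocalEven.SubBlock.AltSection
import Cfsg.Agent.Lib.LocalEven.SubBlock.Section

/-!
# A block normalising a block acts on its module as the block does
-/

set_option autoImplicit false
set_option linter.all false

namespace CfsgLib.LocalEven.SubBlock

open Subgroup Cfsg Matrix
open CfsgLib.LocalEvenB
open CfsgLib.LocalEvenB.SubBlocks
open CfsgLib.LocalEven.BlockCent
open scoped commutatorElement

/-- The alternating form on the plane. -/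
def dt {F : Type} [Field F] (a b : Fin 2 → F) : F := a 0 * b 1 - a 1 * b 0

theorem dt_mulVec {F : Type} [Field F] (M : Matrix (Fin 2) (Fin 2) F) (a b : Fin 2 → F) :
    dt (M *ᵥ a) (M *ᵥ b) = M.det * dt a b := by
  simp [dt, det_fin_two, mulVec, dotProduct, Fin.sum_univ_two]
  ring

/-- Endomorphisms of the multiplicative monoid of a finite field commute. -/
theorem monoidHom_comm {F : Type} [Field F] [Finite F] (σ τ : F →+* F) (x : F) : σ (τ x) = τ (σ x) := by
  rcases eq_or_ne x 0 with rfl | hx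
  · simp
  obtain ⟨i, hi⟩ := MonoidHom.map_cyclic (Units.map σ.toMonoidHom)
  obtain ⟨j, hj⟩ := MonoidHom.map_cyclic (Units.map τ.toMonoidHom)
  have h1 : Units.map σ.toMonoidHom (Units.map τ.toMonoidHom (Units.mk0 x hx)) =
      Units.map τ.toMonoidHom (Units.map σ.toMonoidHom (Units.mk0 x hx)) := by
    rw [hi, hj, hj, hi, ← _root_.zpow_mul, ← _root_.zpow_mul, mul_comm]
  exact congrArg Units.val h1

variable {G : Type*} [Group G] [Finite G] {p : ℕ} [hp : Fact p.Prime] {E F : Subgroup G} (T : Sylow p G)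

/-- `H = E · nKer`. -/
theorem nKer_normalized (E : Subgroup G) : normalizer (E : Set G) ≤ normalizer (nKer p E : Set G) := fun g hg =>
  CfsgLib.LocalEvenB.mem_normalizer_of_forall fun x hx => mem_inf.2
    ⟨mul_mem (mul_mem hg hx.1) (inv_mem hg), conj_mem_secKer (normalizer_le_bW E hg) (normalizer_le_bZ E hg) hx.2⟩

omit hp in
theorem small_index {T : Subgroup G} (hs : IsSmallBlock p F) {x : G} (hx : x ∈ F) :
    (p = 2 ∧ x ^ 3 ∈ pCoreOf p F) ∨ p = 3 := by
  rcases hs with ⟨h2, hc, -, -⟩ | ⟨h3, -⟩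
  · refine Or.inl ⟨h2, ?_⟩
    have h1 : ((⟨x, hx⟩ : ↥F) : ↥F ⧸ pCore p ↥F) ^ 3 = 1 := hc ▸ pow_card_eq_one'
    rw [← QuotientGroup.mk_pow, QuotientGroup.eq_one_iff] at h1
    exact ⟨_, h1, rfl⟩
  · exact Or.inr h3

/-- In a small block for `3` squares are commutators modulo the core. -/
theorem quat_sq {T : Subgroup G} (hF : IsBaumannBlock p T F) (hs : IsSmallBlock p F) (hp3 : p = 3) {x : G}
    (hx : x ∈ F) : x * x ∈ ⁅F, F⁆ ⊔ pCoreOf p F := by
  subst hp3
  obtain ⟨hW, -⟩ := small_three_data (T := T) hs rfl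
  have hker : ∀ y ∈ F, y ∈ secKer (bW 3 F) (bZ 3 F) → y ∈ pCoreOf 3 F := fun y hy h => block_kernel_WZ hF (mem_inf.2 ⟨hy, h⟩)
  obtain ⟨a, ha, b, hb, hab, -⟩ := quat_exists hW
  have hn : ∀ y ∈ F, y ∈ normalizer (bW 3 F : Set G) ∧ y ∈ normalizer (bZ 3 F : Set G) := fun y hy =>
    ⟨normalizer_le_bW F (le_normalizer hy), normalizer_le_bZ F (le_normalizer hy)⟩
  have hc : ⁅a, b⁆ ∈ F := by
    rw [commutatorElement_def]; exact mul_mem (mul_mem (mul_mem ha hb) (inv_mem ha)) (inv_mem hb)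
  rcases quat_trichotomy hW hx with h | h | h
  · exact mem_sup_right (hker _ (mul_mem hx hx) (mul_mem h h))
  · exact mem_sup_right (hker _ (mul_mem hx hx) (h.mul_mem_secKer h (bW_le_normalizer_bZ F) (hn x hx).1 (hn x hx).1
      (hn x hx).2 (hn x hx).2))
  · have h1 := hker _ (mul_mem hc (mul_mem hx hx)) (hab.mul_mem_secKer h (bW_le_normalizer_bZ F) (hn _ hc).1
      (hn _ (mul_mem hx hx)).1 (hn _ hc).2 (hn _ (mul_mem hx hx)).2)
    rw [show x * x = ⁅a, b⁆⁻¹ * (⁅a, b⁆ * (x * x)) by group]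
    exact mul_mem (mem_sup_left (inv_mem (commutator_mem_commutator ha hb))) (mem_sup_right h1)

/-- An element of determinant one and of order prime to the characteristic lies in the derived group. -/
theorem mem_commutator_of_coprime {K : Type} [Field K] [Fintype K] {n k : ℕ} (hcard : Fintype.card K = p ^ n)
    (M : Matrix.SpecialLinearGroup (Fin 2) K) (hk : M ^ k = 1) (hkp : k.Coprime p) :
    M ∈ commutator (Matrix.SpecialLinearGroup (Fin 2) K) := by
  rcases Nat.lt_or_ge (Fintype.card K) 4 with h4 | h4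
  · have h2 : 2 ≤ Fintype.card K := Fintype.one_lt_card
    have hn : n ≠ 0 := fun h => by rw [h, pow_zero] at hcard; omega
    have hpd : p ∣ Fintype.card K := hcard ▸ dvd_pow_self p hn
    rcases (show Fintype.card K = 2 ∨ Fintype.card K = 3 by omega) with hq | hq
    · have hp2 : p = 2 := (Nat.prime_dvd_prime_iff_eq hp.out Nat.prime_two).1 (hq ▸ hpd)
      obtain ⟨e, he⟩ : ∃ e : K ≃+* ZMod 2, True := ⟨(ZMod.ringEquivOfPrime K Nat.prime_two hq).symm, trivial⟩
      obtain ⟨N, hN⟩ : ∃ N, N = Matrix.SpecialLinearGroup.map e.toRingHom M := ⟨_, rfl⟩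
      have hNk : N ^ k = 1 := by rw [hN, ← map_pow, hk, map_one]
      have h6 : ∀ A : Matrix.SpecialLinearGroup (Fin 2) (ZMod 2), A ^ 6 = 1 := by decide +kernel
      have hmem : ∀ A : Matrix.SpecialLinearGroup (Fin 2) (ZMod 2), A ^ 3 = 1 →
          ∃ a b : Matrix.SpecialLinearGroup (Fin 2) (ZMod 2), a * b * a⁻¹ * b⁻¹ = A := by decide +kernel
      have h3 : orderOf N ∣ 3 := Nat.Coprime.dvd_of_dvd_mul_left
        ((hp2 ▸ hkp).coprime_dvd_left (orderOf_dvd_of_pow_eq_one hNk)) (orderOf_dvd_of_pow_eq_one (h6 N))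
      obtain ⟨a, b, hab⟩ := hmem N (orderOf_dvd_iff_pow_eq_one.1 h3)
      have h1 : N ∈ commutator (Matrix.SpecialLinearGroup (Fin 2) (ZMod 2)) := hab ▸ commutator_mem_commutator (mem_top a) (mem_top b)
      rw [← map_commutator_sl2 e] at h1
      obtain ⟨M', hM', hM''⟩ := h1
      have : M' = M := by
        apply Subtype.ext
        ext i j
        refine e.injective ?_
        have := congrArg (fun A : Matrix.SpecialLinearGroup (Fin 2) (ZMod 2) => (A : Matrix (Fin 2) (Fin 2) (ZMod 2)) i j) (hM''.trans hN)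
        simpa using this
      exact this ▸ hM'
    · have hp3 : p = 3 := (Nat.prime_dvd_prime_iff_eq hp.out Nat.prime_three).1 (hq ▸ hpd)
      obtain ⟨e, he⟩ : ∃ e : K ≃+* ZMod 3, True := ⟨(ZMod.ringEquivOfPrime K Nat.prime_three hq).symm, trivial⟩
      obtain ⟨N, hN⟩ : ∃ N, N = Matrix.SpecialLinearGroup.map e.toRingHom M := ⟨_, rfl⟩
      have hNk : N ^ k = 1 := by rw [hN, ← map_pow, hk, map_one]
      have h24 : ∀ A : Matrix.SpecialLinearGroup (Fin 2) (ZMod 3), A ^ 24 = 1 ∧ (A ^ 8 = 1 → A ^ 4 = 1) := by decide +kernel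
      have h8 : orderOf N ∣ 8 := Nat.Coprime.dvd_of_dvd_mul_left
        ((hp3 ▸ hkp).coprime_dvd_left (orderOf_dvd_of_pow_eq_one hNk)) (orderOf_dvd_of_pow_eq_one (h24 N).1)
      have h1 := mem_commutator_sl23.2 ((h24 N).2 (orderOf_dvd_iff_pow_eq_one.1 h8))
      rw [← map_commutator_sl2 e] at h1
      obtain ⟨M', hM', hM''⟩ := h1
      have : M' = M := by
        apply Subtype.ext
        ext i j
        refine e.injective ?_
        have := congrArg (fun A : Matrix.SpecialLinearGroup (Fin 2) (ZMod 3) => (A : Matrix (Fin 2) (Fin 2) (ZMod 3)) i j) (hM''.trans hN)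
        simpa using this
      exact this ▸ hM'
  · rw [(sl2_quasisimple h4).2]
    exact mem_top M

set_option maxHeartbeats 1600000 in
/-- A block normalising `E` acts on the natural module of `E` as elements of `E`. -/
theorem outer_sl2 (hG : centralizer (pCore p G : Set G) ≤ pCore p G)
    (hE : IsBaumannBlock p (T : Subgroup G) E) (hF : IsBaumannBlock p (T : Subgroup G) F)
    (hFE : F ≤ normalizer (E : Set G)) {K : Type} [Field K] [Fintype K] {n : ℕ} (hcard : Fintype.card K = p ^ n)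
    (h : ActsAsSL2OnSection K (commutator (Matrix.SpecialLinearGroup (Fin 2) K)) E (bW p E) (bZ p E)) :
    F ≤ E ⊔ nKer p E := by
  classical
  haveI := charP_of_card hcard
  obtain ⟨hEW, hle, ρ, ψ, hρ, hs, hk, hact⟩ := h
  have hi := fun e => induces_rho hact e
  obtain ⟨NE, hNE⟩ : ∃ NE, NE = normalizer (E : Set G) := ⟨_, rfl⟩
  have hW : ∀ g ∈ NE, g ∈ normalizer (bW p E : Set G) := fun g hg => normalizer_le_bW E (hNE ▸ hg)
  have hZ : ∀ g ∈ NE, g ∈ normalizer (bZ p E : Set G) := fun g hg => normalizer_le_bZ E (hNE ▸ hg)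
  have hBE : baumannSubgroupOf p (T : Subgroup G) ≤ NE := by
    have := Subgroup.normalizer_commutator_ge_right E (baumannSubgroupOf p (T : Subgroup G))
    rw [hE.2.1] at this
    exact hNE ▸ this
  have hFN : F ≤ NE := hNE ▸ hFE
  have hEN : E ≤ NE := hNE ▸ le_normalizer
  obtain ⟨w0, hw0⟩ : ∃ w0 : Fin 2 → K, w0 ≠ 0 := ⟨![1, 0], fun h => one_ne_zero (congrFun h 0)⟩
  -- everything is semilinear
  have hsemi : ∀ g, g ∈ NE → ∃ (L : (Fin 2 → K) →+ (Fin 2 → K)) (μ : K →+* K),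
      Induces ψ g L ∧ Function.Surjective L ∧ ∀ l v, L (l • v) = μ l • L v := by
    intro g hg
    obtain ⟨L, hL⟩ := exists_induces hs hk (hW g hg) (hZ g hg)
    obtain ⟨L', hL'⟩ := exists_induces hs hk (inv_mem (hW g hg)) (inv_mem (hZ g hg))
    have hLL' : ∀ v, L (L' v) = v := induces_unique hs hk (g := g * g⁻¹) (by rw [mul_inv_cancel]; exact one_mem _)
      (induces_mul hs hk (inv_mem (hW g hg)) hL hL') (by rw [mul_inv_cancel]; exact induces_one hs hk)
    have hsurj : Function.Surjective L := fun v => ⟨L' v, hLL' v⟩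
    rcases Nat.lt_or_ge (Fintype.card K) 4 with h4 | h4
    · refine ⟨L, RingHom.id K, hL, hsurj, fun l v => ?_⟩
      haveI : NeZero p := ⟨hp.out.ne_zero⟩
      obtain ⟨i, rfl⟩ : ∃ i : ℕ, (i : K) = l := by
        have hq : Fintype.card K = p := by
          have h2 : 2 ≤ Fintype.card K := Fintype.one_lt_card
          have hn : n ≠ 0 := fun h => by rw [h, pow_zero] at hcard; omega
          have hpd : p ∣ Fintype.card K := hcard ▸ dvd_pow_self p hn
          rcases (show Fintype.card K = 2 ∨ Fintype.card K = 3 by omega) with hq | hq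
          · exact hq.trans ((Nat.prime_dvd_prime_iff_eq hp.out Nat.prime_two).1 (hq ▸ hpd)).symm
          · exact hq.trans ((Nat.prime_dvd_prime_iff_eq hp.out Nat.prime_three).1 (hq ▸ hpd)).symm
        refine ⟨((ZMod.ringEquivOfPrime K hp.out hq).symm l).val, ?_⟩
        rw [← map_natCast (ZMod.ringEquivOfPrime K hp.out hq), ZMod.natCast_rightInverse, RingEquiv.apply_symm_apply]
      rw [RingHom.id_apply, Nat.cast_smul_eq_nsmul, Nat.cast_smul_eq_nsmul, map_nsmul]
    · choose μ hμ using semilinear hs hk (MonoidHom.range_eq_top.1 (hρ.trans (sl2_quasisimple h4).2)) hi hEW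
        (hNE ▸ hg) (hW g hg) (hZ g hg) hL
      obtain ⟨u, hu⟩ := hsurj w0
      have hu0 : L u ≠ 0 := hu ▸ hw0
      have hinj := smul_left_injective K hu0
      refine ⟨L, { toFun := μ, map_one' := hinj ?_, map_mul' := fun a b => hinj ?_, map_zero' := hinj ?_, map_add' := fun a b => hinj ?_ },
        hL, hsurj, hμ⟩
      · show μ 1 • L u = (1 : K) • L u
        rw [← hμ, one_smul, one_smul]
      · show μ (a * b) • L u = (μ a * μ b) • L u
        rw [← hμ, ← smul_smul, hμ, hμ, smul_smul]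
      · show μ 0 • L u = (0 : K) • L u
        rw [← hμ, zero_smul, zero_smul, map_zero]
      · show μ (a + b) • L u = (μ a + μ b) • L u
        rw [← hμ, add_smul, map_add, hμ, hμ, add_smul]
  choose! Lg μg hLg hLsurj hμg using hsemi
  -- the linear ones
  let Lin : Subgroup G :=
    { carrier := {g | g ∈ NE ∧ ∀ (l : K) v, Lg g (l • v) = l • Lg g v}
      one_mem' := ⟨one_mem _, fun l v => by
        rw [induces_unique hs hk (one_mem _) (hLg 1 (one_mem _)) (induces_one hs hk),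
          induces_unique hs hk (one_mem _) (hLg 1 (one_mem _)) (induces_one hs hk) v]; rfl⟩
      mul_mem' := fun {a b} ha hb => ⟨mul_mem ha.1 hb.1, fun l v => by
        have e := induces_unique hs hk (mul_mem (hW a ha.1) (hW b hb.1)) (hLg (a * b) (mul_mem ha.1 hb.1))
          (induces_mul hs hk (hW b hb.1) (hLg a ha.1) (hLg b hb.1))
        rw [e, e v, hb.2, ha.2]⟩
      inv_mem' := fun {a} ha => ⟨inv_mem ha.1, fun l v => by
        have e := induces_unique hs hk (g := a⁻¹ * a) (mul_mem (hW _ (inv_mem ha.1)) (hW a ha.1))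
          (induces_mul hs hk (hW a ha.1) (hLg a⁻¹ (inv_mem ha.1)) (hLg a ha.1)) (by rw [inv_mul_cancel]; exact induces_one hs hk)
        obtain ⟨u, rfl⟩ := hLsurj a ha.1 v
        rw [← ha.2, e, e]; rfl⟩ }
  have hLinN : Lin ≤ NE := fun g hg => hg.1
  have hcomm : ∀ a ∈ NE, ∀ b ∈ NE, ⁅a, b⁆ ∈ Lin := by
    intro a ha b hb
    obtain ⟨c, hc⟩ : ∃ c, c = ⁅a, b⁆ := ⟨_, rfl⟩
    rw [← hc]
    have hcN : c ∈ NE := hc ▸ commutatorElement_def a b ▸ mul_mem (mul_mem (mul_mem ha hb) (inv_mem ha)) (inv_mem hb)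
    have e : ∀ v, Lg c (Lg b (Lg a v)) = Lg a (Lg b v) :=
      induces_unique hs hk (g := c * (b * a)) (mul_mem (hW c hcN) (mul_mem (hW b hb) (hW a ha)))
        (induces_mul hs hk (mul_mem (hW b hb) (hW a ha)) (hLg c hcN) (induces_mul hs hk (hW a ha) (hLg b hb) (hLg a ha)))
        (by
          rw [show c * (b * a) = a * b by rw [hc, commutatorElement_def]; group]
          exact induces_mul hs hk (hW b hb) (hLg a ha) (hLg b hb))
    refine ⟨hcN, fun l w => ?_⟩
    obtain ⟨v', hv'⟩ := hLsurj b hb w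
    obtain ⟨v, hv⟩ := hLsurj a ha v'
    subst hv'; subst hv
    obtain ⟨l', hl'⟩ : ∃ l', μg b l' = l := Finite.injective_iff_surjective.1 (μg b).injective l
    obtain ⟨l0, hl0⟩ : ∃ l0, μg a l0 = l' := Finite.injective_iff_surjective.1 (μg a).injective l'
    rw [← hl', ← hμg b hb, ← hl0, ← hμg a ha, e, e, hμg b hb, hμg a ha, monoidHom_comm]
  have hFLin : F ≤ Lin := by
    rw [← hF.2.1]
    exact commutator_le.2 fun f hf b hb => hcomm f (hFN hf) b (hBE hb)
  -- their matrices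
  have hmat : ∀ g, g ∈ Lin → ∃ M : Matrix (Fin 2) (Fin 2) K, ∀ v, Lg g v = M *ᵥ v := fun g hg =>
    ⟨LinearMap.toMatrix' ({ toFun := Lg g, map_add' := map_add (Lg g), map_smul' := hg.2 } : (Fin 2 → K) →ₗ[K] (Fin 2 → K)),
      fun v => by rw [LinearMap.toMatrix'_mulVec]; rfl⟩
  choose! Mg hMg using hmat
  have hMuniq : ∀ g, g ∈ Lin → ∀ N : Matrix (Fin 2) (Fin 2) K, Induces ψ g (N *ᵥ ·) → Mg g = N := fun g hg N hN =>
    Matrix.ext_iff_mulVec.2 fun v => by rw [← hMg g hg]; exact induces_unique hs hk (hW g hg.1) (hLg g hg.1) hN v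
  have hMind : ∀ g, g ∈ Lin → Induces ψ g (Mg g *ᵥ ·) := fun g hg u w hw => by
    show _ = Mg g *ᵥ _
    rw [← hMg g hg]
    exact hLg g hg.1 u w hw
  have hMmul : ∀ a b, a ∈ Lin → b ∈ Lin → Mg (a * b) = Mg a * Mg b := fun a b ha hb =>
    hMuniq _ (mul_mem ha hb) _ fun u w hw => by
      rw [induces_mul hs hk (hW b hb.1) (hMind a ha) (hMind b hb) u w hw]
      simp only [mulVec_mulVec]
  have hM1 : Mg 1 = 1 := hMuniq 1 (one_mem _) _ fun u w hw => by
    rw [induces_one hs hk u w hw]; exact (one_mulVec _).symm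
  have hMdet : ∀ g, g ∈ Lin → (Mg g).det ≠ 0 := fun g hg h0 => by
    have h1 := congrArg Matrix.det (hMmul g g⁻¹ hg (inv_mem hg))
    rw [mul_inv_cancel, hM1, det_one, det_mul, h0, zero_mul] at h1
    exact one_ne_zero h1
  let δ : ↥F →* K :=
    { toFun := fun f => (Mg f).det
      map_one' := by show (Mg 1).det = 1; rw [hM1, det_one]
      map_mul' := fun a b => by show (Mg ((a : G) * b)).det = _; rw [hMmul _ _ (hFLin a.2) (hFLin b.2), det_mul] }
  have hδ0 : ∀ f : ↥F, δ f ≠ 0 := fun f => hMdet f (hFLin f.2)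
  have hδp : ∀ f : ↥F, ∀ k : ℕ, (f : G) ^ p ^ k = 1 → δ f = 1 := by
    intro f k hk'
    have h1 : δ f ^ p ^ k = 1 := by
      rw [← map_pow, show f ^ p ^ k = 1 from Subtype.ext hk', map_one]
    have h2 : (δ f - 1) ^ p ^ k = 0 := by rw [sub_pow_char_pow, h1, one_pow, sub_self]
    exact sub_eq_zero.1 ((pow_eq_zero_iff (pow_ne_zero k hp.out.ne_zero)).1 h2)
  have hδQ : ∀ f : ↥F, (f : G) ∈ pCoreOf p F → δ f = 1 := fun f hf => by
    obtain ⟨k, hk'⟩ := isPGroup_pCoreOf F ⟨_, hf⟩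
    exact hδp f k (congrArg Subtype.val hk')
  have hδcomm : ∀ f : ↥F, (f : G) ∈ ⁅F, F⁆ → δ f = 1 := by
    let S : Subgroup G :=
      { carrier := {g | ∃ h : g ∈ F, δ ⟨g, h⟩ = 1}
        one_mem' := ⟨one_mem _, map_one δ⟩
        mul_mem' := by
          rintro a b ⟨ha, ea⟩ ⟨hb, eb⟩
          exact ⟨mul_mem ha hb, by rw [show (⟨a * b, mul_mem ha hb⟩ : ↥F) = ⟨a, ha⟩ * ⟨b, hb⟩ from rfl, map_mul, ea, eb, mul_one]⟩
        inv_mem' := by
          rintro a ⟨ha, ea⟩
          refine ⟨inv_mem ha, ?_⟩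
          have := map_mul δ ⟨a, ha⟩ ⟨a⁻¹, inv_mem ha⟩
          rw [ea, one_mul, show (⟨a, ha⟩ : ↥F) * ⟨a⁻¹, inv_mem ha⟩ = 1 from Subtype.ext (mul_inv_cancel a), map_one] at this
          exact this.symm }
    have hle : ⁅F, F⁆ ≤ S := commutator_le.2 fun a ha b hb => by
      refine ⟨commutatorElement_def a b ▸ mul_mem (mul_mem (mul_mem ha hb) (inv_mem ha)) (inv_mem hb), ?_⟩
      rw [show (⟨⁅a, b⁆, _⟩ : ↥F) = ⟨a, ha⟩ * ⟨b, hb⟩ * (⟨a, ha⟩ : ↥F)⁻¹ * (⟨b, hb⟩ : ↥F)⁻¹ from Subtype.ext (commutatorElement_def a b),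
        map_mul, map_mul, map_mul]
      have e1 : δ (⟨a, ha⟩ : ↥F)⁻¹ * δ ⟨a, ha⟩ = 1 := by rw [← map_mul, inv_mul_cancel, map_one]
      have e2 : δ ⟨b, hb⟩ * δ (⟨b, hb⟩ : ↥F)⁻¹ = 1 := by rw [← map_mul, mul_inv_cancel, map_one]
      linear_combination δ ⟨b, hb⟩ * δ (⟨b, hb⟩ : ↥F)⁻¹ * e1 + e2
    exact fun f hf => (hle hf).2
  -- it suffices that the determinants are one
  suffices hδ : ∀ f : ↥F, δ f = 1 by
    refine block_le_of_coprime hF fun x hx hxc => ?_
    have hpow : ∀ j : ℕ, Mg (x ^ j) = Mg x ^ j := by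
      intro j
      induction j with
      | zero => rw [pow_zero, hM1, pow_zero]
      | succ j ih => rw [pow_succ, pow_succ, hMmul _ _ (pow_mem (hFLin hx) j) (hFLin hx), ih]
    obtain ⟨M, hM⟩ : ∃ M : Matrix.SpecialLinearGroup (Fin 2) K, (M : Matrix (Fin 2) (Fin 2) K) = Mg x :=
      ⟨⟨Mg x, hδ ⟨x, hx⟩⟩, rfl⟩
    have hMk : M ^ orderOf x = 1 := Subtype.ext (by
      rw [Matrix.SpecialLinearGroup.coe_pow, hM, ← hpow, pow_orderOf_eq_one, hM1, Matrix.SpecialLinearGroup.coe_one])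
    obtain ⟨e, he⟩ : M ∈ ρ.range := hρ ▸ mem_commutator_of_coprime hcard M hMk hxc
    have heW : (e : G)⁻¹ ∈ normalizer (bW p E : Set G) := inv_mem (hEW e.2)
    have hk' : (e : G)⁻¹ * x ∈ nKer p E := by
      have hg : (e : G)⁻¹ * x ∈ NE := mul_mem (inv_mem (hEN e.2)) (hFN hx)
      refine mem_inf.2 ⟨hNE ▸ hg, (induces_id_iff hs hk (hW _ hg) (hZ _ hg)).1 fun u w hw => ?_⟩
      have h1 := induces_mul hs hk (hW x (hFN hx)) (hi e⁻¹) (hMind x (hFLin hx)) u w (by rw [hw, Subgroup.coe_inv])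
      rw [h1]
      simp only [← hM, ← he, mulVec_mulVec, ← Matrix.SpecialLinearGroup.coe_mul, ← map_mul, inv_mul_cancel, map_one,
        Matrix.SpecialLinearGroup.coe_one, one_mulVec]
      rfl
    rw [show x = (e : G) * ((e : G)⁻¹ * x) by group]
    exact mul_mem (mem_sup_left e.2) (mem_sup_right hk')
  rcases block_types hF with hq | hsmall
  · intro f
    exact hδcomm f (by rw [block_perfect_of_qs hF hq]; exact f.2)
  have hsq2 : p = 3 → ∀ f : ↥F, δ f = 1 := by
    intro hp3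
    have hsgn : ∀ f : ↥F, δ f = 1 ∨ δ f = -1 := by
      intro f
      let S : Subgroup G :=
        { carrier := {g | ∃ h : g ∈ F, δ ⟨g, h⟩ = 1}
          one_mem' := ⟨one_mem _, map_one δ⟩
          mul_mem' := by
            rintro a b ⟨ha, ea⟩ ⟨hb, eb⟩
            exact ⟨mul_mem ha hb, by rw [show (⟨a * b, mul_mem ha hb⟩ : ↥F) = ⟨a, ha⟩ * ⟨b, hb⟩ from rfl, map_mul, ea, eb, mul_one]⟩
          inv_mem' := by
            rintro a ⟨ha, ea⟩
            refine ⟨inv_mem ha, ?_⟩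
            have := map_mul δ ⟨a, ha⟩ ⟨a⁻¹, inv_mem ha⟩
            rw [ea, one_mul, show (⟨a, ha⟩ : ↥F) * ⟨a⁻¹, inv_mem ha⟩ = 1 from Subtype.ext (mul_inv_cancel a), map_one] at this
            exact this.symm }
      have hle : ⁅F, F⁆ ⊔ pCoreOf p F ≤ S := by
        refine sup_le (fun g hg => ?_) fun g hg => ⟨pCoreOf_le F hg, hδQ _ hg⟩
        have hgF : g ∈ F := (commutator_le.2 fun a ha b hb =>
          commutatorElement_def a b ▸ mul_mem (mul_mem (mul_mem ha hb) (inv_mem ha)) (inv_mem hb) : ⁅F, F⁆ ≤ F) hg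
        exact ⟨hgF, hδcomm ⟨g, hgF⟩ hg⟩
      have h1 : δ (f * f) = 1 := (hle (quat_sq hF hsmall hp3 f.2)).2
      rw [map_mul] at h1
      exact mul_self_eq_one_iff.1 h1
    have hBF : baumannSubgroupOf p (T : Subgroup G) ≤ normalizer (F : Set G) := by
      have := Subgroup.normalizer_commutator_ge_right F (baumannSubgroupOf p (T : Subgroup G))
      rwa [hF.2.1] at this
    let S : Subgroup G :=
      { carrier := {g | ∃ h : g ∈ F, δ ⟨g, h⟩ = 1}
        one_mem' := ⟨one_mem _, map_one δ⟩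
        mul_mem' := by
          rintro a b ⟨ha, ea⟩ ⟨hb, eb⟩
          exact ⟨mul_mem ha hb, by rw [show (⟨a * b, mul_mem ha hb⟩ : ↥F) = ⟨a, ha⟩ * ⟨b, hb⟩ from rfl, map_mul, ea, eb, mul_one]⟩
        inv_mem' := by
          rintro a ⟨ha, ea⟩
          refine ⟨inv_mem ha, ?_⟩
          have := map_mul δ ⟨a, ha⟩ ⟨a⁻¹, inv_mem ha⟩
          rw [ea, one_mul, show (⟨a, ha⟩ : ↥F) * ⟨a⁻¹, inv_mem ha⟩ = 1 from Subtype.ext (mul_inv_cancel a), map_one] at this
          exact this.symm }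
    have hle : ⁅F, baumannSubgroupOf p (T : Subgroup G)⁆ ≤ S := by
      refine commutator_le.2 fun x hx b hb => ?_
      have hx' : b * x⁻¹ * b⁻¹ ∈ F := (mem_normalizer_iff.1 (hBF hb) _).1 (inv_mem hx)
      have hc : ⁅x, b⁆ ∈ F := by rw [commutatorElement_def, show x * b * x⁻¹ * b⁻¹ = x * (b * x⁻¹ * b⁻¹) by group]; exact mul_mem hx hx'
      refine ⟨hc, ?_⟩
      rw [show (⟨⁅x, b⁆, hc⟩ : ↥F) = ⟨x, hx⟩ * ⟨_, hx'⟩ from Subtype.ext (by
        show ⁅x, b⁆ = x * (b * x⁻¹ * b⁻¹); rw [commutatorElement_def]; group), map_mul]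
      -- conjugation applies the field automorphism to the determinant
      obtain ⟨y, hy⟩ : ∃ y, y = x⁻¹ := ⟨_, rfl⟩
      have hyL : y ∈ Lin := hy ▸ inv_mem (hFLin hx)
      have hxy : δ ⟨x, hx⟩ * (Mg y).det = 1 := by
        show (Mg x).det * _ = 1
        rw [← det_mul, ← hMmul _ _ (hFLin hx) hyL, hy, mul_inv_cancel, hM1, det_one]
      have hbN := hBE hb
      have heq : ∀ v, Mg (b * x⁻¹ * b⁻¹) *ᵥ Lg b v = Lg b (Mg y *ᵥ v) := induces_unique hs hk (g := b * y)
        (mul_mem (hW b hbN) (hW y hyL.1))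
        (by
          rw [show b * y = (b * x⁻¹ * b⁻¹) * b by rw [hy]; group]
          exact induces_mul hs hk (hW b hbN) (hMind _ (hFLin hx')) (hLg b hbN))
        (induces_mul hs hk (hW y hyL.1) (hLg b hbN) (hMind y hyL))
      have hdt : ∀ v w, dt (Lg b v) (Lg b w) = μg b (dt v w) * dt (Lg b ![1, 0]) (Lg b ![0, 1]) := by
        intro v w
        have ev : ∀ v : Fin 2 → K, v = v 0 • ![1, 0] + v 1 • ![0, 1] := fun v => by ext i; fin_cases i <;> simp
        conv_lhs => rw [ev v, ev w]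
        simp only [map_add, hμg b hbN]
        simp only [dt, Pi.add_apply, Pi.smul_apply, smul_eq_mul, map_sub, map_mul]
        ring
      have hc0 : dt (Lg b ![1, 0]) (Lg b ![0, 1]) ≠ 0 := by
        intro h0
        obtain ⟨v, hv⟩ := hLsurj b hbN ![1, 0]
        obtain ⟨w, hw⟩ := hLsurj b hbN ![0, 1]
        have := hdt v w
        rw [hv, hw, h0, mul_zero] at this
        simp [dt] at this
      have hdet : (Mg (b * x⁻¹ * b⁻¹)).det = μg b (Mg y).det := by
        refine mul_right_cancel₀ hc0 ?_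
        rw [← dt_mulVec, heq, heq, hdt]
        congr 2
        rw [dt_mulVec]
        simp [dt]
      show δ ⟨x, hx⟩ * (Mg (b * x⁻¹ * b⁻¹)).det = 1
      rw [hdet]
      rcases hsgn ⟨x, hx⟩ with e | e <;> rw [e] at hxy ⊢
      · rw [one_mul] at hxy
        rw [hxy, map_one, one_mul]
      · rw [neg_one_mul, neg_eq_iff_eq_neg] at hxy
        rw [hxy, map_neg, map_one, neg_mul_neg, one_mul]
    rw [hF.2.1] at hle
    exact fun f => (hle f.2).2
  rcases hsmall with ⟨hp2, hc3, hWF, hlF⟩ | ⟨hp3, -⟩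
  swap
  · exact hsq2 hp3
  -- a block with quotient of order three
  subst hp2
  intro f
  by_contra hω
  have h2K : (2 : K) = 0 := CharTwo.two_eq_zero
  have hFc3 : ∀ g : ↥F, (g : G) ^ 3 ∈ pCoreOf 2 F := fun g => by
    have h1 : ((g : ↥F) : ↥F ⧸ pCore 2 ↥F) ^ 3 = 1 := hc3 ▸ pow_card_eq_one'
    rw [← QuotientGroup.mk_pow, QuotientGroup.eq_one_iff] at h1
    exact ⟨_, h1, rfl⟩
  have hbMF : bM 2 F = bW 2 F := linear_bM hF hlF
  have hFZ : bZ 2 F = ⊥ := by
    rw [eq_bot_iff, ← disjoint_of_coprime hF (by rw [hc3]; norm_num)]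
    exact le_inf (inf_le_left.trans hbMF.ge) inf_le_right
  have hQF4 : Nat.card (pCoreOf 2 F) = 4 := by rw [hlF, hWF, hFZ, Subgroup.card_bot]
  haveI : (pCore 2 G).Normal := CfsgLib.Core.normal_pCore 2 G
  have hWEV := bM_le_V hG T hE
  have hWFV := bM_le_V hG T hF
  -- `F` moves the module only inside its core
  have hin : ∀ w ∈ bM 2 E, ∀ g ∈ F, g * w * g⁻¹ * w⁻¹ ∈ pCoreOf 2 F := by
    intro w hw g hg
    have hRF : pCore 2 G ≤ normalizer (F : Set G) := block_normalized T hF (CfsgLib.Core.isPGroup_pCore 2 G)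
      (by rw [normalizer_eq_top]; exact le_top) (by rw [normalizer_eq_top]; exact le_top)
    have hwR := V_le_R (hWEV hw)
    refine le_pCoreOf (A := pCore 2 G ⊓ F) inf_le_right ((CfsgLib.Core.isPGroup_pCore 2 G).to_le inf_le_left)
      ((le_inf (by rw [normalizer_eq_top]; exact le_top) le_normalizer).trans inf_normalizer_le_normalizer_inf) (mem_inf.2 ⟨?_, ?_⟩)
    · exact mul_mem ((inferInstance : (pCore 2 G).Normal).conj_mem w hwR g) (inv_mem hwR)
    · rw [show g * w * g⁻¹ * w⁻¹ = g * (w * g⁻¹ * w⁻¹) by group]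
      exact mul_mem hg ((mem_normalizer_iff.1 (hRF hwR) _).1 (inv_mem hg))
  obtain ⟨M, hM⟩ : ∃ M, M = Mg (f : G) := ⟨_, rfl⟩
  have hω' : M.det ≠ 1 := hM ▸ hω
  obtain ⟨N, hN⟩ : ∃ N, N = M - 1 := ⟨_, rfl⟩
  have hlift : ∀ v : Fin 2 → K, ∃ w, ∃ hw : w ∈ bM 2 E, Multiplicative.toAdd (ψ ⟨w, bM_le_bW hw⟩) = v := by
    intro v
    obtain ⟨⟨u, hu⟩, huv⟩ := hs (Multiplicative.ofAdd v)
    obtain ⟨m, hm, z, hz, hmz⟩ := (CfsgLib.Core.mem_sup_iff_mul (bM_le_bW.trans (bW_le_normalizer_bZ E))).1 ((W_eq_sup hE).le hu)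
    refine ⟨m, hm, ?_⟩
    have e : (⟨u, hu⟩ : ↥(bW 2 E)) = ⟨m, bM_le_bW hm⟩ * ⟨z, hz.1⟩ := Subtype.ext hmz
    rw [e, map_mul, (hk ⟨z, hz.1⟩).2 hz, mul_one] at huv
    rw [huv, toAdd_ofAdd]
  let Rng : Set (Fin 2 → K) := {v | ∃ q, ∃ hq : q ∈ pCoreOf 2 F, ∃ hq' : q ∈ bW 2 E, Multiplicative.toAdd (ψ ⟨q, hq'⟩) = v}
  have hRng4 : Rng.ncard ≤ 4 := by
    rw [← hQF4, ← Set.ncard_univ (↥(pCoreOf 2 F))]
    refine le_trans ?_ (Set.ncard_image_le (f := fun q : ↥(pCoreOf 2 F) =>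
      if h : (q : G) ∈ bW 2 E then Multiplicative.toAdd (ψ ⟨q, h⟩) else 0))
    refine Set.ncard_le_ncard ?_ (Set.toFinite _)
    rintro v ⟨q, hq, hq', rfl⟩
    exact ⟨⟨q, hq⟩, trivial, dif_pos hq'⟩
  have hNRng : ∀ v, N *ᵥ v ∈ Rng := by
    intro v
    obtain ⟨w, hw, rfl⟩ := hlift v
    have hgw : (f : G) * w * (f : G)⁻¹ ∈ bW 2 E := (mem_normalizer_iff.1 (hW f (hFN f.2)) w).1 (bM_le_bW hw)
    refine ⟨_, hin w hw f f.2, mul_mem hgw (inv_mem (bM_le_bW hw)), ?_⟩
    rw [show (⟨(f : G) * w * (f : G)⁻¹ * w⁻¹, mul_mem hgw (inv_mem (bM_le_bW hw))⟩ : ↥(bW 2 E)) = ⟨_, hgw⟩ * (⟨w, bM_le_bW hw⟩ : ↥(bW 2 E))⁻¹ from rfl,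
      map_mul, map_inv, toAdd_mul, toAdd_inv, hMind f (hFLin f.2) ⟨w, bM_le_bW hw⟩ ⟨_, hgw⟩ rfl, hN, hM, sub_mulVec, one_mulVec, ← sub_eq_add_neg]
  obtain ⟨v0, hv0⟩ : ∃ v0, N *ᵥ v0 ≠ 0 := by
    by_contra h
    push Not at h
    refine hω' ?_
    have : M = 1 := sub_eq_zero.1 (Matrix.ext_iff_mulVec.2 fun v => by rw [← hN, h, zero_mulVec])
    rw [this, det_one]
  obtain ⟨r, hr⟩ : ∃ r, r = N *ᵥ v0 := ⟨_, rfl⟩
  have hr0 : r ≠ 0 := hr ▸ hv0
  have hcardK : Fintype.card K = 4 ∧ Rng = Set.range (fun l : K => l • r) := by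
    have hsub : Set.range (fun l : K => l • r) ⊆ Rng := by
      rintro _ ⟨l, rfl⟩
      show l • r ∈ Rng
      rw [hr, ← mulVec_smul]
      exact hNRng _
    have hc : (Set.range fun l : K => l • r).ncard = Fintype.card K := by
      rw [Set.ncard_range_of_injective (smul_left_injective K hr0), Nat.card_eq_fintype_card]
    have h1 := Set.ncard_le_ncard hsub (Set.toFinite _)
    have hK : Fintype.card K = 2 ∨ 4 ≤ Fintype.card K := by
      rcases n with _ | _ | n
      · exact absurd hcard (Fintype.one_lt_card (α := K)).ne'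
      · exact Or.inl (hcard.trans (pow_one 2))
      · right
        rw [hcard, pow_succ, pow_succ]
        have := Nat.one_le_pow n 2 two_pos
        omega
    rcases hK with hK | hK
    · exfalso
      obtain ⟨x, y, hxy, hxyu⟩ := Nat.card_eq_two_iff.1 (Nat.card_eq_fintype_card (α := K) ▸ hK)
      have hall : ∀ l : K, l = 0 ∨ l = 1 := fun l => by
        have hx : ∀ a : K, a = x ∨ a = y := fun a => by
          have : a ∈ ({x, y} : Set K) := hxyu ▸ Set.mem_univ a
          simpa using this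
        rcases hx l with a | a <;> rcases hx 0 with b | b <;> rcases hx 1 with c | c <;>
          first
            | exact Or.inl (a.trans b.symm)
            | exact Or.inr (a.trans c.symm)
            | exact absurd (b.trans c.symm) zero_ne_one
      exact hω (((hall (δ f)).resolve_left (hδ0 f)))
    · refine ⟨by omega, (Set.eq_of_subset_of_ncard_le hsub (by omega) (Set.toFinite _)).symm⟩
  obtain ⟨hK4, hRngeq⟩ := hcardK
  -- the two lines
  obtain ⟨fv, hfv0, hfv⟩ : ∃ fv, fv ≠ 0 ∧ N *ᵥ fv = 0 := by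
    refine Matrix.exists_mulVec_eq_zero_iff.2 ?_
    by_contra hdet
    have hsurj : ∀ v, ∃ u, N *ᵥ u = v := fun v => ⟨N⁻¹ *ᵥ v, by rw [mulVec_mulVec, Matrix.mul_nonsing_inv _ (Ne.isUnit hdet), one_mulVec]⟩
    have h1 : (Set.univ : Set (Fin 2 → K)).ncard ≤ Rng.ncard := Set.ncard_le_ncard (fun v _ => by
      obtain ⟨u, rfl⟩ := hsurj v; exact hNRng u) (Set.toFinite _)
    rw [Set.ncard_univ, Nat.card_fun, Nat.card_eq_fintype_card (α := K), hK4, Nat.card_fin] at h1
    omega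
  have hNr : ∀ v, ∃ l : K, N *ᵥ v = l • r := fun v => by
    have := hNRng v
    rw [hRngeq] at this
    obtain ⟨l, hl⟩ := this
    exact ⟨l, hl.symm⟩
  have hindep : dt r fv ≠ 0 := by
    intro h0
    -- otherwise `N` is nilpotent and `M` has determinant one
    have hr' : ∃ k : K, r = k • fv := by
      simp only [dt] at h0
      by_cases e : fv 0 = 0
      · have e1 : fv 1 ≠ 0 := fun e1 => hfv0 (by ext i; fin_cases i <;> assumption)
        rw [e, mul_zero, sub_zero] at h0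
        refine ⟨r 1 / fv 1, ?_⟩
        ext i; fin_cases i
        · simp [e, (mul_eq_zero.1 h0).resolve_right e1]
        · simp [e1]
      · refine ⟨r 0 / fv 0, ?_⟩
        ext i; fin_cases i
        · simp [e]
        · simp only [Fin.mk_one, Pi.smul_apply, smul_eq_mul]
          field_simp
          linear_combination -1 * h0
    obtain ⟨k, hk'⟩ := hr'
    have hNN : N * N = 0 := Matrix.ext_iff_mulVec.2 fun v => by
      obtain ⟨l, hl⟩ := hNr v
      rw [← mulVec_mulVec, hl, hk', zero_mulVec, mulVec_smul, mulVec_smul, hfv, smul_zero, smul_zero]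
    refine hω' ?_
    rw [show M = 1 + N by rw [hN, add_sub_cancel]]
    obtain ⟨a, b, c, d, hN1⟩ : ∃ a b c d : K, N = !![a, b; c, d] := ⟨_, _, _, _, Matrix.eta_fin_two _⟩
    rw [hN1] at hNN ⊢
    have e00 := congrFun (congrFun hNN 0) 0
    have e01 := congrFun (congrFun hNN 0) 1
    have e11 := congrFun (congrFun hNN 1) 1
    simp [Matrix.mul_apply, Fin.sum_univ_two] at e00 e01 e11
    simp [det_fin_two]
    have hτ : a + d = 0 := by
      by_contra hτ
      have hb0 : b = 0 := (mul_eq_zero.1 (show b * (a + d) = 0 by linear_combination e01)).resolve_right hτ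
      subst hb0
      have ha : a = 0 := mul_self_eq_zero.1 (by linear_combination e00)
      have hd : d = 0 := mul_self_eq_zero.1 (by linear_combination e11)
      exact hτ (by rw [ha, hd, add_zero])
    linear_combination hτ + a * hτ - e00
  have hBF : baumannSubgroupOf 2 (T : Subgroup G) ≤ normalizer (F : Set G) := by
    have := Subgroup.normalizer_commutator_ge_right F (baumannSubgroupOf 2 (T : Subgroup G))
    rwa [hF.2.1] at this
  obtain ⟨wf, hwf, hwfv⟩ := hlift fv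
  have hgen : ∀ g : ↥F, ∃ j : ℕ, ((f : G) ^ j)⁻¹ * g ∈ pCoreOf 2 F := by
    intro g
    have hfQ : (f : G) ∉ pCoreOf 2 F := fun h => hω (hδQ f h)
    haveI : Fact (Nat.Prime 3) := ⟨Nat.prime_three⟩
    have hne : ((f : ↥F) : ↥F ⧸ pCore 2 ↥F) ≠ 1 := fun h => hfQ ⟨_, (QuotientGroup.eq_one_iff _).1 h, rfl⟩
    obtain ⟨j, hj⟩ := mem_powers_iff_mem_zpowers.2 (mem_zpowers_of_prime_card (g' := ((g : ↥F) : ↥F ⧸ pCore 2 ↥F)) hc3 hne)
    simp only at hj
    rw [← QuotientGroup.mk_pow, QuotientGroup.eq] at hj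
    exact ⟨j, ⟨_, hj, rfl⟩⟩
  have hQtriv : ∀ q ∈ pCoreOf 2 F, ∀ (hq : q ∈ Lin) v, Mg q *ᵥ v = v := by
    intro q hq hqL v
    obtain ⟨w, hw, rfl⟩ := hlift v
    have hqV : q ∈ omegaOneCenter 2 (pCore 2 G) := hWFV (by rw [hbMF, ← hlF]; exact hq)
    have e : q * w * q⁻¹ = w := by rw [omegaOneCenter_comm hqV (hWEV hw), mul_inv_cancel_right]
    exact (hMind q hqL ⟨w, bM_le_bW hw⟩ ⟨w, bM_le_bW hw⟩ e.symm).symm
  have hfix : ∀ g : ↥F, Mg (g : G) *ᵥ fv = fv := by
    intro g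
    obtain ⟨j, hj⟩ := hgen g
    have hpow : ∀ j : ℕ, Mg ((f : G) ^ j) *ᵥ fv = fv := by
      intro j
      induction j with
      | zero => rw [pow_zero, hM1, one_mulVec]
      | succ j ih =>
        rw [pow_succ, hMmul _ _ (pow_mem (hFLin f.2) j) (hFLin f.2), ← mulVec_mulVec, ← hM,
          show M *ᵥ fv = fv by rw [show M = 1 + N by rw [hN, add_sub_cancel], add_mulVec, one_mulVec, hfv, add_zero], ih]
    rw [show (g : G) = (f : G) ^ j * (((f : G) ^ j)⁻¹ * g) by group, hMmul _ _ (pow_mem (hFLin f.2) j) (hFLin (pCoreOf_le F hj)),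
      ← mulVec_mulVec, hQtriv _ hj (hFLin (pCoreOf_le F hj)), hpow]
  have hlines : ∀ b ∈ baumannSubgroupOf 2 (T : Subgroup G), (∃ l : K, Lg b r = l • r) ∧ ∃ l : K, Lg b fv = l • fv := by
    intro b hb
    have hbN := hBE hb
    refine ⟨?_, ?_⟩
    · have hrR : r ∈ Rng := hr ▸ hNRng v0
      obtain ⟨q, hq, hq', hqr⟩ := hrR
      have : Lg b r ∈ Rng := by
        refine ⟨b * q * b⁻¹, (mem_normalizer_iff.1 (CfsgLib.LocalEven.normalizer_le_normalizer_pCoreOf F (hBF hb)) q).1 hq,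
          (mem_normalizer_iff.1 (hW b hbN) q).1 hq', ?_⟩
        rw [← hqr]
        exact hLg b hbN ⟨q, hq'⟩ _ rfl
      rw [hRngeq] at this
      obtain ⟨l, hl⟩ := this
      exact ⟨l, hl.symm⟩
    · -- the fixed line of `F`
      have hb' : b⁻¹ * (f : G) * b ∈ F := (mem_normalizer_iff''.1 (hBF hb) _).1 f.2
      have h1 : ∀ v, Mg (f : G) *ᵥ Lg b v = Lg b (Mg (b⁻¹ * (f : G) * b) *ᵥ v) := induces_unique hs hk (g := (f : G) * b)
        (mul_mem (hW f (hFN f.2)) (hW b hbN)) (induces_mul hs hk (hW b hbN) (hMind f (hFLin f.2)) (hLg b hbN))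
        (by
          rw [show (f : G) * b = b * (b⁻¹ * (f : G) * b) by group]
          exact induces_mul hs hk (hW _ (hFN hb')) (hLg b hbN) (hMind _ (hFLin hb')))
      have h2 : M *ᵥ Lg b fv = Lg b fv := by rw [hM, h1, hfix ⟨_, hb'⟩]
      have h3 : N *ᵥ Lg b fv = 0 := by rw [hN, sub_mulVec, one_mulVec, h2, sub_self]
      -- the kernel is the line
      refine ⟨dt r (Lg b fv) / dt r fv, ?_⟩
      have hexp : ∀ v, dt r fv • v = dt v fv • r + dt r v • fv := fun v => by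
        ext i; fin_cases i <;> simp [dt] <;> ring
      have h4 : dt (Lg b fv) fv = 0 := by
        have h5 := congrArg (fun v => N *ᵥ v) (hexp (Lg b fv))
        simp only [mulVec_add, mulVec_smul, hfv, h3, smul_zero, add_zero] at h5
        have hNr0 : N *ᵥ r ≠ 0 := by
          intro h0
          refine hr0 ?_
          have h6 := congrArg (fun v => N *ᵥ v) (hexp v0)
          simp only [mulVec_add, mulVec_smul, hfv, h0, smul_zero, add_zero, ← hr] at h6
          exact (smul_eq_zero.1 h6).resolve_left hindep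
        exact (smul_eq_zero.1 h5.symm).resolve_right hNr0
      have h7 := hexp (Lg b fv)
      rw [h4, zero_smul, zero_add] at h7
      rw [div_eq_inv_mul, ← smul_smul, ← h7, inv_smul_smul₀ hindep]
  -- an elementary abelian subgroup acting nontrivially
  obtain ⟨A, hA, hAW⟩ : ∃ A, CfsgLib.Transfer.MaxElem 2 (T : Subgroup G) A ∧ ¬ A ≤ centralizer (bM 2 E : Set G) := by
    by_contra hcon
    push Not at hcon
    refine (block_location hG T E hE).2.2 ?_
    rw [commutator_eq_bot_iff_le_centralizer, le_centralizer_iff, CfsgLib.Transfer.thompsonOf_eq_sSup]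
    exact sSup_le hcon
  obtain ⟨a, ha, haW⟩ := SetLike.not_le_iff_exists.1 hAW
  have hAB : A ≤ baumannSubgroupOf 2 (T : Subgroup G) :=
    (CfsgLib.Transfer.le_thompsonOf_of_max hA).trans (centralizes_thompson_omega _)
  haveI := hA.2.1.1
  have hAc : ∀ x ∈ A, ∀ y ∈ A, x * y = y * x := fun x hx y hy =>
    congrArg Subtype.val (IsMulCommutative.is_comm.comm (⟨x, hx⟩ : A) ⟨y, hy⟩)
  have hexp : ∀ v, dt r fv • v = dt v fv • r + dt r v • fv := fun v => by
    ext i; fin_cases i <;> simp [dt] <;> ring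
  have hlin : ∀ c ∈ A, (∀ l, μg c l = l) → c ∈ centralizer (bM 2 E : Set G) := by
    intro c hc hμ
    have hcN := hBE (hAB hc)
    refine nKer_le_centralizer hE (mem_inf.2 ⟨hNE ▸ hcN, (induces_id_iff hs hk (hW c hcN) (hZ c hcN)).1 ?_⟩)
    obtain ⟨⟨l1, hl1⟩, l2, hl2⟩ := hlines c (hAB hc)
    have hsqv : ∀ v, Lg c (Lg c v) = v := induces_unique hs hk (g := c * c) (mul_mem (hW c hcN) (hW c hcN))
      (induces_mul hs hk (hW c hcN) (hLg c hcN) (hLg c hcN)) (by
        rw [show c * c = 1 by rw [← pow_two]; exact hA.2.1.2 c hc]; exact induces_one hs hk)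
    have hone : ∀ (l : K) (v : Fin 2 → K), v ≠ 0 → Lg c v = l • v → l = 1 := by
      intro l v hv h
      have h1 := hsqv v
      rw [h, hμg c hcN, hμ, h, smul_smul] at h1
      have h2 : (l * l - 1) • v = 0 := by rw [sub_smul, h1, one_smul, sub_self]
      have h3 := (smul_eq_zero.1 h2).resolve_right hv
      refine sub_eq_zero.1 (mul_self_eq_zero.1 (?_ : (l - 1) * (l - 1) = 0))
      linear_combination h3 + (1 - l) * h2K
    rw [hone l1 r hr0 hl1, one_smul] at hl1
    rw [hone l2 fv hfv0 hl2, one_smul] at hl2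
    intro u w hw
    rw [hLg c hcN u w hw]
    obtain ⟨v, hv⟩ : ∃ v, v = Multiplicative.toAdd (ψ u) := ⟨_, rfl⟩
    rw [← hv]
    refine smul_right_injective _ hindep ?_
    show dt r fv • Lg c v = dt r fv • v
    conv_lhs => rw [show dt r fv = μg c (dt r fv) from (hμ _).symm, ← hμg c hcN, hexp v, map_add, hμg c hcN, hμg c hcN, hμ, hμ, hl1, hl2, ← hexp]
  obtain ⟨ω, hωne⟩ : ∃ ω, μg a ω ≠ ω := by
    by_contra h
    push Not at h
    exact haW (hlin a ha h)
  have hμ2 : ∀ c ∈ A, (∀ l, μg c l = l) ∨ ∀ l, μg c l = μg a l := by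
    intro c hc
    by_cases h : ∀ l, μg c l = l
    · exact Or.inl h
    refine Or.inr fun l => ?_
    -- the field of order four has one nontrivial automorphism
    have hfour : ∀ (σ : K →+* K) (x : K), σ x = x ∨ σ x = x + 1 := by
      intro σ x
      have hp4 : ∀ y : K, y ^ 4 = y := fun y => hK4 ▸ FiniteField.pow_card y
      rcases eq_or_ne x 0 with rfl | hx0
      · exact Or.inl (map_zero σ)
      rcases eq_or_ne x 1 with rfl | hx1
      · exact Or.inl (map_one σ)
      have hroot : ∀ y : K, y ≠ 0 → y ≠ 1 → y * y + y + 1 = 0 := fun y h0 h1 => by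
        refine (mul_eq_zero.1 (show (y * (y - 1)) * (y * y + y + 1) = 0 by linear_combination hp4 y)).resolve_left ?_
        exact mul_ne_zero h0 (sub_ne_zero.2 h1)
      have hy := hroot (σ x) (fun e => hx0 ((map_eq_zero σ).1 e)) (fun e => hx1 (σ.injective (e.trans (map_one σ).symm)))
      rcases mul_eq_zero.1 (show (σ x - x) * (σ x - (x + 1)) = 0 by
        linear_combination hy - hroot x hx0 hx1 + (x * x + x - σ x * x - σ x) * h2K) with e | e
      · exact Or.inl (sub_eq_zero.1 e)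
      · exact Or.inr (sub_eq_zero.1 e)
    obtain ⟨l', hl'⟩ := not_forall.1 h
    have hx : ∀ (σ : K →+* K) y, σ y ≠ y → ∀ x, x ≠ 0 → x ≠ 1 → σ x = x + 1 := by
      intro σ y hy x hx0 hx1
      rcases hfour σ x with e | e
      · exfalso
        apply hy
        -- `y` is a combination of `1` and `x`
        have hall : y = 0 ∨ y = 1 ∨ y = x ∨ y = x + 1 := by
          by_contra hcon
          push Not at hcon
          have hsub : ({0, 1, x, x + 1, y} : Finset K).card ≤ 4 := hK4 ▸ Finset.card_le_univ _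
          have hx10 : x + 1 ≠ 0 := fun e' => hx1 (by linear_combination e' - h2K)
          have hx11 : x + 1 ≠ 1 := fun e' => hx0 (by linear_combination e')
          have hxx : x + 1 ≠ x := fun e' => one_ne_zero (α := K) (by linear_combination e')
          rw [Finset.card_insert_of_notMem (by simp [Ne.symm hx0, Ne.symm hx10, Ne.symm hcon.1]),
            Finset.card_insert_of_notMem (by simp [Ne.symm hx1, Ne.symm hx11, Ne.symm hcon.2.1]),
            Finset.card_insert_of_notMem (by simp [Ne.symm hxx, Ne.symm hcon.2.2.1]),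
            Finset.card_insert_of_notMem (by simp [Ne.symm hcon.2.2.2]), Finset.card_singleton] at hsub
          omega
        rcases hall with rfl | rfl | rfl | rfl <;> simp [e]
      · exact e
    rcases eq_or_ne l 0 with rfl | h0
    · simp
    rcases eq_or_ne l 1 with rfl | h1
    · simp
    rw [hx (μg c) l' hl' l h0 h1, hx (μg a) ω hωne l h0 h1]
  -- the offender is too small
  obtain ⟨CA, hCA⟩ : ∃ CA, CA = A ⊓ centralizer (bM 2 E : Set G) := ⟨_, rfl⟩
  have hidx : Nat.card A ≤ 2 * Nat.card CA := by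
    have h1 : (A : Set G) ⊆ (CA : Set G) ∪ (fun c => a * c) '' (CA : Set G) := by
      intro c hc
      rcases hμ2 c hc with hμ | hμ
      · exact Or.inl (hCA ▸ mem_inf.2 ⟨hc, hlin c hc hμ⟩ : c ∈ CA)
      · refine Or.inr ⟨a⁻¹ * c, (hCA ▸ mem_inf.2 ⟨mul_mem (inv_mem ha) hc, hlin _ (mul_mem (inv_mem ha) hc) ?_⟩ : a⁻¹ * c ∈ CA), by group⟩
        intro l
        have haN := hBE (hAB ha)
        have hcN := hBE (hAB hc)
        have hdN := mul_mem (inv_mem haN) hcN
        have e := induces_unique hs hk (g := a * (a⁻¹ * c)) (mul_mem (hW a haN) (hW _ hdN))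
          (induces_mul hs hk (hW _ hdN) (hLg a haN) (hLg _ hdN)) (by rw [mul_inv_cancel_left]; exact hLg c hcN)
        obtain ⟨u, hu⟩ := hLsurj c hcN w0
        have h1 := e (l • u)
        rw [hμg _ hdN, hμg a haN, e u, hμg c hcN, hμ l, hu] at h1
        exact (μg a).injective (smul_left_injective K hw0 h1)
    have h2 := (Set.ncard_le_ncard h1 (Set.toFinite _)).trans (Set.ncard_union_le _ _)
    have h3 := Set.ncard_image_le (s := (CA : Set G)) (f := fun c => a * c) (Set.toFinite _)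
    rw [← Nat.card_coe_set_eq] at h2
    have e1 : (CA : Set G).ncard = Nat.card CA := (Nat.card_coe_set_eq (CA : Set G)).symm
    have e2 : Nat.card (A : Set G) = Nat.card A := rfl
    omega
  have hWT : bM 2 E ≤ (T : Subgroup G) := (hWEV.trans V_le_R).trans (CfsgLib.Core.pCore_le_sylow T)
  have hel : IsElementaryAbelian 2 (bM 2 E ⊔ CA : Subgroup G) :=
    CfsgLib.PLocal.elementary_sup ⟨⟨⟨fun x y => Subtype.ext (bW_comm (bM_le_bW x.2) (bM_le_bW y.2))⟩⟩,
      fun x hx => omegaOneCenter_pow (bM_le_bW hx)⟩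
      ⟨⟨⟨fun x y => Subtype.ext (hAc x (hCA ▸ x.2 : (x : G) ∈ A ⊓ centralizer (bM 2 E : Set G)).1 y
        (hCA ▸ y.2 : (y : G) ∈ A ⊓ centralizer (bM 2 E : Set G)).1)⟩⟩,
      fun x hx => hA.2.1.2 x (hCA ▸ hx : x ∈ A ⊓ centralizer (bM 2 E : Set G)).1⟩ (le_centralizer_iff.1 (hCA ▸ inf_le_right))
  have h1 := hA.2.2 _ (sup_le hWT ((hCA ▸ inf_le_left : CA ≤ A).trans hA.1)) hel
  have h2 := CfsgLib.Core.card_sup_mul_card_inf (bM 2 E) CA
    ((le_centralizer_iff.1 (hCA ▸ inf_le_right : CA ≤ centralizer (bM 2 E : Set G))).trans (centralizer_le_normalizer _))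
  have h3 : Nat.card ↥(bM 2 E ⊓ CA) ≤ Nat.card ↥(bM 2 E ⊓ centralizer ({a} : Set G)) :=
    Subgroup.card_le_of_le (inf_le_inf_left _ fun c hc =>
      mem_centralizer_singleton_iff.2 (hAc c (hCA ▸ hc : c ∈ A ⊓ centralizer (bM 2 E : Set G)).1 a ha))
  -- the fixed points
  obtain ⟨π, hπ⟩ : ∃ π : ↥(bM 2 E) →* Multiplicative (Fin 2 → K), ∀ x, π x = ψ ⟨x, bM_le_bW x.2⟩ :=
    ⟨ψ.comp (Subgroup.inclusion bM_le_bW), fun x => rfl⟩
  have hπs : Function.Surjective π := fun t => by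
    obtain ⟨w, hw, hwt⟩ := hlift (Multiplicative.toAdd t)
    exact ⟨⟨w, hw⟩, by rw [hπ]; exact Multiplicative.toAdd.injective hwt⟩
  obtain ⟨X, hX⟩ : ∃ X, X = (bM 2 E ⊓ centralizer ({a} : Set G)).subgroupOf (bM 2 E) := ⟨_, rfl⟩
  have hXcard : Nat.card X = Nat.card ↥(bM 2 E ⊓ centralizer ({a} : Set G)) := hX ▸
    Nat.card_congr (subgroupOfEquivOfLe inf_le_left).toEquiv
  have hπX : Nat.card (X.map π) ≤ 4 := by
    have haN := hBE (hAB ha)
    have hsub : ∀ t ∈ X.map π, Lg a (Multiplicative.toAdd t) = Multiplicative.toAdd t := by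
      rintro _ ⟨x, hx, rfl⟩
      rw [hX] at hx
      have hxa : (x : G) * a = a * x := mem_centralizer_singleton_iff.1 (mem_inf.1 (mem_subgroupOf.1 hx)).2
      rw [hπ]
      exact (hLg a haN ⟨x, bM_le_bW x.2⟩ ⟨x, bM_le_bW x.2⟩ (by show (x : G) = a * x * a⁻¹; rw [← hxa, mul_inv_cancel_right])).symm
    have hinj : Function.Injective (fun t : ↥(X.map π) × ↥(X.map π) =>
        Multiplicative.toAdd (t.1 : Multiplicative (Fin 2 → K)) + ω • Multiplicative.toAdd (t.2 : Multiplicative (Fin 2 → K))) := by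
      rintro ⟨t1, t2⟩ ⟨s1, s2⟩ h
      simp only at h
      have h' := congrArg (Lg a) h
      simp only [map_add, hμg a haN, hsub _ t1.2, hsub _ t2.2, hsub _ s1.2, hsub _ s2.2] at h'
      have e : Multiplicative.toAdd (t2 : Multiplicative (Fin 2 → K)) = Multiplicative.toAdd (s2 : Multiplicative (Fin 2 → K)) := by
        refine smul_right_injective _ (sub_ne_zero.2 hωne) ?_
        funext i
        have e1 := congrFun h i
        have e2 := congrFun h' i
        simp only [Pi.add_apply, Pi.smul_apply, smul_eq_mul] at e1 e2 ⊢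
        linear_combination e2 - e1
      rw [e] at h
      have e' := add_right_cancel h
      exact Prod.ext (Subtype.ext (Multiplicative.toAdd.injective e')) (Subtype.ext (Multiplicative.toAdd.injective e))
    have hsq := Nat.card_le_card_of_injective _ hinj
    rw [Nat.card_prod, Nat.card_fun, Nat.card_eq_fintype_card (α := K), hK4, Nat.card_fin] at hsq
    by_contra hcon
    push Not at hcon
    have := Nat.mul_le_mul hcon hcon
    omega
  have hker16 : Nat.card (bM 2 E) = 16 * Nat.card π.ker := by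
    have := π.ker.card_mul_index
    rw [Subgroup.index_ker, MonoidHom.range_eq_top.2 hπs, Subgroup.card_top, Nat.card_congr Multiplicative.toAdd,
      Nat.card_fun, Nat.card_eq_fintype_card (α := K), hK4, Nat.card_fin] at this
    omega
  have hX4 : Nat.card X ≤ 4 * Nat.card π.ker := by
    have e := (π.comp X.subtype).ker.card_mul_index
    rw [Subgroup.index_ker, MonoidHom.range_comp, range_subtype] at e
    have h7 : Nat.card (π.comp X.subtype).ker ≤ Nat.card π.ker :=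
      Nat.card_le_card_of_injective (fun x => (⟨((x : ↥X) : ↥(bM 2 E)), x.2⟩ : ↥π.ker))
        fun x y hxy => Subtype.ext (Subtype.ext (congrArg Subtype.val hxy :))
    rw [← e, mul_comm 4]
    exact Nat.mul_le_mul h7 hπX
  rw [hXcard] at hX4
  have h9 : Nat.card (bM 2 E) * Nat.card CA ≤ Nat.card A * (4 * Nat.card π.ker) :=
    h2 ▸ Nat.mul_le_mul h1 (h3.trans hX4)
  have h10 : 16 * Nat.card π.ker * Nat.card CA ≤ 8 * (Nat.card π.ker * Nat.card CA) := by
    rw [hker16] at h9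
    refine h9.trans ?_
    calc Nat.card A * (4 * Nat.card π.ker) ≤ (2 * Nat.card CA) * (4 * Nat.card π.ker) := Nat.mul_le_mul_right _ hidx
      _ = 8 * (Nat.card π.ker * Nat.card CA) := by ring
  have hpos : 0 < Nat.card π.ker * Nat.card CA := Nat.mul_pos Nat.card_pos Nat.card_pos
  have e16 : 16 * Nat.card π.ker * Nat.card CA = 16 * (Nat.card π.ker * Nat.card CA) := by ring
  omega

/-- A block normalising a symmetric block acts on its module as elements of it. -/
theorem outer_alt {T : Sylow 2 G} {E F : Subgroup G} (hE : IsBaumannBlock 2 (T : Subgroup G) E)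
    (hF : IsBaumannBlock 2 (T : Subgroup G) F) (hFE : F ≤ normalizer (E : Set G)) {m : ℕ} (hm : 1 ≤ m)
    (h : ActsAsOddPermModuleOnSection (2 * m + 1) (alternatingGroup (Fin (2 * m + 1))) E (bW 2 E) (bZ 2 E)) :
    F ≤ E ⊔ nKer 2 E := by
  classical
  obtain ⟨hn, hle, ρ, ψ, hρ, hψe, hψs, hk, hact'⟩ := h
  have hact : ∀ (e : ↥E) (u w : ↥(bW 2 E)), (w : G) = e * u * (e : G)⁻¹ →
      Multiplicative.toAdd (ψ w) = EvenPerm.pm (ρ e) (Multiplicative.toAdd (ψ u)) := by
    intro e u w hw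
    obtain ⟨w', hw', h⟩ := hact' e u
    rw [show w = w' from Subtype.ext (hw.trans hw'.symm)]
    exact funext h
  have hperm : ∀ g, g ∈ normalizer (E : Set G) → ∃ π : Equiv.Perm (Fin (2 * m + 1)), ∀ u w : ↥(bW 2 E),
      (w : G) = g * u * g⁻¹ → Multiplicative.toAdd (ψ w) = EvenPerm.pm π (Multiplicative.toAdd (ψ u)) :=
    fun g hg => alt_normalizer_perm hE rfl hm hρ hψs hψe hk hact hg
  choose! π hπ using hperm
  have hmul : ∀ a b, a ∈ normalizer (E : Set G) → b ∈ normalizer (E : Set G) → π (a * b) = π a * π b := by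
    intro a b ha hb
    refine inv_mul_eq_one.1 (EvenPerm.eq_one_of_fix (by omega) fun v hv => ?_)
    obtain ⟨u, rfl⟩ := hψs v hv
    obtain ⟨u1, hu1⟩ : ∃ u1 : ↥(bW 2 E), (u1 : G) = b * u * b⁻¹ :=
      ⟨⟨_, (mem_normalizer_iff.1 (normalizer_le_bW E hb) _).1 u.2⟩, rfl⟩
    obtain ⟨u2, hu2⟩ : ∃ u2 : ↥(bW 2 E), (u2 : G) = a * u1 * a⁻¹ :=
      ⟨⟨_, (mem_normalizer_iff.1 (normalizer_le_bW E ha) _).1 u1.2⟩, rfl⟩
    have h1 := hπ (a * b) (mul_mem ha hb) u u2 (by rw [hu2, hu1]; group)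
    rw [hπ a ha u1 u2 hu2, hπ b hb u u1 hu1, ← EvenPerm.pm_mul] at h1
    rw [EvenPerm.pm_mul, h1, ← EvenPerm.pm_mul, inv_mul_cancel]
    rfl
  let s : ↥(normalizer (E : Set G)) →* ℤˣ :=
    MonoidHom.mk' (fun g => Equiv.Perm.sign (π g)) fun a b => by rw [Subgroup.coe_mul, hmul _ _ a.2 b.2, map_mul]
  have hB : baumannSubgroupOf 2 (T : Subgroup G) ≤ normalizer (E : Set G) := by
    have := Subgroup.normalizer_commutator_ge_right E (baumannSubgroupOf 2 (T : Subgroup G))
    rwa [hE.2.1] at this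
  have hFs : F ≤ s.ker.map (normalizer (E : Set G)).subtype := by
    conv_lhs => rw [← hF.2.1]
    refine commutator_le.2 fun f hf b hb => ⟨⁅(⟨f, hFE hf⟩ : ↥(normalizer (E : Set G))), ⟨b, hB hb⟩⁆, ?_, rfl⟩
    show _ ∈ s.ker
    rw [MonoidHom.mem_ker, map_commutatorElement, commutatorElement_eq_one_iff_mul_comm, mul_comm]
  intro f hf
  obtain ⟨g, hg, hgf⟩ := hFs hf
  obtain ⟨e, he⟩ : π f ∈ ρ.range := by
    rw [hρ, Equiv.Perm.mem_alternatingGroup, ← hgf]
    exact hg
  have hk' : (e : G)⁻¹ * f ∈ nKer 2 E := by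
    have heN : (e : G) ∈ normalizer (E : Set G) := le_normalizer e.2
    have hN := mul_mem (inv_mem heN) (hFE hf)
    refine mem_inf.2 ⟨hN, mem_secKer.2 ⟨normalizer_le_bW E hN, normalizer_le_bZ E hN, fun u hu => ?_⟩⟩
    obtain ⟨u1, hu1⟩ : ∃ u1 : ↥(bW 2 E), (u1 : G) = f * u * f⁻¹ :=
      ⟨⟨_, (mem_normalizer_iff.1 (normalizer_le_bW E (hFE hf)) _).1 hu⟩, rfl⟩
    obtain ⟨u2, hu2⟩ : ∃ u2 : ↥(bW 2 E), (u2 : G) = (e : G)⁻¹ * u1 * (e : G)⁻¹⁻¹ :=
      ⟨⟨_, (mem_normalizer_iff.1 (normalizer_le_bW E (inv_mem heN)) _).1 u1.2⟩, rfl⟩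
    have h1 : ψ u2 = ψ ⟨u, hu⟩ := Multiplicative.toAdd.injective (by
      rw [hact e⁻¹ u1 u2 (by rw [hu2]; rfl), hπ f (hFE hf) ⟨u, hu⟩ u1 hu1, ← EvenPerm.pm_mul, ← he, ← map_mul,
        inv_mul_cancel, map_one]
      rfl)
    rw [← mul_inv_eq_one, ← map_inv, ← map_mul, hk, Subgroup.coe_mul, Subgroup.coe_inv, hu2, hu1] at h1
    rw [show (e : G)⁻¹ * f * u * ((e : G)⁻¹ * f)⁻¹ * u⁻¹ = (e : G)⁻¹ * (f * u * f⁻¹) * (e : G)⁻¹⁻¹ * u⁻¹ by group]
    exact h1
  rw [show f = (e : G) * ((e : G)⁻¹ * f) by group]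
  exact mul_mem (mem_sup_left e.2) (mem_sup_right hk')

/-- A block normalising a block acts on its module as elements of it. -/
theorem outer (hG : centralizer (pCore p G : Set G) ≤ pCore p G) (hE : IsBaumannBlock p (T : Subgroup G) E)
    (hF : IsBaumannBlock p (T : Subgroup G) F) (hFE : F ≤ normalizer (E : Set G)) : F ≤ E ⊔ nKer p E := by
  rcases id hE.2.2.2.2 with ⟨K, _, _, n, hcard, hiso, hW, -⟩ | ⟨hp2, m, hiso, hW, -⟩
  · exact outer_sl2 T hG hE hF hFE hcard hW
  · subst hp2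
    refine outer_alt hE hF hFE ?_ hW
    by_contra hm
    obtain rfl : m = 0 := by omega
    refine block_core_ne hE (le_antisymm (pCoreOf_le E) fun x hx => ?_)
    obtain ⟨f⟩ := hiso
    have h1 : ((⟨x, hx⟩ : ↥E) : ↥E ⧸ pCore 2 ↥E) = 1 := f.injective (Subtype.ext (Equiv.ext fun i => Fin.ext (by omega)))
    exact ⟨_, (QuotientGroup.eq_one_iff _).1 h1, rfl⟩

end CfsgLib.LocalEven.SubBlock
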