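import Cfsg.Agent.Lib.LocalEven.BlockCent.Main
import Cfsg.Agent.Lib.LocalEven.SubBlock.Global
import Cfsg.Agent.Lib.LocalEven.SubBlock.Outer

/-!
# A block lies in a subnormal block or commutes with it
-/

set_option autoImplicit false
set_option linter.all false

namespace CfsgLib.LocalEven.SubBlock

open Subgroup Cfsg
open CfsgLib.LocalEvenB
open CfsgLib.LocalEvenB.SubBlocks
open scoped commutatorElement

variable {G : Type*} [Group G] [Finite G] {p : ℕ} [hp : Fact p.Prime] {E F : Subgroup G} (T : Sylow p G)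

/-- The elements of `nKer` trivial on `O_p(E) / W`. -/
abbrev qKer (p : ℕ) (E : Subgroup G) : Subgroup G := nKer p E ⊓ secKer (pCoreOf p E) (bW p E)

theorem qKer_normalized (E : Subgroup G) : normalizer (E : Set G) ≤ normalizer (qKer p E : Set G) := fun g hg =>
  CfsgLib.LocalEvenB.mem_normalizer_of_forall fun x hx => mem_inf.2
    ⟨(mem_normalizer_iff.1 (nKer_normalized E hg) x).1 hx.1,
      conj_mem_secKer (CfsgLib.LocalEven.normalizer_le_normalizer_pCoreOf E hg) (normalizer_le_bW E hg) hx.2⟩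

/-- Inside `E nKer` the block lies in `E qKer`. -/
theorem le_qKer_of_outer (hE : IsBaumannBlock p (T : Subgroup G) E) (hF : IsBaumannBlock p (T : Subgroup G) F)
    (h : F ≤ E ⊔ nKer p E) : F ≤ E ⊔ qKer p E := by
  obtain ⟨Q, hQ⟩ : ∃ Q, Q = pCoreOf p E := ⟨_, rfl⟩
  obtain ⟨W, hW⟩ : ∃ W, W = bW p E := ⟨_, rfl⟩
  obtain ⟨C, hC⟩ : ∃ C, C = nKer p E := ⟨_, rfl⟩
  obtain ⟨K, hK⟩ : ∃ K, K = qKer p E := ⟨_, rfl⟩
  rw [← hC] at h
  rw [← hK]
  have hCN : C ≤ normalizer (E : Set G) := hC ▸ inf_le_left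
  have hNQ : ∀ g ∈ normalizer (E : Set G), g ∈ normalizer (Q : Set G) := fun g hg =>
    hQ ▸ CfsgLib.LocalEven.normalizer_le_normalizer_pCoreOf E hg
  have hNW : ∀ g ∈ normalizer (E : Set G), g ∈ normalizer (W : Set G) := fun g hg => hW ▸ normalizer_le_bW E hg
  have hKdef : ∀ g, g ∈ K ↔ g ∈ C ∧ g ∈ secKer Q W := fun g => by rw [hK, hC, hQ, hW]; exact mem_inf
  rcases block_linear_or_exceptional hE with hl | ⟨h3, hirr, -, -, -, -⟩
  · refine h.trans (sup_le_sup_left (fun g hg => (hKdef g).2 ⟨hg, mem_secKer.2 ⟨hNQ g (hCN hg), hNW g (hCN hg), fun u hu => ?_⟩⟩) _)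
    have hu' : u ∈ W := by rw [hW, ← hl, ← hQ]; exact hu
    exact mul_mem ((mem_normalizer_iff.1 (hNW g (hCN hg)) u).1 hu') (inv_mem hu')
  rw [← hQ, ← hW] at hirr
  have hQC : Q ≤ C := by
    rw [hQ, hC]
    exact le_inf ((pCoreOf_le E).trans le_normalizer) (core_le_secKer_WZ E)
  have hQker : Q ≤ secKer Q W := hQ ▸ hW ▸ core_le_secKer_QW hE
  have hWQ : W ≤ Q := hQ ▸ hW ▸ bW_le E
  have hQW : Q ≤ normalizer (W : Set G) := hQ ▸ hW ▸ core_le_normalizer_bW E
  have hab : ⁅Q, Q⁆ ≤ W := hQ ▸ hW ▸ core_le_secKer_QW_normalizer hE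
  have hEn : ∀ e ∈ E, e ∈ normalizer (E : Set G) := fun e he => le_normalizer he
  have hcommQ : ∀ c ∈ C, ∀ e ∈ E, ⁅c, e⁆ ∈ Q := fun c hc e he => hQ ▸ comm_nKer hE (hC ▸ hc) he
  have hCC : ⁅C, C⁆ ≤ K := by
    refine commutator_le.2 fun a ha b hb => (hKdef _).2 ⟨?_, ?_⟩
    · rw [commutatorElement_def]
      exact mul_mem (mul_mem (mul_mem ha hb) (inv_mem ha)) (inv_mem hb)
    · exact commutator_le_secKer (E := C) (F := E) (fun e he => hNQ e (hEn e he)) (fun e he => hNW e (hEn e he))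
        (fun c hc => hNQ c (hCN hc)) (fun c hc => hNW c (hCN hc)) hWQ hQW hab hirr
        (commutator_le.2 fun c hc e he => hQker (hcommQ c hc e he)) (commutator_mem_commutator ha hb)
  have hNK : ∀ g ∈ normalizer (E : Set G), g ∈ normalizer (K : Set G) := fun g hg => hK ▸ qKer_normalized E hg
  obtain ⟨H, hH⟩ : ∃ H, H = E ⊔ K := ⟨_, rfl⟩
  rw [← hH]
  have hNH : ∀ g ∈ normalizer (E : Set G), g ∈ normalizer (H : Set G) := fun g hg =>
    hH ▸ CfsgLib.LocalEven.BlockCent.sup_normalizer (mem_inf.2 ⟨hg, hNK g hg⟩)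
  have hCC' : ∀ x ∈ E ⊔ C, ∀ y ∈ E ⊔ C, ⁅x, y⁆ ∈ H := by
    intro x hx y hy
    rw [sup_comm] at hx hy
    obtain ⟨c, hc, e, he, rfl⟩ := (CfsgLib.Core.mem_sup_iff_mul hCN).1 hx
    obtain ⟨c', hc', e', he', rfl⟩ := (CfsgLib.Core.mem_sup_iff_mul hCN).1 hy
    have heH : ∀ {e}, e ∈ E → e ∈ H := fun he => hH ▸ mem_sup_left he
    have hconj : ∀ {g}, g ∈ normalizer (E : Set G) → ∀ {z}, z ∈ H → g * z * g⁻¹ ∈ H :=
      fun {g} hg {z} hz => (mem_normalizer_iff.1 (hNH _ hg) z).1 hz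
    have hk : ⁅c, c'⁆ ∈ H := hH ▸ mem_sup_right (hCC (commutator_mem_commutator hc hc'))
    have e1 : ⁅c * e, c' * e'⁆ = (c * e * c⁻¹) * ((c * c') * e' * (c * c')⁻¹) * ⁅c, c'⁆ *
        ((c' * c) * e⁻¹ * (c' * c)⁻¹) * (c' * e'⁻¹ * c'⁻¹) := by
      rw [commutatorElement_def, commutatorElement_def]; group
    rw [e1]
    exact mul_mem (mul_mem (mul_mem (mul_mem (hconj (hCN hc) (heH he)) (hconj (hCN (mul_mem hc hc')) (heH he'))) hk)
      (hconj (hCN (mul_mem hc' hc)) (heH (inv_mem he)))) (hconj (hCN hc') (heH (inv_mem he')))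
  have hFF : ⁅F, F⁆ ≤ H := commutator_le.2 fun x hx y hy => hCC' x (h hx) y (h hy)
  rcases block_types hF with hq | hs
  · rwa [block_perfect_of_qs hF hq] at hFF
  -- the quaternion case
  have hBN : baumannSubgroupOf p (T : Subgroup G) ≤ normalizer (E : Set G) := by
    have := Subgroup.normalizer_commutator_ge_right E (baumannSubgroupOf p (T : Subgroup G))
    rwa [hE.2.1] at this
  obtain ⟨I, hI⟩ : ∃ I : Subgroup G, ∀ g, g ∈ I ↔ g ∈ C ∧ (g ∈ secKer Q W ∨ SecInv Q W g) := by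
    have hn : ∀ {g}, g ∈ C → g ∈ normalizer (Q : Set G) ∧ g ∈ normalizer (W : Set G) := fun hg =>
      ⟨hNQ _ (hCN hg), hNW _ (hCN hg)⟩
    refine ⟨{ carrier := {g | g ∈ C ∧ (g ∈ secKer Q W ∨ SecInv Q W g)}
              one_mem' := ⟨one_mem _, Or.inl (one_mem _)⟩
              mul_mem' := ?_
              inv_mem' := ?_ }, fun g => Iff.rfl⟩
    · rintro a b ⟨haC, ha⟩ ⟨hbC, hb⟩
      refine ⟨mul_mem haC hbC, ?_⟩
      rcases ha with ha | ha <;> rcases hb with hb | hb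
      · exact Or.inl (mul_mem ha hb)
      · exact Or.inr (hb.secKer_mul ha)
      · refine Or.inr ?_
        rw [show a * b = (a * b * a⁻¹) * a by group]
        exact ha.secKer_mul (conj_mem_secKer (hn haC).1 (hn haC).2 hb)
      · exact Or.inl (ha.mul_mem_secKer hb hQW (hn haC).1 (hn hbC).1 (hn haC).2 (hn hbC).2)
    · rintro a ⟨haC, ha⟩
      refine ⟨inv_mem haC, ?_⟩
      rcases ha with ha | ha
      · exact Or.inl (inv_mem ha)
      · refine Or.inr ?_
        rw [show a⁻¹ = (a * a)⁻¹ * a by group]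
        exact ha.secKer_mul (inv_mem (ha.mul_mem_secKer ha hQW (hn haC).1 (hn haC).1 (hn haC).2 (hn haC).2))
  have hIC : I ≤ C := fun g hg => ((hI g).1 hg).1
  have hFI : F ≤ E ⊔ I := block_le_of_coprime hF fun x hx hxc => by
    have hx2 : x * x ∈ F ⊓ H := by
      refine mem_of_coprime_sup (isPGroup_pCoreOf (p := p) F) ?_ ?_ ?_
      · exact (le_inf ((pCoreOf_le F).trans le_normalizer) fun q hq => hNH q ((sup_le le_normalizer hCN) (h (pCoreOf_le F hq)))).trans
          inf_normalizer_le_normalizer_inf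
      · refine (sup_le ((le_inf (commutator_le.2 fun a ha b hb => ?_) hFF).trans le_sup_left) le_sup_right :
          ⁅F, F⁆ ⊔ pCoreOf p F ≤ _) (quat_sq hF hs h3 hx)
        rw [commutatorElement_def]; exact mul_mem (mul_mem (mul_mem ha hb) (inv_mem ha)) (inv_mem hb)
      · rw [← pow_two]; exact hxc.coprime_dvd_left (orderOf_pow_dvd 2)
    have hx' := h hx
    rw [sup_comm] at hx'
    obtain ⟨c, hc, e, he, rfl⟩ := (CfsgLib.Core.mem_sup_iff_mul hCN).1 hx'
    have hcc : c * c ∈ K := by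
      have h1 : c * c ∈ H := by
        rw [show c * c = (c * e * (c * e)) * (e⁻¹ * (c⁻¹ * e⁻¹ * c⁻¹⁻¹)) by group]
        exact mul_mem (mem_inf.1 hx2).2 (mul_mem (hH ▸ mem_sup_left (inv_mem he))
          ((mem_normalizer_iff.1 (hNH _ (inv_mem (hCN hc))) _).1 (hH ▸ mem_sup_left (inv_mem he))))
      have hKN : K ≤ normalizer (E : Set G) := fun g hg => hCN ((hKdef g).1 hg).1
      rw [hH, sup_comm, CfsgLib.Core.mem_sup_iff_mul hKN] at h1
      obtain ⟨k, hk, e', he', hke⟩ := h1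
      have he'C : e' ∈ C := by
        rw [show e' = k⁻¹ * (c * c) by rw [hke, inv_mul_cancel_left]]
        exact mul_mem (inv_mem ((hKdef k).1 hk).1) (mul_mem hc hc)
      have he'Q : e' ∈ Q := by
        have h2 : e' ∈ nKer p E := hC ▸ he'C
        rw [hQ]
        exact block_kernel_WZ hE (mem_inf.2 ⟨he', h2.2⟩)
      rw [hke]
      exact mul_mem hk ((hKdef e').2 ⟨hQC he'Q, hQker he'Q⟩)
    have hcI : c ∈ I := (hI c).2 ⟨hc, ?_⟩
    · exact mul_mem (mem_sup_right hcI) (mem_sup_left he)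
    -- the fixed points of `c`
    let X : Subgroup G :=
      { carrier := {q | q ∈ Q ∧ c * q * c⁻¹ * q⁻¹ ∈ W}
        one_mem' := ⟨one_mem _, by simp⟩
        mul_mem' := fun {a b} ha hb => ⟨mul_mem ha.1 hb.1, by
          rw [show c * (a * b) * c⁻¹ * (a * b)⁻¹ = (c * a * c⁻¹ * a⁻¹) * (a * (c * b * c⁻¹ * b⁻¹) * a⁻¹) by group]
          exact mul_mem ha.2 ((mem_normalizer_iff.1 (hQW ha.1) _).1 hb.2)⟩
        inv_mem' := fun {a} ha => ⟨inv_mem ha.1, by
          rw [show c * a⁻¹ * c⁻¹ * a⁻¹⁻¹ = a⁻¹ * (c * a * c⁻¹ * a⁻¹)⁻¹ * a⁻¹⁻¹ by group]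
          exact (mem_normalizer_iff.1 (hQW (inv_mem ha.1)) _).1 (inv_mem ha.2)⟩ }
    have hEX : E ≤ normalizer (X : Set G) := fun d hd => CfsgLib.LocalEvenB.mem_normalizer_of_forall fun q hq => by
      refine ⟨(mem_normalizer_iff.1 (hNQ d (hEn d hd)) q).1 hq.1, ?_⟩
      obtain ⟨r, hr, hrd⟩ : ∃ r ∈ Q, c * d = r * (d * c) :=
        ⟨⁅c, d⁆, hcommQ c hc d hd, by rw [commutatorElement_def]; group⟩
      have hdq : d * q * d⁻¹ ∈ Q := (mem_normalizer_iff.1 (hNQ d (hEn d hd)) q).1 hq.1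
      have h1 : d * (c * q * c⁻¹ * q⁻¹) * d⁻¹ ∈ W := (mem_normalizer_iff.1 (hNW d (hEn d hd)) _).1 hq.2
      rw [show c * (d * q * d⁻¹) * c⁻¹ * (d * q * d⁻¹)⁻¹ = (c * d) * q * (c * d)⁻¹ * (d * q * d⁻¹)⁻¹ by group, hrd,
        show r * (d * c) * q * (r * (d * c))⁻¹ * (d * q * d⁻¹)⁻¹ =
          (r * (d * (c * q * c⁻¹ * q⁻¹) * d⁻¹) * r⁻¹) * (r * (d * q * d⁻¹) * r⁻¹ * (d * q * d⁻¹)⁻¹) by group]
      exact mul_mem ((mem_normalizer_iff.1 (hQW hr) _).1 h1) ((mem_secKer.1 (hQker hr)).2.2 _ hdq)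
    rcases hirr X (fun w hw => ⟨hWQ hw, mul_mem ((mem_normalizer_iff.1 (hNW c (hCN hc)) w).1 hw) (inv_mem hw)⟩)
      (fun q hq => hq.1) hEX with hX | hX
    · refine Or.inr fun q hq => ?_
      have hcq : c * q * c⁻¹ ∈ Q := (mem_normalizer_iff.1 (hNQ c (hCN hc)) q).1 hq
      have hy : c * q * c⁻¹ * q ∈ X := by
        refine ⟨mul_mem hcq hq, ?_⟩
        have h1 := ((hKdef _).1 hcc).2.2.2 q hq
        rw [show c * (c * q * c⁻¹ * q) * c⁻¹ * (c * q * c⁻¹ * q)⁻¹ =
          ((c * c) * q * (c * c)⁻¹ * q⁻¹) * ⁅q, c * q * c⁻¹⁆ by rw [commutatorElement_def]; group]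
        exact mul_mem h1 (hab (commutator_mem_commutator hq hcq))
      rwa [hX] at hy
    · refine Or.inl (mem_secKer.2 ⟨hNQ c (hCN hc), hNW c (hCN hc), fun q hq => ?_⟩)
      have hq' : q ∈ X := hX.ge hq
      exact hq'.2
  conv_lhs => rw [← hF.2.1]
  refine commutator_le.2 fun x hx b hb => ?_
  have hx' := hFI hx
  rw [sup_comm] at hx'
  obtain ⟨c, hc, e, he, rfl⟩ := (CfsgLib.Core.mem_sup_iff_mul (hIC.trans hCN)).1 hx'
  have hbE := hBN hb
  have hcb : ⁅c, b⁆ ∈ H := by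
    obtain ⟨hcC, hct⟩ := (hI c).1 hc
    obtain ⟨hdC, hd⟩ : b * c⁻¹ * b⁻¹ ∈ C ∧ (c ∈ secKer Q W ∧ b * c⁻¹ * b⁻¹ ∈ secKer Q W ∨ SecInv Q W c ∧ SecInv Q W (b * c⁻¹ * b⁻¹)) := by
      refine ⟨hC ▸ (mem_normalizer_iff.1 (nKer_normalized E hbE) _).1 (inv_mem (hC ▸ hcC)), ?_⟩
      rcases hct with h1 | h1
      · exact Or.inl ⟨h1, conj_mem_secKer (hNQ b hbE) (hNW b hbE) (inv_mem h1)⟩
      · refine Or.inr ⟨h1, fun q hq => ?_⟩
        have h2 : SecInv Q W c⁻¹ := by
          rw [show c⁻¹ = (c * c)⁻¹ * c by group]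
          exact h1.secKer_mul (inv_mem (h1.mul_mem_secKer h1 hQW (hNQ c (hCN hcC)) (hNQ c (hCN hcC)) (hNW c (hCN hcC)) (hNW c (hCN hcC))))
        have h3 := (mem_normalizer_iff.1 (hNW b hbE) _).1 (h2 _ ((mem_normalizer_iff''.1 (hNQ b hbE) q).1 hq))
        rwa [show b * c⁻¹ * b⁻¹ * q * (b * c⁻¹ * b⁻¹)⁻¹ * q = b * (c⁻¹ * (b⁻¹ * q * b) * c⁻¹⁻¹ * (b⁻¹ * q * b)) * b⁻¹ by group]
    rw [commutatorElement_def, show c * b * c⁻¹ * b⁻¹ = c * (b * c⁻¹ * b⁻¹) by group, hH]
    refine mem_sup_right ((hKdef _).2 ⟨mul_mem hcC hdC, ?_⟩)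
    rcases hd with ⟨h1, h2⟩ | ⟨h1, h2⟩
    · exact mul_mem h1 h2
    · exact h1.mul_mem_secKer h2 hQW (hNQ c (hCN hcC)) (hNQ _ (hCN hdC)) (hNW c (hCN hcC)) (hNW _ (hCN hdC))
  have hcN := hCN (hIC hc)
  have heH : e ∈ H := hH ▸ mem_sup_left he
  rw [show ⁅c * e, b⁆ = (c * (e * (b * e⁻¹ * b⁻¹)) * c⁻¹) * ⁅c, b⁆ by
    rw [commutatorElement_def, commutatorElement_def]; group]
  exact mul_mem ((mem_normalizer_iff.1 (hNH c hcN) _).1 (mul_mem heH ((mem_normalizer_iff.1 (hNH b hbE) _).1 (inv_mem heH)))) hcb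

/-- In the exceptional case triviality on `Q / W` gives triviality on `W`. -/
theorem centralizes_bW (hE : IsBaumannBlock p (T : Subgroup G) E) {k : G} (hk : k ∈ qKer p E) :
    k ∈ centralizer (bW p E : Set G) := by
  have hkM := nKer_le_centralizer hE hk.1
  rcases block_linear_or_exceptional hE with hl | ⟨-, -, -, hcom, -, -⟩
  · rwa [← linear_bM hE hl]
  have hQW : ∀ {q w}, q ∈ pCoreOf p E → w ∈ bW p E → q * w * q⁻¹ = w := fun hq hw => by
    rw [core_commutes_bW hq hw, mul_inv_cancel_right]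
  have hZ : bZ p E ≤ centralizer ({k} : Set G) := by
    rw [← hcom]
    refine commutator_le.2 fun a ha b hb => mem_centralizer_singleton_iff.2 ?_
    obtain ⟨u, hu, hua⟩ : ∃ u ∈ bW p E, k * a * k⁻¹ = u * a := ⟨_, (mem_secKer.1 hk.2).2.2 a ha, by group⟩
    obtain ⟨v, hv, hvb⟩ : ∃ v ∈ bW p E, k * b * k⁻¹ = v * b := ⟨_, (mem_secKer.1 hk.2).2.2 b hb, by group⟩
    have h1 : k * ⁅a, b⁆ * k⁻¹ = ⁅a, b⁆ := by
      rw [conjugate_commutatorElement, hua, hvb, commutatorElement_def,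
        show u * a * (v * b) * (u * a)⁻¹ * (v * b)⁻¹ =
          u * (a * v * a⁻¹) * ((a * b * a⁻¹) * u⁻¹ * (a * b * a⁻¹)⁻¹) * (a * b * a⁻¹ * b⁻¹) * v⁻¹ by group,
        hQW ha hv, hQW (mul_mem (mul_mem ha hb) (inv_mem ha)) (inv_mem hu), ← commutatorElement_def]
      have hab : ⁅a, b⁆ ∈ pCoreOf p E := by
        rw [commutatorElement_def]; exact mul_mem (mul_mem (mul_mem ha hb) (inv_mem ha)) (inv_mem hb)
      rw [mul_assoc (u * v * u⁻¹), core_commutes_bW hab (inv_mem hv), ← mul_assoc, bW_comm hu hv]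
      group
    rw [mul_inv_eq_iff_eq_mul] at h1
    exact h1.symm
  refine mem_centralizer_iff.2 fun w hw => mem_centralizer_singleton_iff.1 ?_
  have hle : bM p E ⊔ bZ p E ≤ centralizer ({k} : Set G) :=
    sup_le (fun m hm => mem_centralizer_singleton_iff.2 (mem_centralizer_iff.1 hkM m hm)) hZ
  exact hle ((W_eq_sup hE).le hw)

/-- An irreducible section covered by an abelian subgroup is abelian: an invariant abelian subgroup of
exponent `p` of the core lies in `W`. -/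
theorem abelian_le_bW (hF : IsBaumannBlock p (T : Subgroup G) F) {Y : Subgroup G} (hYQ : Y ≤ pCoreOf p F)
    (hFY : F ≤ normalizer (Y : Set G)) (hc : ∀ a ∈ Y, ∀ b ∈ Y, a * b = b * a) : Y ≤ bW p F := by
  rcases block_linear_or_exceptional hF with hl | ⟨-, hirr, hker, hcom, -, -⟩
  · exact hl ▸ hYQ
  rcases hirr (Y ⊔ bW p F) le_sup_right (sup_le hYQ (bW_le F))
      ((le_inf hFY (le_normalizer.trans (normalizer_le_bW F))).trans CfsgLib.LocalEven.BlockCent.sup_normalizer) with h | h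
  · exact le_sup_left.trans h.le
  exfalso
  -- the core is abelian
  have habel : ∀ a ∈ pCoreOf p F, ∀ b ∈ pCoreOf p F, a * b = b * a := by
    have hle : Y ⊔ bW p F ≤ centralizer ((Y ⊔ bW p F : Subgroup G) : Set G) := by
      rw [CfsgLib.LocalEvenB.centralizer_sup]
      refine sup_le (le_inf (fun a ha => mem_centralizer_iff.2 fun b hb => hc b hb a ha) fun a ha =>
        mem_centralizer_iff.2 fun w hw => (core_commutes_bW (hYQ ha) hw).symm)
        (le_inf (fun w hw => mem_centralizer_iff.2 fun a ha => core_commutes_bW (hYQ ha) hw)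
          fun w hw => mem_centralizer_iff.2 fun v hv => bW_comm hv hw)
    rw [h] at hle
    exact fun a ha b hb => mem_centralizer_iff.1 (hle hb) a ha
  have hZ : bZ p F = ⊥ := by
    rw [← hcom, eq_bot_iff]
    exact commutator_le.2 fun a ha b hb => mem_bot.2 (commutatorElement_eq_one_iff_mul_comm.2 (habel a ha b hb))
  have hne : pCoreOf p F ≠ bW p F := fun hl => by
    refine block_core_ne hF (le_antisymm (pCoreOf_le F) fun e he => hker (mem_inf.2 ⟨he,
      mem_secKer.2 ⟨CfsgLib.LocalEven.normalizer_le_normalizer_pCoreOf F (le_normalizer he),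
        normalizer_le_bW F (le_normalizer he), fun u hu => ?_⟩⟩))
    have hu' : u ∈ bW p F := hl ▸ hu
    exact mul_mem ((mem_normalizer_iff.1 (normalizer_le_bW F (le_normalizer he)) u).1 hu') (inv_mem hu')
  rcases hF.2.2.2.2 with ⟨K, _, _, n, hcard, -, -, hl | ⟨-, -, -, -, hcE, hc3, -⟩⟩ | ⟨-, m, -, -, hl⟩
  · exact hne hl
  · rw [hcE] at hc3
    change Nat.card (bZ p F) = 3 ^ n at hc3
    rw [hZ, Subgroup.card_bot] at hc3
    have hn : n = 0 := (Nat.pow_eq_one.1 hc3.symm).resolve_left (by norm_num)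
    rw [hn, pow_zero] at hcard
    exact absurd hcard (Fintype.one_lt_card (α := K)).ne'
  · exact hne hl

set_option maxHeartbeats 800000 in
/-- A block lies in a subnormal block or commutes with it. -/
theorem le_or_commute (hG : centralizer (pCore p G : Set G) ≤ pCore p G) (hE : IsSubBlock p E)
    (hF : IsBaumannBlock p (T : Subgroup G) F) : F ≤ E ∨ ⁅F, E⁆ = ⊥ := by
  haveI hRn : (pCore p G).Normal := CfsgLib.Core.normal_pCore p G
  have hET := block_all hG hE T
  have hFE : F ≤ normalizer (E : Set G) := (block_le_baumannSubgroup hF).trans (baumannSubgroup_le_normalizer hG hE)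
  have hFK := le_qKer_of_outer T hET hF (outer T hG hET hF hFE)
  have hR : ∀ g : G, g ∈ normalizer (pCore p G : Set G) := fun g => by rw [normalizer_eq_top]; exact mem_top g
  have hRp := CfsgLib.Core.isPGroup_pCore p G
  have hMV := bM_le_V hG T hET
  have hRF : pCore p G ≤ normalizer (F : Set G) := block_normalized T hF hRp (fun g _ => hR g) (fun g _ => hR g)
  have hQF : ∀ r ∈ pCore p G, ∀ f ∈ F, f * r * f⁻¹ * r⁻¹ ∈ pCoreOf p F ⊓ pCore p G := by
    intro r hr f hf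
    have h1 : f * r * f⁻¹ * r⁻¹ ∈ pCore p G := mul_mem (hRn.conj_mem r hr f) (inv_mem hr)
    refine mem_inf.2 ⟨le_pCoreOf (A := pCore p G ⊓ F) inf_le_right (hRp.to_le inf_le_left)
      ((le_inf (fun g _ => hR g) le_normalizer).trans inf_normalizer_le_normalizer_inf) (mem_inf.2 ⟨h1, ?_⟩), h1⟩
    rw [show f * r * f⁻¹ * r⁻¹ = f * (r * f⁻¹ * r⁻¹) by group]
    exact mul_mem hf ((mem_normalizer_iff.1 (hRF hr) _).1 (inv_mem hf))
  obtain ⟨Y, hY⟩ : ∃ Y, Y = ⁅bM p E, F⁆ := ⟨_, rfl⟩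
  have hYM : Y ≤ bM p E := hY ▸ le_normalizer_iff_commutator_le_left.1 (hFE.trans (normalizer_le_bM E))
  have hYQ : Y ≤ pCoreOf p F := hY ▸ commutator_le.2 fun w hw f hf => by
    have h := inv_mem (mem_inf.1 (hQF w (V_le_R (hMV hw)) f hf)).1
    rw [show ⁅w, f⁆ = (f * w * f⁻¹ * w⁻¹)⁻¹ by rw [commutatorElement_def]; group]
    exact h
  have hFY : F ≤ normalizer (Y : Set G) := fun f hf => CfsgLib.LocalEvenB.mem_normalizer_of_forall fun y hy => by
    rw [hY] at hy ⊢
    have h1 := mem_map_of_mem (MulAut.conj f).toMonoidHom hy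
    rwa [map_commutator, map_conj_eq_self_iff_mem_normalizer.2 (normalizer_le_bM E (hFE hf)),
      map_conj_eq_self_iff_mem_normalizer.2 (le_normalizer hf)] at h1
  have hYW : Y ≤ bW p F := abelian_le_bW T hF hYQ hFY fun a ha b hb => bW_comm (bM_le_bW (hYM ha)) (bM_le_bW (hYM hb))
  have hKE : qKer p E ≤ normalizer (E : Set G) := inf_le_left.trans inf_le_left
  by_cases hYZ : Y ≤ centralizer (F : Set G)
  · right
    -- `F` centralises the module
    have hFM : F ≤ centralizer (bM p E : Set G) := block_le_of_coprime hF fun x hx hxc => by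
      refine secKer_bot_le_centralizer _ (coprime_stab (C := ⊥) ((bW_pGroup E).to_le bM_le_bW) hYM
        (fun z _ => mem_normalizer_iff.2 fun h => by simp [mem_bot, conj_eq_one_iff]) hxc ?_ (mem_secKer_bot ?_))
      · refine mem_secKer.2 ⟨normalizer_le_bM E (hFE hx), hFY hx, fun w hw => ?_⟩
        rw [show x * w * x⁻¹ * w⁻¹ = ⁅w, x⁆⁻¹ by rw [commutatorElement_def]; group, hY]
        exact inv_mem (commutator_mem_commutator hw hx)
      · exact mem_centralizer_iff.2 fun y hy => (mem_centralizer_iff.1 (hYZ hy) x hx).symm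
    rw [commutator_eq_bot_iff_le_centralizer]
    refine block_le_of_coprime hF fun x hx hxc => ?_
    have hxn : x ∈ nKer p E := centralizer_le_nKer hET (mem_inf.2 ⟨hFE hx, hFM hx⟩)
    have hx' := hFK hx
    rw [sup_comm] at hx'
    obtain ⟨k, hk, e, he, hxke⟩ := (CfsgLib.Core.mem_sup_iff_mul hKE).1 hx'
    have heQ : e ∈ pCoreOf p E := block_kernel_WZ hET (mem_inf.2 ⟨he, by
      rw [show e = k⁻¹ * x by rw [hxke, inv_mul_cancel_left]]
      exact mul_mem (inv_mem hk.1.2) hxn.2⟩)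
    have hxK : x ∈ qKer p E := by
      rw [hxke]
      exact mul_mem hk (mem_inf.2 ⟨mem_inf.2 ⟨le_normalizer he, core_le_secKer_WZ E heQ⟩, core_le_secKer_QW hET heQ⟩)
    have hxQ : x ∈ centralizer (pCoreOf p E : Set G) := secKer_bot_le_centralizer _
      (coprime_stab (B := bW p E) (isPGroup_pCoreOf E) (bW_le E)
        (fun z _ => mem_normalizer_iff.2 fun h => by simp [mem_bot, conj_eq_one_iff]) hxc hxK.2 (mem_secKer_bot (centralizes_bW T hET hxK)))
    exact mem_centralizer_iff.2 fun e he => (centralizes_of_core hxc hxQ (by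
      rw [← commutatorElement_def]; exact comm_nKer hET hxn he)).symm
  left
  -- the module of `F` lies in that of `E`
  have hWF : bM p F ≤ Y := by
    have hsup : Y ⊔ bZ p F = bW p F := (block_irr_WZ hF _ le_sup_right (sup_le hYW inf_le_left)
      ((le_inf hFY (le_normalizer.trans (normalizer_le_bZ F))).trans CfsgLib.LocalEven.BlockCent.sup_normalizer)).resolve_left
        fun h => hYZ (le_sup_left.trans (h.le.trans inf_le_right))
    refine commutator_le.2 fun w hw f hf => ?_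
    rw [← hsup, CfsgLib.Core.mem_sup_iff_mul (hYW.trans (bW_le_normalizer_bZ F))] at hw
    obtain ⟨y, hy, z, hz, rfl⟩ := hw
    have e : f * z⁻¹ * f⁻¹ = z⁻¹ := by rw [mem_centralizer_iff.1 (inv_mem hz.2) f hf, mul_inv_cancel_right]
    have hy' : f * y⁻¹ * f⁻¹ ∈ bW p F := (mem_normalizer_iff.1 (normalizer_le_bW F (le_normalizer hf)) _).1 (inv_mem (hYW hy))
    rw [show ⁅y * z, f⁆ = y * (z * (f * z⁻¹ * f⁻¹)) * (f * y⁻¹ * f⁻¹) by rw [commutatorElement_def]; group, e,
      mul_inv_cancel, mul_one]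
    exact mul_mem hy ((mem_normalizer_iff.1 (hFY hf) _).1 (inv_mem hy))
  have hCF : centralizer (bM p E : Set G) ≤ centralizer (bM p F : Set G) := centralizer_le (hWF.trans hYM)
  have hCN : centralizer (bM p E : Set G) ≤ normalizer (F : Set G) :=
    hCF.trans (CfsgLib.LocalEven.BlockCent.centralizer_le_normalizer_block hG T hF)
  have hQER : pCoreOf p E ≤ pCore p G := sub_core_le_R hE
  have hbWE : bW p E ≤ pCore p G := (bW_le E).trans hQER
  -- `F` is trivial on `O_p(G) / O_p(E)`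
  have hFR : ∀ x ∈ F, (orderOf x).Coprime p → x ∈ secKer (pCore p G) (pCoreOf p E) := by
    intro x hx hxc
    have hxE := hFE hx
    have hxQ := CfsgLib.LocalEven.normalizer_le_normalizer_pCoreOf (p := p) E hxE
    by_cases hmeet : pCoreOf p F ⊓ pCore p G ≤ bW p F
    · have hxW := normalizer_le_bW (p := p) F (le_normalizer hx)
      have h1 : x ∈ secKer (pCore p G) (bM p F) := by
        refine coprime_stab (B := bW p F ⊓ pCore p G) hRp inf_le_right
          (inf_le_left.trans ((bW_le F).trans ((pCoreOf_le F).trans (le_normalizer.trans (normalizer_le_bM F))))) hxc ?_ ?_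
        · exact mem_secKer.2 ⟨hR x, inf_normalizer_le_normalizer_inf (mem_inf.2 ⟨hxW, hR x⟩),
            fun m hm => mem_inf.2 ⟨hmeet (hQF m hm x hx), (mem_inf.1 (hQF m hm x hx)).2⟩⟩
        · exact mem_secKer.2 ⟨inf_normalizer_le_normalizer_inf (mem_inf.2 ⟨hxW, hR x⟩), normalizer_le_bM F (le_normalizer hx),
            fun w hw => comm_mem_bM hw.1 hx⟩
      exact mem_secKer.2 ⟨hR x, hxQ, fun m hm => (hWF.trans (hYM.trans (bM_le_bW.trans (bW_le E)))) ((mem_secKer.1 h1).2.2 m hm)⟩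
    rcases block_linear_or_exceptional hF with hl | ⟨h3, hirr, hker, hcom, -, -⟩
    · exact absurd (inf_le_left.trans hl.le) hmeet
    have hFQ := le_normalizer.trans (CfsgLib.LocalEven.normalizer_le_normalizer_pCoreOf (p := p) F)
    have hFW := le_normalizer.trans (normalizer_le_bW (p := p) F)
    rcases hirr (pCoreOf p F ⊓ pCoreOf p E ⊔ bW p F) le_sup_right (sup_le inf_le_left (bW_le F))
        ((le_inf ((le_inf hFQ (hFE.trans (CfsgLib.LocalEven.normalizer_le_normalizer_pCoreOf E))).trans inf_normalizer_le_normalizer_inf) hFW).trans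
          CfsgLib.LocalEven.BlockCent.sup_normalizer) with h | h
    swap
    · have hn : pCoreOf p F ⊓ pCoreOf p E ≤ normalizer (bW p F : Set G) := inf_le_left.trans (core_le_normalizer_bW F)
      have hQW : ∀ {q w}, q ∈ pCoreOf p F → w ∈ bW p F → q * w * q⁻¹ = w := fun hq hw => by
        rw [core_commutes_bW hq hw, mul_inv_cancel_right]
      have hZF : bZ p F ≤ pCoreOf p E := hcom.ge.trans (commutator_le.2 fun a ha b hb => by
        obtain ⟨a1, ha1, w, hw, rfl⟩ := (CfsgLib.Core.mem_sup_iff_mul hn).1 (h.ge ha)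
        obtain ⟨b1, hb1, v, hv, rfl⟩ := (CfsgLib.Core.mem_sup_iff_mul hn).1 (h.ge hb)
        have c1 := hQW (mul_mem hb1.1 (bW_le F hv)) hw
        have c2 := hQW ha1.1 hv
        have c3 : w * (b1 * v) * w⁻¹ = b1 * v := by
          rw [← core_commutes_bW (mul_mem hb1.1 (bW_le F hv)) hw, mul_inv_cancel_right]
        rw [show ⁅a1 * w, b1 * v⁆ = ⁅a1, b1⁆ by
          rw [commutatorElement_def, show a1 * w * (b1 * v) * (a1 * w)⁻¹ * (b1 * v)⁻¹ = a1 * (w * (b1 * v) * w⁻¹) * a1⁻¹ * (b1 * v)⁻¹ by group,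
            c3, show a1 * (b1 * v) * a1⁻¹ * (b1 * v)⁻¹ = a1 * b1 * a1⁻¹ * (a1 * v * a1⁻¹) * v⁻¹ * b1⁻¹ by group, c2,
            commutatorElement_def]
          group, commutatorElement_def]
        exact mul_mem (mul_mem (mul_mem ha1.2 hb1.2) (inv_mem ha1.2)) (inv_mem hb1.2))
      have hQle : pCoreOf p F ≤ pCoreOf p E := h.ge.trans (sup_le inf_le_right
        ((W_eq_sup hF).le.trans (sup_le (hWF.trans (hYM.trans (bM_le_bW.trans (bW_le E)))) hZF)))
      exact mem_secKer.2 ⟨hR x, hxQ, fun m hm => hQle (mem_inf.1 (hQF m hm x hx)).1⟩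
    -- otherwise the block is abelian modulo its core
    exfalso
    have hWR : bW p F ⊓ pCore p G ≤ bW p F := inf_le_left
    have hsupR : pCoreOf p F ⊓ pCore p G ⊔ bW p F = pCoreOf p F :=
      (hirr _ le_sup_right (sup_le inf_le_left (bW_le F))
        ((le_inf ((le_inf hFQ (fun g _ => hR g)).trans inf_normalizer_le_normalizer_inf) hFW).trans
          CfsgLib.LocalEven.BlockCent.sup_normalizer)).resolve_left fun h' => hmeet (le_sup_left.trans h'.le)
    -- every `p'`-element acts on the section as an element centralising the module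
    have hact : ∀ f ∈ F, ∃ k, k ∈ nKer p F ∧ k⁻¹ * f ∈ secKer (pCoreOf p F) (bW p F) := by
      intro f hf
      have hf' := hFK hf
      rw [sup_comm] at hf'
      obtain ⟨k, hk, e, he, hke⟩ := (CfsgLib.Core.mem_sup_iff_mul hKE).1 hf'
      have hkM := nKer_le_centralizer hET hk.1
      have hkF : k ∈ normalizer (F : Set G) := hCN hkM
      have heF : e ∈ normalizer (F : Set G) := by
        rw [show e = k⁻¹ * f by rw [hke, inv_mul_cancel_left]]
        exact mul_mem (inv_mem hkF) (le_normalizer hf)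
      refine ⟨k, centralizer_le_nKer hF (mem_inf.2 ⟨hkF, hCF hkM⟩), ?_⟩
      rw [hke, inv_mul_cancel_left]
      refine mem_secKer.2 ⟨CfsgLib.LocalEven.normalizer_le_normalizer_pCoreOf F heF, normalizer_le_bW F heF, fun u hu => ?_⟩
      rw [← hsupR, CfsgLib.Core.mem_sup_iff_mul (inf_le_left.trans (core_le_normalizer_bW F))] at hu
      obtain ⟨r, hr, w, hw, rfl⟩ := hu
      have h1 : e * r * e⁻¹ * r⁻¹ ∈ bW p F := by
        have h2 : e * r * e⁻¹ * r⁻¹ ∈ pCoreOf p F ⊓ pCoreOf p E := by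
          refine mem_inf.2 ⟨mul_mem ((mem_normalizer_iff.1 (CfsgLib.LocalEven.normalizer_le_normalizer_pCoreOf F heF) r).1 hr.1) (inv_mem hr.1), ?_⟩
          exact (mem_secKer.1 (sub_secKer_R hE he)).2.2 r hr.2
        exact (le_sup_left.trans h.le) h2
      have h3 : e * w * e⁻¹ ∈ bW p F := (mem_normalizer_iff.1 (normalizer_le_bW F heF) w).1 hw
      rw [show e * (r * w) * e⁻¹ * (r * w)⁻¹ = (e * r * e⁻¹ * r⁻¹) * (r * ((e * w * e⁻¹) * w⁻¹) * r⁻¹) by group,
        core_commutes_bW hr.1 (mul_mem h3 (inv_mem hw)), mul_inv_cancel_right]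
      exact mul_mem h1 (mul_mem h3 (inv_mem hw))
    have hab : ⁅F, F⁆ ≤ pCoreOf p F := by
      refine commutator_le.2 fun a ha b hb => hker (mem_inf.2 ⟨?_, ?_⟩)
      · rw [commutatorElement_def]; exact mul_mem (mul_mem (mul_mem ha hb) (inv_mem ha)) (inv_mem hb)
      obtain ⟨k, hk, hka⟩ := hact a ha
      have hkb : ⁅k, b⁆ ∈ secKer (pCoreOf p F) (bW p F) := core_le_secKer_QW hF (comm_nKer hF hk hb)
      have hbF : b ∈ normalizer (F : Set G) := le_normalizer hb
      have hkN := hk.1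
      rw [show ⁅a, b⁆ = k * ((k⁻¹ * a) * (b * (k⁻¹ * a)⁻¹ * b⁻¹)) * k⁻¹ * ⁅k, b⁆ by
        rw [commutatorElement_def, commutatorElement_def]; group]
      refine mul_mem (conj_mem_secKer (CfsgLib.LocalEven.normalizer_le_normalizer_pCoreOf F hkN) (normalizer_le_bW F hkN) ?_) hkb
      exact mul_mem hka (conj_mem_secKer (CfsgLib.LocalEven.normalizer_le_normalizer_pCoreOf F hbF) (normalizer_le_bW F hbF) (inv_mem hka))
    rcases block_types hF with hq | hs
    · exact block_core_ne hF (le_antisymm (pCoreOf_le F) ((block_perfect_of_qs hF hq).ge.trans hab))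
    · subst h3
      obtain ⟨hW', -⟩ := small_three_data (T := (T : Subgroup G)) hs rfl
      obtain ⟨a, ha, b, hb, hinv, -⟩ := quat_exists hW'
      exact not_inv_and_ker (bW_pGroup F) (bW_le_normalizer_bZ F) hW' hinv
        (core_le_secKer_WZ F (hab (commutator_mem_commutator ha hb)))
  -- a `p`-group normalised by `E` and `B(T)`
  obtain ⟨KK, hKK⟩ : ∃ KK, KK = qKer p E ⊓ secKer (pCore p G) (pCoreOf p E) := ⟨_, rfl⟩
  have hKKn : ∀ g ∈ normalizer (E : Set G), g ∈ normalizer (KK : Set G) := fun g hg =>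
    CfsgLib.LocalEvenB.mem_normalizer_of_forall fun z hz => by
      rw [hKK] at hz ⊢
      exact mem_inf.2 ⟨(mem_normalizer_iff.1 (qKer_normalized E hg) z).1 hz.1,
        conj_mem_secKer (hR g) (CfsgLib.LocalEven.normalizer_le_normalizer_pCoreOf E hg) hz.2⟩
  have hKKp : IsPGroup p KK := fun ⟨z, hz⟩ => by
    obtain ⟨a, ha⟩ := CfsgLib.Transfer.exists_pow_prime_pow_coprime (p := p) z
    refine ⟨a, Subtype.ext ?_⟩
    rw [SubgroupClass.coe_pow, OneMemClass.coe_one]
    have hy := pow_mem hz (p ^ a)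
    rw [hKK] at hy
    have h1 := coprime_stab (C := bW p E) hRp hQER (core_le_normalizer_bW E) ha hy.2 hy.1.2
    have h2 := coprime_stab (C := ⊥) hRp hbWE
      (fun z _ => mem_normalizer_iff.2 fun h => by simp [mem_bot, conj_eq_one_iff]) ha h1
      (mem_secKer_bot (centralizes_bW T hET hy.1))
    obtain ⟨j, hj⟩ := IsPGroup.iff_orderOf.1 hRp ⟨_, hG (secKer_bot_le_centralizer _ h2)⟩
    rw [Subgroup.orderOf_mk] at hj
    rw [← orderOf_eq_one_iff]
    exact Nat.eq_one_of_dvd_coprimes (ha.pow_right j) dvd_rfl hj.dvd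
  refine block_le_of_coprime hF fun x hx hxc => ?_
  have hx' := hFK hx
  rw [sup_comm] at hx'
  obtain ⟨k, hk, e, he, hke⟩ := (CfsgLib.Core.mem_sup_iff_mul hKE).1 hx'
  have hkKK : k ∈ KK := by
    rw [hKK]
    refine mem_inf.2 ⟨hk, ?_⟩
    rw [show k = x * e⁻¹ by rw [hke, mul_inv_cancel_right]]
    exact mul_mem (hFR x hx hxc) (inv_mem (sub_secKer_R hE he))
  refine mem_of_coprime_sup hKKp ((hKK ▸ inf_le_left : KK ≤ qKer p E).trans hKE) ?_ hxc
  rw [hke]
  exact mul_mem (mem_sup_right hkKK) (mem_sup_left he)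

end CfsgLib.LocalEven.SubBlock
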