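import Cfsg.Agent.Lib.LocalEven.SubBlock.Facts

/-!
# Counting an offender on a section of exponent two with a single fixed point
-/

set_option autoImplicit false
set_option linter.all false

namespace CfsgLib.LocalEven.SubBlock

open Subgroup
open CfsgLib.LocalEvenB
open CfsgLib.LocalEvenB.SubBlocks
open scoped commutatorElement

variable {G : Type*} [Group G] [Finite G]

/-- A subgroup normalised by a `2`-group with a single fixed involution `u` contains `u`. -/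
theorem fixed_mem_of_ne_bot {A X D : Subgroup G} (hA : IsPGroup 2 A) (hX : IsPGroup 2 X) (hDX : D ≤ X)
    (hAD : A ≤ normalizer (D : Set G)) (hc : Nat.card ↥(X ⊓ centralizer (A : Set G)) = 2) (hD : D ≠ ⊥)
    {u : G} (hu : u ∈ X ⊓ centralizer (A : Set G)) : u ∈ D := by
  haveI : Fact (Nat.Prime 2) := ⟨Nat.prime_two⟩
  have hne := exists_fixed hA (hX.to_le hDX) hAD hD
  have hle : D ⊓ centralizer (A : Set G) ≤ X ⊓ centralizer (A : Set G) := inf_le_inf_right _ hDX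
  have heq : D ⊓ centralizer (A : Set G) = X ⊓ centralizer (A : Set G) := by
    refine eq_of_le_of_card_ge hle ?_
    rw [hc]
    exact (Subgroup.one_lt_card_iff_ne_bot _).2 hne
  exact (mem_inf.1 (heq.ge hu)).1

/-- A `2`-group acting on a group of exponent two with a single fixed point is small. -/
theorem index_two_mul_le {A X : Subgroup G} (hA : IsPGroup 2 A) (hAc : ∀ a ∈ A, ∀ b ∈ A, a * b = b * a)
    (hX : ∀ a ∈ X, ∀ b ∈ X, a * b = b * a) (h2 : ∀ a ∈ X, a ^ 2 = 1) (hAX : A ≤ normalizer (X : Set G))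
    (hc : Nat.card ↥(X ⊓ centralizer (A : Set G)) = 2) :
    2 * Nat.card A ≤ Nat.card X * Nat.card ↥(A ⊓ centralizer (X : Set G)) := by
  classical
  have hXp : IsPGroup 2 X := fun x => ⟨1, Subtype.ext (by rw [pow_one]; exact h2 x x.2)⟩
  obtain ⟨u, hu, hu1⟩ := (Subgroup.bot_or_exists_ne_one (X ⊓ centralizer (A : Set G))).resolve_left fun h => by
    rw [h, Subgroup.card_bot] at hc; omega
  obtain ⟨χ, -, hχ⟩ := exists_char hX h2 bot_le hu.1 (fun h => hu1 (mem_bot.1 h))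
  obtain ⟨P, hP⟩ : ∃ P, P = A ⊓ centralizer (X : Set G) := ⟨_, rfl⟩
  let cj : ↥A → ↥X →* ↥X := fun a => (X.normalizerMonoidHom ⟨a, hAX a.2⟩).toMonoidHom
  have hcj : ∀ a x, (cj a x : G) = a * x * (a : G)⁻¹ := fun a x => rfl
  have hfix : ∀ a, cj a ⟨u, hu.1⟩ = ⟨u, hu.1⟩ := fun a => Subtype.ext (by
    rw [hcj]; show (a : G) * u * (a : G)⁻¹ = u
    rw [mem_centralizer_iff.1 hu.2 a a.2, mul_inv_cancel_right])
  -- characters determine the action
  have hinj : ∀ a b : ↥A, χ.comp (cj a) = χ.comp (cj b) → (a : G)⁻¹ * b ∈ P := by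
    intro a b h
    obtain ⟨c, hc'⟩ : ∃ c : ↥A, c = a⁻¹ * b := ⟨_, rfl⟩
    have hχc : ∀ x, χ (cj c x) = χ x := by
      intro x
      have h1 := DFunLike.congr_fun h (cj a⁻¹ x)
      simp only [MonoidHom.comp_apply] at h1
      have e1 : cj a (cj a⁻¹ x) = x := Subtype.ext (by simp only [hcj, Subgroup.coe_inv]; group)
      have e2 : cj b (cj a⁻¹ x) = cj c x := Subtype.ext (by
        simp only [hcj, hc', Subgroup.coe_inv, Subgroup.coe_mul]
        rw [hAc _ (inv_mem a.2) _ b.2]; group)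
      rw [← e2, ← h1, e1]
    have hn : (c : G) ∈ normalizer (X : Set G) := hAX c.2
    let D : Subgroup G :=
      { carrier := {y | ∃ x ∈ X, y = (c : G) * x * (c : G)⁻¹ * x⁻¹}
        one_mem' := ⟨1, one_mem _, by group⟩
        mul_mem' := by
          rintro _ _ ⟨x, hx, rfl⟩ ⟨y, hy, rfl⟩
          refine ⟨x * y, mul_mem hx hy, ?_⟩
          have h1 := (mem_normalizer_iff.1 hn y).1 hy
          rw [show (c : G) * (x * y) * (c : G)⁻¹ * (x * y)⁻¹ = (c * x * (c : G)⁻¹) * ((c * y * (c : G)⁻¹ * y⁻¹) * x⁻¹) by group,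
            hX _ (mul_mem h1 (inv_mem hy)) _ (inv_mem hx)]
          group
        inv_mem' := by
          rintro _ ⟨x, hx, rfl⟩
          refine ⟨x⁻¹, inv_mem hx, ?_⟩
          have h1 := (mem_normalizer_iff.1 hn x).1 hx
          rw [show ((c : G) * x * (c : G)⁻¹ * x⁻¹)⁻¹ = x * ((c : G) * x * (c : G)⁻¹)⁻¹ by group,
            hX _ hx _ (inv_mem h1)]
          group }
    have hDX : D ≤ X := by
      rintro _ ⟨x, hx, rfl⟩
      exact mul_mem ((mem_normalizer_iff.1 hn x).1 hx) (inv_mem hx)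
    have hAD : A ≤ normalizer (D : Set G) := fun d hd => mem_normalizer_of_forall (by
      rintro _ ⟨x, hx, rfl⟩
      refine ⟨d * x * d⁻¹, (mem_normalizer_iff.1 (hAX hd) x).1 hx, ?_⟩
      rw [show (c : G) * (d * x * d⁻¹) * (c : G)⁻¹ * (d * x * d⁻¹)⁻¹ =
        ((c : G) * d) * x * ((c : G) * d)⁻¹ * d * x⁻¹ * d⁻¹ by group, hAc _ c.2 _ hd]
      group)
    rw [hP]
    refine mem_inf.2 ⟨mul_mem (inv_mem a.2) b.2, ?_⟩
    by_cases hD : D = ⊥
    · refine mem_centralizer_iff.2 fun x hx => ?_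
      have h1 : (c : G) * x * (c : G)⁻¹ * x⁻¹ ∈ D := ⟨x, hx, rfl⟩
      rw [hD, mem_bot, mul_inv_eq_one, mul_inv_eq_iff_eq_mul, hc', Subgroup.coe_mul, Subgroup.coe_inv] at h1
      exact h1.symm
    · exfalso
      obtain ⟨x, hx, hxu⟩ := fixed_mem_of_ne_bot hA hXp hDX hAD hc hD hu
      refine hχ ?_
      rw [show (⟨u, hu.1⟩ : ↥X) = cj c ⟨x, hx⟩ * (⟨x, hx⟩ : ↥X)⁻¹ from
        Subtype.ext (by rw [Subgroup.coe_mul, hcj, Subgroup.coe_inv]; exact hxu), map_mul, map_inv, hχc, mul_inv_cancel]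
  let f : (↥A ⧸ P.subgroupOf A) × Bool → {ξ : ↥X →* Multiplicative (ZMod 2) // ∀ z : ↥X, (z : G) ∈ (⊥ : Subgroup G) → ξ z = 1} :=
    fun q => ⟨bif q.2 then χ.comp (cj q.1.out) else χ.comp (cj q.1.out) * χ, fun z hz => by
      rw [show z = 1 from Subtype.ext (mem_bot.1 hz), map_one]⟩
  have hsq : ∀ x : Multiplicative (ZMod 2), x * x = 1 := by decide
  have hfinj : Function.Injective f := by
    rintro ⟨q, e⟩ ⟨q', e'⟩ h
    have h' := congrArg Subtype.val h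
    simp only [f] at h'
    have he : e = e' := by
      have h1 := DFunLike.congr_fun h' ⟨u, hu.1⟩
      cases e <;> cases e' <;> first
        | rfl
        | (simp only [cond_true, cond_false, MonoidHom.mul_apply, MonoidHom.comp_apply, hfix, hsq] at h1
           first | exact absurd h1 hχ | exact absurd h1.symm hχ)
    subst he
    have h2 : χ.comp (cj q.out) = χ.comp (cj q'.out) := by
      cases e
      · exact mul_right_cancel h'
      · exact h'
    rw [← q.out_eq, ← q'.out_eq]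
    simp only [Prod.mk.injEq, and_true]
    exact Quotient.sound (QuotientGroup.leftRel_apply.2 (mem_subgroupOf.2 (hinj _ _ h2)))
  haveI : Finite (↥X →* Multiplicative (ZMod 2)) := Finite.of_injective (fun φ => (φ : ↥X → Multiplicative (ZMod 2))) DFunLike.coe_injective
  have h1 := (Nat.card_le_card_of_injective f hfinj).trans (card_char_le hX h2)
  rw [Nat.card_prod, relIndex_bot_left, Nat.card_eq_fintype_card (α := Bool), Fintype.card_bool] at h1
  rw [← hP, ← (P.subgroupOf A).card_mul_index, Nat.card_congr (subgroupOfEquivOfLe (hP ▸ inf_le_left)).toEquiv,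
    Subgroup.index_eq_card]
  calc 2 * (Nat.card P * Nat.card (↥A ⧸ P.subgroupOf A)) = Nat.card P * (Nat.card (↥A ⧸ P.subgroupOf A) * 2) := by ring
    _ ≤ Nat.card P * Nat.card X := Nat.mul_le_mul_left _ h1
    _ = Nat.card X * Nat.card P := mul_comm _ _

/-- The kernel on `X` acts on `W` as characters vanishing on `X Z`. -/
theorem kernel_index_le {A W X Z : Subgroup G} (hA : IsPGroup 2 A) (hAc : ∀ a ∈ A, ∀ b ∈ A, a * b = b * a)
    (hW : ∀ a ∈ W, ∀ b ∈ W, a * b = b * a) (h2 : ∀ a ∈ W, a ^ 2 = 1) (hXW : X ≤ W) (hZW : Z ≤ W)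
    (hXZ : X ⊓ Z = ⊥) (hAW : A ≤ normalizer (W : Set G)) (hAX : A ≤ normalizer (X : Set G))
    (hAZ : A ≤ normalizer (Z : Set G)) (hc : Nat.card ↥(X ⊓ centralizer (A : Set G)) = 2)
    (hker : ∀ a ∈ A, a ∈ centralizer (X : Set G) → ∀ w ∈ W, a * w * a⁻¹ * w⁻¹ ∈ X ⊔ Z) :
    Nat.card ↥(A ⊓ centralizer (X : Set G)) ≤
      (X ⊔ Z).relIndex W * Nat.card ↥(A ⊓ secKer W Z) := by
  classical
  have hXp : IsPGroup 2 X := fun x => ⟨1, Subtype.ext (by rw [pow_one]; exact h2 x (hXW x.2))⟩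
  obtain ⟨u, hu, hu1⟩ := (Subgroup.bot_or_exists_ne_one (X ⊓ centralizer (A : Set G))).resolve_left fun h => by
    rw [h, Subgroup.card_bot] at hc; omega
  obtain ⟨χ, hχZ, hχ⟩ := exists_char hW h2 hZW (hXW hu.1) (fun h => hu1 (by
    have h1 : u ∈ X ⊓ Z := mem_inf.2 ⟨hu.1, h⟩
    rwa [hXZ, mem_bot] at h1))
  obtain ⟨P, hP⟩ : ∃ P, P = A ⊓ centralizer (X : Set G) := ⟨_, rfl⟩
  obtain ⟨K, hK⟩ : ∃ K, K = A ⊓ secKer W Z := ⟨_, rfl⟩
  have hPA : P ≤ A := hP ▸ inf_le_left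
  have hXnZ : X ≤ normalizer (Z : Set G) := fun x hx => centralizer_le_normalizer _
    (mem_centralizer_iff.2 fun z hz => hW z (hZW hz) x (hXW hx))
  have hmemW : ∀ a ∈ A, ∀ w ∈ W, a * w * a⁻¹ * w⁻¹ ∈ W := fun a ha w hw =>
    mul_mem ((mem_normalizer_iff.1 (hAW ha) w).1 hw) (inv_mem hw)
  let η : ↥P → {ξ : ↥W →* Multiplicative (ZMod 2) // ∀ z : ↥W, (z : G) ∈ X ⊔ Z → ξ z = 1} := fun a =>
    ⟨MonoidHom.mk' (fun w => χ ⟨(a : G) * w * (a : G)⁻¹ * (w : G)⁻¹, hmemW a (hPA a.2) w w.2⟩) (fun v w => by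
        rw [← map_mul]
        congr 1
        apply Subtype.ext
        simp only [Subgroup.coe_mul]
        rw [show (a : G) * (v * w) * (a : G)⁻¹ * ((v : G) * w)⁻¹ =
          (a * v * (a : G)⁻¹) * ((a * w * (a : G)⁻¹ * (w : G)⁻¹) * (v : G)⁻¹) by group,
          hW _ (hmemW a (hPA a.2) w w.2) _ (inv_mem v.2), ← mul_assoc]),
    fun z hz => by
      obtain ⟨x, hx, y, hy, hxy⟩ := (CfsgLib.Core.mem_sup_iff_mul hXnZ).1 hz
      have hax : (a : G) * x * (a : G)⁻¹ = x := by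
        rw [← mem_centralizer_iff.1 (hP ▸ a.2 : (a : G) ∈ A ⊓ centralizer (X : Set G)).2 x hx, mul_inv_cancel_right]
      refine hχZ _ ?_
      show (a : G) * z * (a : G)⁻¹ * (z : G)⁻¹ ∈ Z
      have hd := mul_mem ((mem_normalizer_iff.1 (hAZ (hPA a.2)) y).1 hy) (inv_mem hy)
      rw [hxy, show (a : G) * (x * y) * (a : G)⁻¹ * (x * y)⁻¹ = (a * x * (a : G)⁻¹) * (a * y * (a : G)⁻¹ * y⁻¹) * x⁻¹ by group,
        hax, hW x (hXW hx) _ (hZW hd), mul_inv_cancel_right]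
      exact hd⟩
  have hinj : ∀ a b : ↥P, η a = η b → (a : G)⁻¹ * b ∈ K := by
    intro a b h
    obtain ⟨c, hc'⟩ : ∃ c : ↥P, c = a⁻¹ * b := ⟨_, rfl⟩
    have hcP : (c : G) ∈ A ⊓ centralizer (X : Set G) := hP ▸ c.2
    have hcA := hcP.1
    have hχc : ∀ w (hw : w ∈ W), χ ⟨(c : G) * w * (c : G)⁻¹ * w⁻¹, hmemW c hcA w hw⟩ = 1 := by
      intro w hw
      have hbw : (a : G)⁻¹ * w * a ∈ W := by
        simpa using (mem_normalizer_iff.1 (hAW (inv_mem (hPA a.2))) w).1 hw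
      have h1 := DFunLike.congr_fun (congrArg Subtype.val h) ⟨_, hbw⟩
      simp only [η, MonoidHom.mk'_apply] at h1
      rw [← mul_inv_eq_one, ← map_inv, ← map_mul] at h1
      have e : (c : G) * w * (c : G)⁻¹ * w⁻¹ = ((b : G) * ((a : G)⁻¹ * w * a) * (b : G)⁻¹ * ((a : G)⁻¹ * w * a)⁻¹) *
          ((a : G) * ((a : G)⁻¹ * w * a) * (a : G)⁻¹ * ((a : G)⁻¹ * w * a)⁻¹)⁻¹ := by
        rw [hc', Subgroup.coe_mul, Subgroup.coe_inv, hAc _ (inv_mem (hPA a.2)) _ (hPA b.2)]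
        group
      rw [show (⟨(c : G) * w * (c : G)⁻¹ * w⁻¹, hmemW c hcA w hw⟩ : ↥W) =
        (⟨_, hmemW a (hPA a.2) _ hbw⟩ * (⟨_, hmemW b (hPA b.2) _ hbw⟩ : ↥W)⁻¹)⁻¹ from Subtype.ext (e.trans (by
          simp only [Subgroup.coe_mul, Subgroup.coe_inv]; group)), map_inv, h1, inv_one]
    have hn : (c : G) ∈ normalizer (W : Set G) := hAW hcA
    let S : Subgroup G :=
      { carrier := {x | x ∈ X ∧ ∃ w ∈ W, ∃ z ∈ Z, x = (c : G) * w * (c : G)⁻¹ * w⁻¹ * z}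
        one_mem' := ⟨one_mem _, 1, one_mem _, 1, one_mem _, by group⟩
        mul_mem' := by
          rintro x y ⟨hx, v, hv, z, hz, rfl⟩ ⟨hy, w, hw, t, ht, rfl⟩
          refine ⟨mul_mem hx hy, v * w, mul_mem hv hw, z * t, mul_mem hz ht, ?_⟩
          have h1 := hmemW c hcA v hv
          have h2 := hmemW c hcA w hw
          rw [show (c : G) * (v * w) * (c : G)⁻¹ * (v * w)⁻¹ = (c * v * (c : G)⁻¹) * ((c * w * (c : G)⁻¹ * w⁻¹) * v⁻¹) by group,
            hW _ h2 _ (inv_mem hv), ← mul_assoc (c * v * (c : G)⁻¹), mul_assoc _ z, ← mul_assoc z,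
            hW z (hZW hz) _ h2]
          simp only [mul_assoc]
        inv_mem' := by
          rintro x ⟨hx, v, hv, z, hz, rfl⟩
          refine ⟨inv_mem hx, v⁻¹, inv_mem hv, z⁻¹, inv_mem hz, ?_⟩
          have h1 := (mem_normalizer_iff.1 hn v).1 hv
          rw [mul_inv_rev, hW _ (inv_mem (hZW hz)) _ (inv_mem (hmemW c hcA v hv)),
            show ((c : G) * v * (c : G)⁻¹ * v⁻¹)⁻¹ = v * ((c : G) * v * (c : G)⁻¹)⁻¹ by group, hW _ hv _ (inv_mem h1)]
          group }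
    have hAS : A ≤ normalizer (S : Set G) := fun d hd => mem_normalizer_of_forall (by
      rintro x ⟨hx, v, hv, z, hz, rfl⟩
      refine ⟨(mem_normalizer_iff.1 (hAX hd) _).1 hx, d * v * d⁻¹, (mem_normalizer_iff.1 (hAW hd) v).1 hv,
        d * z * d⁻¹, (mem_normalizer_iff.1 (hAZ hd) z).1 hz, ?_⟩
      rw [show (c : G) * (d * v * d⁻¹) * (c : G)⁻¹ * (d * v * d⁻¹)⁻¹ * (d * z * d⁻¹) =
        ((c : G) * d) * v * ((c : G) * d)⁻¹ * d * v⁻¹ * z * d⁻¹ by group, hAc _ hcA _ hd]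
      group)
    rw [hK]
    refine mem_inf.2 ⟨mul_mem (inv_mem (hPA a.2)) (hPA b.2), ?_⟩
    by_cases hS : S = ⊥
    · rw [show (a : G)⁻¹ * b = (c : G) by rw [hc']; rfl]
      refine mem_secKer.2 ⟨hn, hAZ hcA, fun w hw => ?_⟩
      obtain ⟨x, hx, z, hz, hxz⟩ := (CfsgLib.Core.mem_sup_iff_mul hXnZ).1 (hker c hcA hcP.2 w hw)
      have h1 : x ∈ S := ⟨hx, w, hw, z⁻¹, inv_mem hz, by rw [hxz, mul_inv_cancel_right]⟩
      rw [hS, mem_bot] at h1
      rw [hxz, h1, one_mul]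
      exact hz
    · exfalso
      have hu' : u ∈ S := fixed_mem_of_ne_bot hA hXp (show S ≤ X from fun x hx => hx.1) hAS hc hS hu
      obtain ⟨-, w, hw, z, hz, huz⟩ := hu'
      refine hχ ?_
      rw [show (⟨u, hXW hu.1⟩ : ↥W) = ⟨_, hmemW c hcA w hw⟩ * ⟨z, hZW hz⟩ from Subtype.ext huz,
        map_mul, hχc w hw, hχZ _ hz, one_mul]
  have hfinj : Function.Injective fun q : ↥P ⧸ K.subgroupOf P => η q.out := by
    intro q q' h
    rw [← q.out_eq, ← q'.out_eq]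
    exact Quotient.sound (QuotientGroup.leftRel_apply.2 (mem_subgroupOf.2 (hinj _ _ h)))
  haveI : Finite (↥W →* Multiplicative (ZMod 2)) := Finite.of_injective (fun φ => (φ : ↥W → Multiplicative (ZMod 2))) DFunLike.coe_injective
  have h1 := (Nat.card_le_card_of_injective _ hfinj).trans (card_char_le hW h2)
  rw [← hP, ← hK, ← (K.subgroupOf P).card_mul_index, Subgroup.index_eq_card, mul_comm]
  refine Nat.mul_le_mul h1 (Nat.card_le_card_of_injective (fun x => (⟨(x.1 : G), mem_subgroupOf.1 x.2⟩ : ↥K)) ?_)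
  intro x y hxy
  exact Subtype.ext (Subtype.ext (congrArg Subtype.val hxy :))

end CfsgLib.LocalEven.SubBlock
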