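import Cfsg.Agent.Lib.LocalEven.SubBlock.Orbit
import Cfsg.Agent.Lib.LocalEven.SubBlock.Offender

/-!
# The Baumann subgroups normalise subnormal blocks
-/

set_option autoImplicit false
set_option linter.all false

namespace CfsgLib.LocalEven.SubBlock

open Subgroup Cfsg
open CfsgLib.LocalEvenB
open CfsgLib.LocalEvenB.SubBlocks
open scoped commutatorElement

variable {G : Type*} [Group G] [Finite G] {p : ℕ} [hp : Fact p.Prime]

omit hp in
theorem pow_le_mul {c m : ℕ} (hc : 2 ≤ c) (hm : 2 ≤ m) (h : c ^ m ≤ m * c) : c = 2 ∧ m = 2 := by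
  obtain ⟨j, rfl⟩ : ∃ j, m = j + 2 := ⟨m - 2, by omega⟩
  rcases j with _ | j
  · refine ⟨?_, rfl⟩
    have h1 : c * c ≤ 2 * c := by rw [← pow_two]; exact h
    have := Nat.le_of_mul_le_mul_right h1 (by omega)
    omega
  · exfalso
    have h1 : c ^ (j + 1 + 1) ≤ j + 1 + 2 := Nat.le_of_mul_le_mul_right (by rw [← pow_succ]; exact h) (by omega)
    have h2 : 2 ^ (j + 1 + 1) ≤ c ^ (j + 1 + 1) := Nat.pow_le_pow_left hc _
    have h3 : ∀ k : ℕ, k + 3 < 2 ^ (k + 2) := fun k => by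
      induction k with
      | zero => norm_num
      | succ k ih => rw [pow_succ]; omega
    have := h3 j
    rw [show j + 2 = j + 1 + 1 by omega] at this
    omega

/-- A largest elementary abelian subgroup normalises a subnormal block. -/
theorem maxElem_le_normalizer (hG : centralizer (pCore p G : Set G) ≤ pCore p G) {D : Subgroup G}
    (hD : IsSubBlock p D) (T : Sylow p G)
    (hX : HasFixed p D ((T : Subgroup G) ⊓ normalizer (D : Set G))) {A : Subgroup G}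
    (hA : CfsgLib.Transfer.MaxElem p (T : Subgroup G) A) : A ≤ normalizer (D : Set G) := by
  classical
  by_contra hcon
  obtain ⟨⟨TD, hTD⟩, -⟩ := id hD
  haveI : (pCore p G).Normal := CfsgLib.Core.normal_pCore p G
  obtain ⟨X, hXM, hPX, hXc, hXne, hX2⟩ := hX
  obtain ⟨hA_T, hAel, hAmax⟩ := hA
  haveI := hAel.1
  have hAc : ∀ a ∈ A, ∀ b ∈ A, a * b = b * a := fun a ha b hb =>
    congrArg Subtype.val (IsMulCommutative.is_comm.comm (⟨a, ha⟩ : A) ⟨b, hb⟩)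
  have hAp : IsPGroup p A := T.2.to_le hA_T
  obtain ⟨V, hV⟩ : ∃ V, V = omegaOneCenter p (pCore p G) := ⟨_, rfl⟩
  have hVT : V ≤ (T : Subgroup G) := hV ▸ V_le_R.trans (CfsgLib.Core.pCore_le_sylow T)
  have hVel : ∀ Y : Subgroup G, Y ≤ V → IsElementaryAbelian p Y := fun Y hY =>
    ⟨⟨⟨fun a b => Subtype.ext (omegaOneCenter_comm (hV ▸ hY a.2) (hV ▸ hY b.2))⟩⟩,
      fun a ha => omegaOneCenter_pow (hV ▸ hY ha)⟩
  have hMV : bM p D ≤ V := hV ▸ bM_le_V hG TD hTD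
  obtain ⟨A0, hA0⟩ : ∃ A0, A0 = A ⊓ normalizer (D : Set G) := ⟨_, rfl⟩
  have hA0A : A0 ≤ A := hA0 ▸ inf_le_left
  have hA0N : A0 ≤ normalizer (D : Set G) := hA0 ▸ inf_le_right
  have hA0X : A0 ≤ normalizer (X : Set G) := fun a ha => hPX (mem_inf.2 ⟨hA_T (hA0A ha), hA0N ha⟩)
  have hA0el : IsElementaryAbelian p A0 :=
    ⟨⟨⟨fun a b => Subtype.ext (hAc a (hA0A a.2) b (hA0A b.2))⟩⟩, fun a ha => hAel.2 a (hA0A ha)⟩
  have hA0p : IsPGroup p A0 := hAp.to_le hA0A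
  obtain ⟨m, hm⟩ : ∃ m, m = (normalizer (D : Set G)).relIndex A := ⟨_, rfl⟩
  have hcardA : Nat.card A0 * m = Nat.card A := by
    rw [hm, hA0, inf_comm A, ← inf_relIndex_right (normalizer (D : Set G)) A, ← relIndex_bot_left (normalizer (D : Set G) ⊓ A),
      relIndex_mul_relIndex ⊥ _ A bot_le inf_le_right,
      relIndex_bot_left]
  have hm2 : 2 ≤ m := by
    have h1 : m ≠ 1 := fun h => hcon (relIndex_eq_one.1 (hm ▸ h))
    have h0 : m ≠ 0 := fun h => by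
      rw [h, mul_zero] at hcardA
      exact Nat.card_pos.ne' hcardA.symm
    omega
  -- the fixed points of `N_A(D)`
  obtain ⟨X', hX'⟩ : ∃ X', X' = X ⊓ centralizer (A0 : Set G) := ⟨_, rfl⟩
  have hX'ne : X' ≠ ⊥ := hX' ▸ exists_fixed hA0p ((bW_pGroup D).to_le (hXM.trans bM_le_bW)) hA0X hXne
  have hX'p : 2 ≤ Nat.card X' := by
    have := (Subgroup.one_lt_card_iff_ne_bot _).2 hX'ne
    omega
  have hX'conj : A ⊓ normalizer (D : Set G) ≤ normalizer (X' : Set G) := fun a ha =>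
    centralizer_le_normalizer _ (mem_centralizer_iff.2 fun x hx => ((mem_centralizer_iff.1
      (hX' ▸ hx : x ∈ X ⊓ centralizer (A0 : Set G)).2 a (hA0 ▸ ha)).symm))
  have hX'c : X' ⊓ centralizer (D : Set G) = ⊥ :=
    eq_bot_iff.2 ((inf_le_inf_right _ (hX' ▸ inf_le_left)).trans hXc.le)
  obtain ⟨U', hU'c, hU'V, -, hU'X, -, hU'min, hU'ind⟩ :=
    orbit_data hG hD ((hX' ▸ inf_le_left : X' ≤ X).trans hXM) hX'c A hX'conj
  rw [← hm] at hU'c
  have hU'A0 : U' ≤ centralizer (A0 : Set G) := hU'min _ fun a ha => by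
    rintro _ ⟨x, hx, rfl⟩
    refine mem_centralizer_iff.2 fun b hb => ?_
    show b * (a * x * a⁻¹) = a * x * a⁻¹ * b
    have h1 := mem_centralizer_iff.1 (hX' ▸ hx : x ∈ X ⊓ centralizer (A0 : Set G)).2 b hb
    rw [show b * (a * x * a⁻¹) = (b * a) * x * a⁻¹ by group, hAc b (hA0A hb) a ha, mul_assoc a b x, h1]
    rw [show a * (x * b) * a⁻¹ = a * x * (b * a⁻¹) by group, hAc b (hA0A hb) _ (inv_mem ha)]
    group
  have hFix : Nat.card ↥(U' ⊓ centralizer (A : Set G)) ≤ Nat.card X' := by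
    have hn : ∀ Y Y' : Subgroup G, Y ≤ U' → Y' ≤ U' → Y ≤ normalizer (Y' : Set G) := fun Y Y' h h' =>
      le_normalizer_of_comm (fun a ha b hb => omegaOneCenter_comm ha hb) (h.trans hU'V) (h'.trans hU'V)
    have hd : U' ⊓ centralizer (A : Set G) ⊓ (U' ⊓ centralizer (D : Set G)) = ⊥ :=
      eq_bot_iff.2 fun y hy => mem_bot.2 (hU'ind y hy.1.1 hy.1.2 hy.2.2)
    have h1 := CfsgLib.Core.card_sup_of_disjoint _ _ (hn _ _ inf_le_left inf_le_left) hd
    have h2 := Subgroup.card_le_of_le (sup_le inf_le_left inf_le_left :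
      U' ⊓ centralizer (A : Set G) ⊔ (U' ⊓ centralizer (D : Set G)) ≤ U')
    rw [h1] at h2
    have h3 := Subgroup.card_le_of_le hU'X
    have hX'U : X' ≤ U' ⊔ X' := le_sup_right
    have h4 := CfsgLib.Core.card_sup_mul_card_inf X' (U' ⊓ centralizer (D : Set G))
      (le_normalizer_of_comm (fun a ha b hb => omegaOneCenter_comm ha hb)
        ((hX' ▸ inf_le_left : X' ≤ X).trans (hXM.trans (hV ▸ hMV))) (inf_le_left.trans hU'V))
    exact Nat.le_of_mul_le_mul_right (h2.trans (h3.trans ((Nat.le_mul_of_pos_right _ Nat.card_pos).trans h4.le)))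
      Nat.card_pos
  have hkey : Nat.card X' ^ m ≤ m * Nat.card X' := by
    have hel : IsElementaryAbelian p (U' ⊔ A0 : Subgroup G) :=
      CfsgLib.PLocal.elementary_sup (hVel _ (hV ▸ hU'V)) hA0el hU'A0
    have h1 := hAmax _ (sup_le ((hV ▸ hU'V : U' ≤ V).trans hVT) (hA0A.trans hA_T)) hel
    have h2 := CfsgLib.Core.card_sup_mul_card_inf U' A0 (hU'A0.trans (centralizer_le_normalizer _))
    have h3 : Nat.card ↥(U' ⊓ A0) ≤ Nat.card X' := (Subgroup.card_le_of_le (inf_le_inf_left _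
      fun a ha => mem_centralizer_iff.2 fun b hb => hAc b hb a (hA0A ha))).trans hFix
    rw [← hcardA] at h1
    rw [← hU'c]
    have h4 : Nat.card U' * Nat.card A0 ≤ (Nat.card A0 * m) * Nat.card X' := h2 ▸ Nat.mul_le_mul h1 h3
    exact Nat.le_of_mul_le_mul_right (h4.trans_eq (by ring)) (Nat.card_pos (α := A0))
  obtain ⟨hc2, rfl⟩ := pow_le_mul hX'p hm2 hkey
  have hp2 : p = 2 := by
    obtain ⟨k, hk⟩ := IsPGroup.iff_card.1 (T.2.to_le ((hX' ▸ inf_le_left : X' ≤ X).trans (hXM.trans (hMV.trans hVT))))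
    rw [hc2] at hk
    have hk0 : k ≠ 0 := fun h => by rw [h, pow_zero] at hk; omega
    exact (Nat.prime_dvd_prime_iff_eq hp.out Nat.prime_two).1 (hk ▸ dvd_pow_self p hk0)
  subst hp2
  obtain ⟨hXcard, hXker⟩ := hX2 rfl
  subst hX'
  obtain ⟨a, ha, haD⟩ := SetLike.not_le_iff_exists.1 hcon
  obtain ⟨D1, hD1⟩ : ∃ D1, D1 = D.map (MulAut.conj a).toMonoidHom := ⟨_, rfl⟩
  have hD1ne : D ≠ D1 := fun h => haD (map_conj_eq_self_iff_mem_normalizer.1 (hD1 ▸ h).symm)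
  have hcomm := (sub_blocks_eq_or_commute hG hD (hD1 ▸ isSubBlock_conj hD a)).resolve_left hD1ne
  have hDD1 : D ≤ centralizer (D1 : Set G) := commutator_eq_bot_iff_le_centralizer.1 hcomm
  have hD1D : D1 ≤ centralizer (D : Set G) := le_centralizer_iff.1 hDD1
  have hMle : bM 2 D ≤ D := bM_le_bW.trans ((bW_le D).trans (pCoreOf_le D))
  have hM1le : (bM 2 D).map (MulAut.conj a).toMonoidHom ≤ D1 := hD1 ▸ map_mono hMle
  have hM1V : (bM 2 D).map (MulAut.conj a).toMonoidHom ≤ V := by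
    rw [← bM_conj]
    obtain ⟨⟨T1, hT1⟩, -⟩ := isSubBlock_conj hD a
    exact hV ▸ bM_le_V hG T1 hT1
  have hVn : ∀ Y Y' : Subgroup G, Y ≤ V → Y' ≤ V → Y ≤ normalizer (Y' : Set G) := fun Y Y' h h' =>
    le_normalizer_of_comm (fun x hx y hy => omegaOneCenter_comm (hV ▸ hx) (hV ▸ hy)) h h'
  have hZW : bZ 2 D ≤ bW 2 D := inf_le_left
  have hXW : X ≤ bW 2 D := hXM.trans bM_le_bW
  obtain ⟨Y, hY⟩ : ∃ Y, Y = X ⊔ bZ 2 D := ⟨_, rfl⟩
  have hYW : Y ≤ bW 2 D := hY ▸ sup_le hXW hZW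
  obtain ⟨r, hr⟩ : ∃ r, r = Y.relIndex (bW 2 D) := ⟨_, rfl⟩
  have hXZ : X ⊓ bZ 2 D = ⊥ := eq_bot_iff.2 ((inf_le_inf_left _ inf_le_right).trans hXc.le)
  have hYcard : Nat.card Y = Nat.card X * Nat.card (bZ 2 D) :=
    hY ▸ CfsgLib.Core.card_sup_of_disjoint _ _ (hXW.trans (bW_le_normalizer_bZ D)) hXZ
  have hWcard : Nat.card (bW 2 D) = Nat.card X * Nat.card (bZ 2 D) * r := by
    rw [← hYcard, hr, ← relIndex_bot_left Y, relIndex_mul_relIndex ⊥ _ _ bot_le hYW, relIndex_bot_left]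
  -- the action of `N_A(D)`
  obtain ⟨CA, hCA⟩ : ∃ CA, CA = A0 ⊓ secKer (bW 2 D) (bZ 2 D) := ⟨_, rfl⟩
  obtain ⟨PX, hPXdef⟩ : ∃ PX, PX = A0 ⊓ centralizer (X : Set G) := ⟨_, rfl⟩
  have hP1 : 2 * Nat.card A0 ≤ Nat.card X * Nat.card PX := hPXdef ▸ index_two_mul_le hA0p
    (fun x hx y hy => hAc x (hA0A hx) y (hA0A hy)) (fun x hx y hy => bW_comm (hXW hx) (hXW hy))
    (fun x hx => omegaOneCenter_pow (hXW hx)) hA0X hc2
  have hP2 : Nat.card PX ≤ r * Nat.card CA := by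
    rw [hPXdef, hCA, hr, hY]
    exact kernel_index_le hA0p (fun x hx y hy => hAc x (hA0A hx) y (hA0A hy)) (fun x hx y hy => bW_comm hx hy)
      (fun x hx => omegaOneCenter_pow hx) hXW hZW hXZ (hA0N.trans (normalizer_le_bW D)) hA0X
      (hA0N.trans (normalizer_le_bZ D)) hc2 fun g hg hgc w hw =>
        hXker g (mem_inf.2 ⟨hA_T (hA0A hg), hA0N hg⟩) hgc w hw
  obtain ⟨U, hU⟩ : ∃ U, U = bM 2 D ⊔ (bM 2 D).map (MulAut.conj a).toMonoidHom := ⟨_, rfl⟩
  have hUV : U ≤ V := hU ▸ sup_le hMV hM1V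
  have hCAM : CA ≤ centralizer (bM 2 D : Set G) := fun g hg => by
    rw [hCA] at hg
    exact nKer_le_centralizer hTD (mem_inf.2 ⟨hA0N hg.1, hg.2⟩)
  have hCAU : U ≤ centralizer (CA : Set G) := by
    rw [hU]
    refine sup_le (le_centralizer_iff.1 hCAM) ?_
    rintro _ ⟨x, hx, rfl⟩
    refine mem_centralizer_iff.2 fun g hg => ?_
    show g * (a * x * a⁻¹) = a * x * a⁻¹ * g
    have hgA : g ∈ A := hA0A (hCA ▸ hg : g ∈ A0 ⊓ secKer (bW 2 D) (bZ 2 D)).1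
    have h1 := mem_centralizer_iff.1 (hCAM hg) x hx
    rw [show g * (a * x * a⁻¹) = (g * a) * x * a⁻¹ by group, hAc g hgA a ha, mul_assoc a g x, ← h1]
    rw [show a * (x * g) * a⁻¹ = a * x * (g * a⁻¹) by group, hAc g hgA _ (inv_mem ha)]
    group
  obtain ⟨K, hK⟩ : ∃ K, K = U ⊓ centralizer (D : Set G) := ⟨_, rfl⟩
  obtain ⟨N1, hN1⟩ : ∃ N1, N1 = U ⊓ centralizer (D : Set G) ⊓ centralizer (D1 : Set G) := ⟨_, rfl⟩
  obtain ⟨FA, hFA⟩ : ∃ FA, FA = U ⊓ centralizer (A : Set G) := ⟨_, rfl⟩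
  have hKU : K ≤ U := hK ▸ inf_le_left
  have hN1K : N1 ≤ K := by rw [hN1, hK]; exact inf_le_left
  have hFAU : FA ≤ U := hFA ▸ inf_le_left
  obtain ⟨C0, hC0⟩ : ∃ C0, C0 = bM 2 D ⊓ centralizer (D : Set G) := ⟨_, rfl⟩
  obtain ⟨w, hw⟩ : ∃ w, w = (bZ 2 D).relIndex (bW 2 D) := ⟨_, rfl⟩
  have hWw : Nat.card (bW 2 D) = Nat.card (bZ 2 D) * w := by
    rw [hw, ← relIndex_bot_left (bZ 2 D), relIndex_mul_relIndex ⊥ _ _ bot_le hZW, relIndex_bot_left]
  have hMcard : Nat.card (bM 2 D) = w * Nat.card C0 := by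
    have h1 := CfsgLib.Core.card_sup_mul_card_inf (bM 2 D) (bZ 2 D) (bM_le_bW.trans (bW_le_normalizer_bZ D))
    rw [← W_eq_sup hTD, show bM 2 D ⊓ bZ 2 D = C0 from hC0 ▸ le_antisymm (inf_le_inf_left _ inf_le_right)
      (le_inf inf_le_left (le_inf (inf_le_left.trans bM_le_bW) inf_le_right)), hWw] at h1
    exact (Nat.eq_of_mul_eq_mul_right (Nat.card_pos (α := bZ 2 D)) (by rw [← h1]; ring)).symm
  have hUK : Nat.card U = w * Nat.card K := by
    have h1 := CfsgLib.Core.card_sup_mul_card_inf (bM 2 D) K (hVn _ _ hMV (hKU.trans hUV))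
    have e1 : bM 2 D ⊔ K = U := by
      refine le_antisymm (sup_le (hU ▸ le_sup_left) hKU) ?_
      conv_lhs => rw [hU]
      exact sup_le le_sup_left (le_trans (hK ▸ le_inf (hU ▸ le_sup_right) (hM1le.trans hD1D)) le_sup_right)
    have e2 : bM 2 D ⊓ K = C0 := by
      rw [hK, hC0, ← inf_assoc, inf_eq_left.2 (hU ▸ le_sup_left : bM 2 D ≤ U)]
    rw [e1, e2, hMcard] at h1
    exact Nat.eq_of_mul_eq_mul_right (Nat.card_pos (α := C0)) (h1.trans (by ring))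
  have hKN : Nat.card K = w * Nat.card N1 := by
    have hM1K : (bM 2 D).map (MulAut.conj a).toMonoidHom ≤ K :=
      hK ▸ le_inf (hU ▸ le_sup_right) (hM1le.trans hD1D)
    have e1 : (bM 2 D).map (MulAut.conj a).toMonoidHom ⊔ N1 = K := by
      refine le_antisymm (sup_le hM1K hN1K) fun x hx => ?_
      have hx' : x ∈ U ∧ x ∈ centralizer (D : Set G) := mem_inf.1 (hK ▸ hx)
      obtain ⟨m1, hm1, m2, hm2, rfl⟩ := (CfsgLib.Core.mem_sup_iff_mul (hVn _ _ hMV hM1V)).1 (hU ▸ hx'.1)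
      have hm1D : m1 ∈ centralizer (D : Set G) := by
        simpa using mul_mem hx'.2 (inv_mem (hM1le.trans hD1D hm2))
      have hm1N : m1 ∈ N1 := hN1 ▸ mem_inf.2 ⟨mem_inf.2 ⟨hU ▸ mem_sup_left hm1, hm1D⟩, hDD1 (hMle hm1)⟩
      exact mul_mem (mem_sup_right hm1N) (mem_sup_left hm2)
    have e2 : (bM 2 D).map (MulAut.conj a).toMonoidHom ⊓ N1 = C0.map (MulAut.conj a).toMonoidHom := by
      rw [hC0, map_inf _ _ (MulAut.conj a).toMonoidHom (MulAut.conj a).injective, conj_centralizer, ← hD1]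
      refine le_antisymm (inf_le_inf_left _ (hN1 ▸ inf_le_right)) (le_inf inf_le_left ?_)
      rw [hN1]
      exact le_inf (inf_le_left.trans (hM1K.trans (le_of_eq hK))) inf_le_right
    have h1 := CfsgLib.Core.card_sup_mul_card_inf _ N1 (hVn _ _ hM1V ((hN1K.trans hKU).trans hUV))
    rw [e1, e2, card_map_of_injective (MulAut.conj a).injective, card_map_of_injective (MulAut.conj a).injective, hMcard] at h1
    exact Nat.eq_of_mul_eq_mul_right (Nat.card_pos (α := C0)) (h1.trans (by ring))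
  let Cf : Subgroup G :=
    { carrier := {x | x ∈ bW 2 D ∧ ∀ b ∈ A0, b * x * b⁻¹ * x⁻¹ ∈ bZ 2 D}
      one_mem' := ⟨one_mem _, fun b _ => by simp⟩
      mul_mem' := fun {x y} hx hy => ⟨mul_mem hx.1 hy.1, fun b hb => by
        have h2 := hy.2 b hb
        rw [show b * (x * y) * b⁻¹ * (x * y)⁻¹ = (b * x * b⁻¹) * ((b * y * b⁻¹ * y⁻¹) * x⁻¹) by group,
          bW_comm (hZW h2) (inv_mem hx.1), ← mul_assoc]
        exact mul_mem (hx.2 b hb) h2⟩
      inv_mem' := fun {x} hx => ⟨inv_mem hx.1, fun b hb => by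
        have h1 := hx.2 b hb
        have h2 : b * x * b⁻¹ ∈ bW 2 D := (mem_normalizer_iff.1 (normalizer_le_bW D (hA0N hb)) x).1 hx.1
        rw [show b * x⁻¹ * b⁻¹ * x⁻¹⁻¹ = (b * x * b⁻¹)⁻¹ * x by group, bW_comm (inv_mem h2) hx.1,
          show x * (b * x * b⁻¹)⁻¹ = (b * x * b⁻¹ * x⁻¹)⁻¹ by group]
        exact inv_mem h1⟩ }
  have hCfW : Cf ≤ bW 2 D := fun x hx => hx.1
  have hZCf : bZ 2 D ≤ Cf := fun z hz => ⟨hz.1, fun b hb =>
    mul_mem ((mem_normalizer_iff.1 (normalizer_le_bZ D (hA0N hb)) z).1 hz) (inv_mem hz)⟩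
  have hCfcard : Nat.card Cf ≤ 2 * Nat.card (bZ 2 D) * r := by
    have hle : Cf ⊓ Y ≤ (X ⊓ centralizer (A0 : Set G)) ⊔ bZ 2 D := by
      rintro x ⟨⟨hxW, hxf⟩, hxY⟩
      obtain ⟨x1, hx1, z, hz, rfl⟩ := (CfsgLib.Core.mem_sup_iff_mul (hXW.trans (bW_le_normalizer_bZ D))).1 (hY ▸ hxY)
      refine mul_mem (mem_sup_left (mem_inf.2 ⟨hx1, mem_centralizer_iff.2 fun b hb => ?_⟩)) (mem_sup_right hz)
      have hd : b * x1 * b⁻¹ * x1⁻¹ ∈ X ⊓ bZ 2 D := by
        refine mem_inf.2 ⟨mul_mem ((mem_normalizer_iff.1 (hA0X hb) x1).1 hx1) (inv_mem hx1), ?_⟩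
        have h1 := hxf b hb
        have hz' := (mem_normalizer_iff.1 (normalizer_le_bZ D (hA0N hb)) z).1 hz
        rw [show b * (x1 * z) * b⁻¹ * (x1 * z)⁻¹ = (b * x1 * b⁻¹) * ((b * z * b⁻¹ * z⁻¹) * x1⁻¹) by group,
          bW_comm (hZW (mul_mem hz' (inv_mem hz))) (inv_mem (hXW hx1)), ← mul_assoc] at h1
        have h2 := mul_mem h1 (inv_mem (mul_mem hz' (inv_mem hz)))
        rwa [mul_inv_cancel_right] at h2
      rw [hXZ, mem_bot, mul_inv_eq_one, mul_inv_eq_iff_eq_mul] at hd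
      exact hd
    have h1 := Subgroup.card_le_of_le hle
    rw [CfsgLib.Core.card_sup_of_disjoint _ _ (inf_le_left.trans (hXW.trans (bW_le_normalizer_bZ D)))
      (eq_bot_iff.2 ((inf_le_inf_right _ inf_le_left).trans hXZ.le)), hc2] at h1
    have h2 : Nat.card ↥(Cf ⊓ Y) * (Cf ⊓ Y).relIndex Cf = Nat.card Cf := by
      rw [← relIndex_bot_left (Cf ⊓ Y), relIndex_mul_relIndex ⊥ _ _ bot_le inf_le_left, relIndex_bot_left]
    rw [← h2, inf_relIndex_left, hr]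
    exact Nat.mul_le_mul h1 (relIndex_le_of_le_right hCfW Subgroup.index_ne_zero_of_finite)
  have hFAcard : Nat.card FA * Nat.card (bZ 2 D) ≤ Nat.card Cf * Nat.card N1 := by
    have hle : FA ⊔ K ≤ (Cf ⊓ bM 2 D) ⊔ K := by
      refine sup_le (fun x hx => ?_) le_sup_right
      have hx' : x ∈ U ∧ x ∈ centralizer (A : Set G) := mem_inf.1 (hFA ▸ hx)
      obtain ⟨m1, hm1, m2, hm2, rfl⟩ := (CfsgLib.Core.mem_sup_iff_mul (hVn _ _ hMV hM1V)).1 (hU ▸ hx'.1)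
      refine mul_mem (mem_sup_left (mem_inf.2 ⟨⟨bM_le_bW hm1, fun b hb => ?_⟩, hm1⟩))
        (mem_sup_right (hK ▸ mem_inf.2 ⟨hU ▸ mem_sup_right hm2, hM1le.trans hD1D hm2⟩))
      have h1 : b * m1 * b⁻¹ ∈ bM 2 D := (mem_normalizer_iff.1 (normalizer_le_bM D (hA0N hb)) m1).1 hm1
      refine mem_inf.2 ⟨bM_le_bW (mul_mem h1 (inv_mem hm1)), ?_⟩
      have hfix : b * (m1 * m2) * b⁻¹ = m1 * m2 := by
        rw [mem_centralizer_iff.1 hx'.2 b (hA0A hb), mul_inv_cancel_right]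
      have h2 : b * m2 * b⁻¹ ∈ centralizer (D : Set G) :=
        (mem_normalizer_iff.1 (CfsgLib.Signalizer.normalizer_le_normalizer_centralizer_set D (hA0N hb)) m2).1 (hM1le.trans hD1D hm2)
      have h4 : b * m1 * b⁻¹ = m1 * (m2 * (b * m2 * b⁻¹)⁻¹) := by
        rw [← mul_assoc, eq_mul_inv_iff_mul_eq]
        refine Eq.trans ?_ hfix
        group
      rw [h4, omegaOneCenter_comm (hV ▸ hMV hm1) (mul_mem (hV ▸ hM1V hm2) (inv_mem (hV ▸ (by
        have e : b * m2 * b⁻¹ = (b * m1 * b⁻¹)⁻¹ * (m1 * m2) := by rw [← hfix]; group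
        rw [e]
        exact mul_mem (inv_mem (hMV h1)) (hUV hx'.1))))), mul_inv_cancel_right]
      exact mul_mem (hM1le.trans hD1D hm2) (inv_mem h2)
    have h1 := CfsgLib.Core.card_sup_mul_card_inf FA K (hVn _ _ (hFAU.trans hUV) (hKU.trans hUV))
    have h2 := CfsgLib.Core.card_sup_mul_card_inf (Cf ⊓ bM 2 D) K (hVn _ _ (inf_le_right.trans hMV) (hKU.trans hUV))
    have e1 : Nat.card ↥(FA ⊓ K) ≤ Nat.card N1 := Subgroup.card_le_of_le (by
      rintro x ⟨hx1, hx2⟩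
      have hx' : x ∈ U ∧ x ∈ centralizer (A : Set G) := mem_inf.1 (hFA ▸ hx1)
      have hxD : x ∈ centralizer (D : Set G) := (mem_inf.1 (hK ▸ hx2)).2
      rw [hN1]
      refine mem_inf.2 ⟨mem_inf.2 ⟨hx'.1, hxD⟩, ?_⟩
      rw [hD1, ← conj_centralizer]
      refine ⟨x, hxD, ?_⟩
      show a * x * a⁻¹ = x
      rw [mem_centralizer_iff.1 hx'.2 a ha, mul_inv_cancel_right])
    have e2 : Cf ⊓ bM 2 D ⊓ K = C0 := by
      rw [hK, hC0]
      refine le_antisymm (le_inf (inf_le_left.trans inf_le_right) (inf_le_right.trans inf_le_right)) ?_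
      refine le_inf (le_inf ((le_inf (inf_le_left.trans bM_le_bW) inf_le_right).trans hZCf) inf_le_left) ?_
      exact le_inf (inf_le_left.trans (hU ▸ le_sup_left)) inf_le_right
    have h3 := Subgroup.card_le_of_le hle
    have h5 := CfsgLib.Core.card_sup_mul_card_inf (Cf ⊓ bM 2 D) (bZ 2 D) (inf_le_right.trans (bM_le_bW.trans (bW_le_normalizer_bZ D)))
    have e3 : Cf ⊓ bM 2 D ⊓ bZ 2 D = C0 := by
      rw [hC0]
      refine le_antisymm (le_inf (inf_le_left.trans inf_le_right) (inf_le_right.trans inf_le_right)) ?_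
      exact le_inf (le_inf ((le_inf (inf_le_left.trans bM_le_bW) inf_le_right).trans hZCf) inf_le_left)
        (le_inf (inf_le_left.trans bM_le_bW) inf_le_right)
    rw [e2] at h2
    rw [e3] at h5
    have h6 := Subgroup.card_le_of_le (sup_le inf_le_left hZCf : Cf ⊓ bM 2 D ⊔ bZ 2 D ≤ Cf)
    refine Nat.le_of_mul_le_mul_right (c := Nat.card K * Nat.card C0) ?_ (Nat.mul_pos Nat.card_pos Nat.card_pos)
    calc Nat.card FA * Nat.card (bZ 2 D) * (Nat.card K * Nat.card C0)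
        = (Nat.card FA * Nat.card K) * (Nat.card (bZ 2 D) * Nat.card C0) := by ring
      _ = Nat.card ↥(FA ⊔ K) * Nat.card ↥(FA ⊓ K) * (Nat.card (bZ 2 D) * Nat.card C0) := by rw [h1]
      _ ≤ Nat.card ↥(Cf ⊓ bM 2 D ⊔ K) * Nat.card N1 * (Nat.card (bZ 2 D) * Nat.card C0) := by gcongr
      _ = Nat.card ↥(Cf ⊓ bM 2 D ⊔ K) * Nat.card C0 * (Nat.card N1 * Nat.card (bZ 2 D)) := by ring
      _ = Nat.card ↥(Cf ⊓ bM 2 D) * Nat.card (bZ 2 D) * (Nat.card N1 * Nat.card K) := by rw [h2]; ring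
      _ = Nat.card ↥(Cf ⊓ bM 2 D ⊔ bZ 2 D) * Nat.card C0 * (Nat.card N1 * Nat.card K) := by rw [h5]
      _ ≤ Nat.card Cf * Nat.card C0 * (Nat.card N1 * Nat.card K) := by gcongr
      _ = Nat.card Cf * Nat.card N1 * (Nat.card K * Nat.card C0) := by ring
  -- an elementary subgroup that is too large
  have hel : IsElementaryAbelian 2 (U ⊔ CA : Subgroup G) :=
    CfsgLib.PLocal.elementary_sup (hVel _ hUV) ⟨⟨⟨fun x y => Subtype.ext (hAc x
      (hA0A (hCA ▸ x.2 : (x : G) ∈ A0 ⊓ secKer (bW 2 D) (bZ 2 D)).1) y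
      (hA0A (hCA ▸ y.2 : (y : G) ∈ A0 ⊓ secKer (bW 2 D) (bZ 2 D)).1))⟩⟩,
      fun x hx => hAel.2 x (hA0A (hCA ▸ hx : x ∈ A0 ⊓ secKer (bW 2 D) (bZ 2 D)).1)⟩ hCAU
  have hCAA : CA ≤ A := hCA ▸ inf_le_left.trans hA0A
  have h1 := hAmax _ (sup_le (hUV.trans hVT) (hCAA.trans hA_T)) hel
  have h2 := CfsgLib.Core.card_sup_mul_card_inf U CA (hCAU.trans (centralizer_le_normalizer _))
  have h3 : Nat.card ↥(U ⊓ CA) ≤ Nat.card FA := Subgroup.card_le_of_le (hFA ▸ inf_le_inf_left _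
    fun g hg => mem_centralizer_iff.2 fun b hb => hAc b hb g (hCAA hg))
  have h4 : Nat.card U * Nat.card CA ≤ Nat.card A0 * 2 * Nat.card FA := by
    rw [← hcardA] at h1
    exact h2 ▸ Nat.mul_le_mul h1 h3
  rw [hUK, hKN] at h4
  have hw' : w = Nat.card X * r := Nat.eq_of_mul_eq_mul_left (Nat.card_pos (α := bZ 2 D))
    (hWw.symm.trans (hWcard.trans (by ring)))
  subst hw'
  have hr0 : 0 < r := by
    rw [hr]
    exact Nat.pos_of_ne_zero Subgroup.index_ne_zero_of_finite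
  have h5 : Nat.card X * r * (Nat.card X * r * Nat.card N1) * Nat.card CA * Nat.card (bZ 2 D) ≤
      Nat.card X * r * Nat.card CA * (2 * Nat.card (bZ 2 D) * r * Nat.card N1) :=
    calc _ ≤ Nat.card A0 * 2 * Nat.card FA * Nat.card (bZ 2 D) := Nat.mul_le_mul_right _ h4
      _ = (2 * Nat.card A0) * (Nat.card FA * Nat.card (bZ 2 D)) := by ring
      _ ≤ (Nat.card X * Nat.card PX) * (Nat.card Cf * Nat.card N1) := Nat.mul_le_mul hP1 hFAcard
      _ ≤ (Nat.card X * (r * Nat.card CA)) * (2 * Nat.card (bZ 2 D) * r * Nat.card N1) := by gcongr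
      _ = _ := by ring
  have hpos : 0 < Nat.card X * r * Nat.card CA * (r * Nat.card N1 * Nat.card (bZ 2 D)) :=
    Nat.mul_pos (Nat.mul_pos (Nat.mul_pos Nat.card_pos hr0) Nat.card_pos)
      (Nat.mul_pos (Nat.mul_pos hr0 Nat.card_pos) Nat.card_pos)
  have h6 : Nat.card X * (Nat.card X * r * Nat.card CA * (r * Nat.card N1 * Nat.card (bZ 2 D))) ≤
      2 * (Nat.card X * r * Nat.card CA * (r * Nat.card N1 * Nat.card (bZ 2 D))) := le_trans (le_of_eq (by ring)) (h5.trans_eq (by ring))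
  exact absurd (Nat.le_of_mul_le_mul_right h6 hpos) (by omega)

theorem thompson_le_normalizer (hG : centralizer (pCore p G : Set G) ≤ pCore p G) {D : Subgroup G}
    (hD : IsSubBlock p D) (T : Sylow p G)
    (hX : HasFixed p D ((T : Subgroup G) ⊓ normalizer (D : Set G))) :
    thompsonSubgroupOf p (T : Subgroup G) ≤ normalizer (D : Set G) := by
  rw [CfsgLib.Transfer.thompsonOf_eq_sSup]
  exact sSup_le fun A hA => maxElem_le_normalizer hG hD T hX hA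

/-- The Baumann subgroup of every Sylow subgroup normalises a subnormal block. -/
theorem baumann_le_normalizer (hG : centralizer (pCore p G : Set G) ≤ pCore p G) {D : Subgroup G}
    (hD : IsSubBlock p D) (T : Sylow p G)
    (hX : HasFixed p D ((T : Subgroup G) ⊓ normalizer (D : Set G))) :
    baumannSubgroupOf p (T : Subgroup G) ≤ normalizer (D : Set G) := by
  have hJ := thompson_le_normalizer hG hD T hX
  obtain ⟨⟨TD, hTD⟩, -⟩ := id hD
  obtain ⟨X, hXM, hPX, hXc, hXne, -⟩ := hX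
  obtain ⟨J, hJdef⟩ : ∃ J, J = thompsonSubgroupOf p (T : Subgroup G) := ⟨_, rfl⟩
  have hJT : J ≤ (T : Subgroup G) := hJdef ▸ thompsonSubgroupOf_le _
  have hJP : J ≤ normalizer (X : Set G) := fun g hg => hPX (mem_inf.2 ⟨hJT hg, hJ (hJdef ▸ hg)⟩)
  obtain ⟨x, hx, hx1⟩ := (Subgroup.bot_or_exists_ne_one _).resolve_left
    (exists_fixed (T.2.to_le hJT) ((bW_pGroup D).to_le (hXM.trans bM_le_bW)) hJP hXne)
  have hxV := bM_le_V hG TD hTD (hXM hx.1)
  have hxT : x ∈ (T : Subgroup G) := CfsgLib.Core.pCore_le_sylow T (V_le_R hxV)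
  have hxJ : x ∈ J := by
    obtain ⟨A₀, hA₀⟩ := CfsgLib.PLocal.exists_maxIn (CfsgLib.PLocal.goodPred_elementary (G := G) p) (T : Subgroup G)
    have hA₀J : A₀ ≤ J := hJdef ▸ CfsgLib.Transfer.le_thompsonOf_of_max hA₀
    exact hA₀J (CfsgLib.Transfer.mem_maxElem_of_centralizes hA₀ hxT (omegaOneCenter_pow hxV)
      (centralizer_le (SetLike.coe_subset_coe.2 hA₀J) hx.2))
  have hxΩ : x ∈ omegaOne p (centerThompsonOf p (T : Subgroup G)) :=
    CfsgLib.PGroups.mem_omegaOne ⟨hJdef ▸ hxJ, hJdef ▸ hx.2⟩ (omegaOneCenter_pow hxV)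
  intro c hc
  refine map_conj_eq_self_iff_mem_normalizer.1 ?_
  rcases sub_blocks_eq_or_commute hG hD (isSubBlock_conj hD c) with h | h
  · exact h.symm
  exfalso
  have hxD : x ∈ D.map (MulAut.conj c).toMonoidHom := by
    refine ⟨x, (bM_le_bW.trans ((bW_le D).trans (pCoreOf_le D))) (hXM hx.1), ?_⟩
    show c * x * c⁻¹ = x
    rw [← mem_centralizer_iff.1 hc.2 x hxΩ, mul_inv_cancel_right]
  have h1 : x ∈ X ⊓ centralizer (D : Set G) :=
    mem_inf.2 ⟨hx.1, le_centralizer_iff.1 (commutator_eq_bot_iff_le_centralizer.1 h) hxD⟩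
  rw [hXc, mem_bot] at h1
  exact hx1 h1

end CfsgLib.LocalEven.SubBlock
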